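import Cfsg.Agent.Lib.ExtraNine17.Defs

/-!
Elements inducing symplectic maps on the points, and transitivity on the non-zero points.
-/

set_option autoImplicit false
set_option linter.unusedSectionVars false

namespace Cfsg.Agent.Lib.ExtraNine17

open Matrix
open scoped Kronecker

variable {F : Type*} [Field F] {w : F}

theorem ch_inj (hw : IsPrimitiveRoot w 3) {a b : ZMod 3} (h : ch w a = ch w b) : a = b :=
  ZMod.val_injective 3 (hw.pow_inj (ZMod.val_lt a) (ZMod.val_lt b) h)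

theorem ch_pow_three (hw : IsPrimitiveRoot w 3) (a : ZMod 3) : ch w a ^ 3 = 1 := by
  rw [ch, ← pow_mul, mul_comm, pow_mul, hw.pow_eq_one, one_pow]

theorem exists_ch (hw : IsPrimitiveRoot w 3) {c : F} (h : c ^ 3 = 1) : ∃ a, c = ch w a := by
  obtain ⟨i, hi, rfl⟩ := hw.eq_pow_of_pow_eq_one h
  exact ⟨(i : ZMod 3), by rw [ch, ZMod.val_natCast, Nat.mod_eq_of_lt hi]⟩

/-- A lift of a non-zero point is not scalar. -/
theorem eq_zero_of_tm (hw : IsPrimitiveRoot w 3) {v : Pt} {c : F} (h : tm w v = c • 1) : v = 0 := by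
  have e := fun j m i k => congrFun (congrFun h (i, k)) (j, m)
  simp only [tm, kroneckerMap_apply, em_apply, Matrix.smul_apply, smul_eq_mul, Matrix.one_apply,
    Prod.mk.injEq] at e
  have h1 := e 0 0 (0 + v.1.1) (0 + v.2.1)
  have ha : v.1.1 = 0 ∧ v.2.1 = 0 := by
    by_contra hn
    rw [if_pos rfl, if_pos rfl, if_neg (by simpa using hn), mul_zero, mul_zero, mul_zero, ch_zero,
      one_mul] at h1
    exact one_ne_zero h1
  rw [ha.1, ha.2] at e
  have hc : c = 1 := by
    have := e 0 0 0 0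
    simpa [ch_zero] using this.symm
  have hb := e 1 0 1 0
  have hd := e 0 1 0 1
  simp only [add_zero, if_true, and_self, mul_one, mul_zero, ch_zero, one_mul, hc] at hb hd
  rw [← ch_zero (w := w)] at hb hd
  exact Prod.ext (Prod.ext ha.1 (ch_inj hw hb)) (Prod.ext ha.2 (ch_inj hw hd))

/-- The point of a lift is determined up to scalars. -/
theorem tm_inj (hw : IsPrimitiveRoot w 3) {v u : Pt} {c : F} (h : tm w v = c • tm w u) : v = u := by
  have h1 := congrArg (fun M => M * tm w (-u)) h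
  simp only [Matrix.smul_mul, tm_mul hw, smul_smul, add_neg_cancel, tm_zero] at h1
  refine eq_of_sub_eq_zero (eq_zero_of_tm hw (c := (ch w (cocy v (-u)))⁻¹ * (c * ch w (cocy u (-u)))) ?_)
  rw [sub_eq_add_neg, ← smul_right_injective _ (ch_ne_zero hw (cocy v (-u))) |>.eq_iff, h1, smul_smul,
    ← mul_assoc, mul_inv_cancel₀ (ch_ne_zero hw _), one_mul]

/-- `g` induces `σ` on the points. -/
def Acts (w : F) (g : Matrix I₉ I₉ F) (σ : Pt → Pt) : Prop :=
  ∀ v, ∃ c : F, g * tm w v = c • (tm w (σ v) * g)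

/-- `g` normalises the standard group modulo scalars. -/
def Norm9 (w : F) (g : Matrix I₉ I₉ F) : Prop := ∃ σ, Acts w g σ

theorem Acts.mul {g h : Matrix I₉ I₉ F} {σ τ : Pt → Pt} (hg : Acts w g σ) (hh : Acts w h τ) :
    Acts w (g * h) (σ ∘ τ) := fun v => by
  obtain ⟨c, hc⟩ := hh v
  obtain ⟨d, hd⟩ := hg (τ v)
  refine ⟨c * d, ?_⟩
  rw [Matrix.mul_assoc, hc, Matrix.mul_smul, ← Matrix.mul_assoc, hd, Matrix.smul_mul, smul_smul,
    Matrix.mul_assoc, Function.comp_apply]

theorem acts_scalar (c : F) : Acts w (c • 1) id := fun v =>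
  ⟨1, by rw [one_smul, Matrix.smul_mul, Matrix.mul_smul, Matrix.one_mul, Matrix.mul_one, id]⟩

theorem acts_tm (hw : IsPrimitiveRoot w 3) (u : Pt) : Acts w (tm w u) id := fun v =>
  ⟨ch w (cocy u v - cocy v u), by
    rw [id, tm_mul hw, tm_mul hw, smul_smul, ← ch_add hw, sub_add_cancel, add_comm]⟩

/-- The elements normalising the standard group modulo scalars. -/
def nrm (w : F) [Finite F] : Subgroup (GL I₉ F) where
  carrier := {g | Norm9 w (g : Matrix I₉ I₉ F)}
  one_mem' := ⟨id, by simpa using acts_scalar (w := w) (1 : F)⟩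
  mul_mem' := fun ⟨σ, hσ⟩ ⟨τ, hτ⟩ => ⟨σ ∘ τ, hσ.mul hτ⟩
  inv_mem' := by
    intro g hg
    have : Finite (GL I₉ F) := inferInstance
    have hp : ∀ n : ℕ, Norm9 w ((g ^ n : GL I₉ F) : Matrix I₉ I₉ F) := by
      intro n
      induction n with
      | zero => exact ⟨id, by simpa using acts_scalar (w := w) (1 : F)⟩
      | succ n ih =>
        obtain ⟨σ, hσ⟩ := ih
        obtain ⟨τ, hτ⟩ := hg
        exact ⟨σ ∘ τ, by rw [pow_succ, Units.val_mul]; exact hσ.mul hτ⟩
    show Norm9 w ((g⁻¹ : GL I₉ F) : Matrix I₉ I₉ F)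
    rw [inv_eq_of_mul_eq_one_right (a := g) (b := g ^ (orderOf g - 1)) (by
      rw [← pow_succ', Nat.sub_add_cancel (orderOf_pos g), pow_orderOf_eq_one])]
    exact hp _

theorem mem_nrm [Finite F] {g : GL I₉ F} : g ∈ nrm w ↔ Norm9 w (g : Matrix I₉ I₉ F) := Iff.rfl

/-- The induced map on points is additive. -/
theorem Acts.map_add (hw : IsPrimitiveRoot w 3) {g : GL I₉ F} {σ : Pt → Pt}
    (hg : Acts w (g : Matrix I₉ I₉ F) σ) (v u : Pt) : σ (v + u) = σ v + σ u := by
  obtain ⟨a, ha⟩ := hg v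
  obtain ⟨b, hb⟩ := hg u
  obtain ⟨c, hc⟩ := hg (v + u)
  have h1 : ((g : Matrix I₉ I₉ F) * tm w v) * tm w u =
      (a * b * ch w (cocy (σ v) (σ u))) • (tm w (σ v + σ u) * g) := by
    rw [ha, Matrix.smul_mul, Matrix.mul_assoc, hb, Matrix.mul_smul, ← Matrix.mul_assoc, tm_mul hw,
      Matrix.smul_mul, smul_smul, smul_smul]
  rw [Matrix.mul_assoc, tm_mul hw, Matrix.mul_smul, hc, smul_smul] at h1
  have h2 := congrArg (fun M => M * ((g⁻¹ : GL I₉ F) : Matrix I₉ I₉ F)) h1
  simp only [Matrix.smul_mul, Matrix.mul_assoc, Units.mul_inv, Matrix.mul_one] at h2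
  have hne : ch w (cocy v u) * c ≠ 0 := by
    refine mul_ne_zero (ch_ne_zero hw _) fun h0 => ?_
    rw [h0, zero_smul] at hc
    have := congrArg (fun M : Matrix I₉ I₉ F => (((tu hw (v + u))⁻¹ * g⁻¹ : GL I₉ F) : Matrix I₉ I₉ F) * M) hc
    simp only [← tu_coe hw, ← Units.val_mul, ← mul_assoc, mul_zero] at this
    rw [mul_assoc _ g⁻¹ g, inv_mul_cancel, mul_one, inv_mul_cancel, Units.val_one] at this
    exact one_ne_zero (congrFun (congrFun this 0) 0)
  refine tm_inj hw (c := (ch w (cocy v u) * c)⁻¹ * (a * b * ch w (cocy (σ v) (σ u)))) ?_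
  rw [← smul_smul, ← h2, smul_smul, inv_mul_cancel₀ hne, one_smul]

/-- `g` induces `σ` on the points of three variables. -/
def Rel3 (w : F) (g : Matrix I₃ I₃ F) (σ : ZMod 3 × ZMod 3 → ZMod 3 × ZMod 3) : Prop :=
  ∀ e, ∃ c : F, g * em w e = c • (em w (σ e) * g)

theorem Rel3.memN3 {g : Matrix I₃ I₃ F} {σ : ZMod 3 × ZMod 3 → ZMod 3 × ZMod 3} (h : Rel3 w g σ) :
    MemN3 w g := fun e => by
  obtain ⟨c, hc⟩ := h e
  exact ⟨c, _, hc⟩

theorem Rel3.kron_left {g : Matrix I₃ I₃ F} {σ : ZMod 3 × ZMod 3 → ZMod 3 × ZMod 3} (h : Rel3 w g σ) :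
    Acts w (g ⊗ₖ (1 : Matrix I₃ I₃ F)) fun v => (σ v.1, v.2) := fun v => by
  obtain ⟨c, hc⟩ := h v.1
  exact ⟨c, by rw [tm, tm, ← mul_kronecker_mul, ← mul_kronecker_mul, Matrix.one_mul, Matrix.mul_one, hc,
    smul_kronecker]⟩

theorem Rel3.kron_right {g : Matrix I₃ I₃ F} {σ : ZMod 3 × ZMod 3 → ZMod 3 × ZMod 3} (h : Rel3 w g σ) :
    Acts w ((1 : Matrix I₃ I₃ F) ⊗ₖ g) fun v => (v.1, σ v.2) := fun v => by
  obtain ⟨c, hc⟩ := h v.2
  exact ⟨c, by rw [tm, tm, ← mul_kronecker_mul, ← mul_kronecker_mul, Matrix.one_mul, Matrix.mul_one, hc,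
    kronecker_smul]⟩

/-- The first elementary map of a plane. -/
def su (e : ZMod 3 × ZMod 3) : ZMod 3 × ZMod 3 := (e.1, e.2 + e.1)

/-- The second elementary map of a plane. -/
def sv (e : ZMod 3 × ZMod 3) : ZMod 3 × ZMod 3 := (e.1 - e.2, e.2)

theorem rel3_hom0 (hw : IsPrimitiveRoot w 3) : Rel3 w (hom0 w) su := by
  intro e
  refine ⟨ch w (-(e.1 * e.1)), ?_⟩
  ext i j
  rw [hom0, Matrix.smul_apply, Matrix.diagonal_mul, Matrix.mul_diagonal, em_apply, em_apply, su, smul_eq_mul]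
  by_cases h : i = j + e.1
  · rw [if_pos h, if_pos h, h]
    have hw' : w = ch w 1 := ch_one.symm
    have h1 : ∀ m : ZMod 3, (if m = 0 then w else 1) = ch w (1 - m * m) := by
      intro m
      rcases (by decide : ∀ m : ZMod 3, m = 0 ∨ m = 1 ∨ m = 2) m with rfl | rfl | rfl
      · rw [if_pos rfl, show (1 : ZMod 3) - 0 * 0 = 1 by decide, ch_one]
      · rw [if_neg (by decide), show (1 : ZMod 3) - 1 * 1 = 0 by decide, ch_zero]
      · rw [if_neg (by decide), show (1 : ZMod 3) - 2 * 2 = 0 by decide, ch_zero]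
    rw [h1, h1, ← ch_add hw, ← ch_add hw, ← ch_add hw]
    congr 1
    have h3 : (3 : ZMod 3) = 0 := by decide
    linear_combination (-(e.1 * j)) * h3
  · rw [if_neg h, if_neg h, mul_zero, zero_mul, mul_zero]

theorem Rel3.add (hw : IsPrimitiveRoot w 3) {g : Matrix I₃ I₃ F} {σ : ZMod 3 × ZMod 3 → ZMod 3 × ZMod 3}
    {e f : ZMod 3 × ZMod 3} {a b : F} (ha : g * em w e = a • (em w (σ e) * g))
    (hb : g * em w f = b • (em w (σ f) * g)) (hσ : σ (e + f) = σ e + σ f) :
    ∃ c : F, g * em w (e + f) = c • (em w (σ (e + f)) * g) := by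
  refine ⟨(ch w (e.2 * f.1))⁻¹ * (a * b * ch w ((σ e).2 * (σ f).1)), ?_⟩
  have h1 : g * em w e * em w f = (a * b * ch w ((σ e).2 * (σ f).1)) • (em w (σ e + σ f) * g) := by
    rw [ha, Matrix.smul_mul, Matrix.mul_assoc, hb, Matrix.mul_smul, ← Matrix.mul_assoc, em_mul hw,
      Matrix.smul_mul, smul_smul, smul_smul]
  rw [Matrix.mul_assoc, em_mul hw, Matrix.mul_smul] at h1
  rw [hσ, ← smul_smul, ← h1, smul_smul, inv_mul_cancel₀ (ch_ne_zero hw _), one_smul]

theorem rel3_hom1 (hw : IsPrimitiveRoot w 3) (h3 : (3 : F) ≠ 0) : Rel3 w (hom1 w) sv := by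
  have h2 : w ^ 2 + w + 1 = 0 := by
    have := hw.geom_sum_eq_zero (by norm_num)
    simpa [Finset.sum_range_succ, add_comm, add_left_comm, add_assoc] using this
  have hw3 := hw.pow_eq_one
  have hX : hom1 w * em w (1, 0) = (1 : F) • (em w (sv (1, 0)) * hom1 w) := by
    ext i j
    rw [Matrix.smul_apply, Matrix.mul_apply, Matrix.mul_apply, one_smul]
    simp only [sv, sub_zero, hom1, em_apply, zero_mul, ch_zero, Matrix.add_apply, Matrix.smul_apply,
      Matrix.of_apply, Matrix.one_apply, smul_eq_mul, mul_one, mul_ite, mul_zero, ite_mul, one_mul,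
      Finset.sum_ite_eq', Finset.mem_univ, if_true]
    rw [Finset.sum_eq_single (i - 1) (fun m _ hm => if_neg fun he => hm (by rw [he, add_sub_cancel_right]))
      (fun h => absurd (Finset.mem_univ _) h), if_pos (sub_add_cancel i 1).symm]
    simp only [sub_eq_iff_eq_add]
  have hZ : hom1 w * em w (0, 1) = w • (em w (sv (0, 1)) * hom1 w) := by
    ext i j
    rw [Matrix.smul_apply, Matrix.mul_apply, Matrix.mul_apply]
    have hsv : sv ((0 : ZMod 3), (1 : ZMod 3)) = (2, 1) := by decide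
    rw [Finset.sum_eq_single j (fun m _ hm => by rw [em_apply, if_neg (by simpa using hm), mul_zero])
        (fun h => absurd (Finset.mem_univ _) h),
      Finset.sum_eq_single (i + 1) (fun m _ hm => by
        rw [hsv, em_apply, if_neg, zero_mul]
        intro he
        apply hm
        rw [he, add_assoc, show (2 : ZMod 3) + 1 = 0 by decide, add_zero]) (fun h => absurd (Finset.mem_univ _) h),
      hsv, em_apply, em_apply, if_pos (add_zero j).symm,
      if_pos (by rw [add_assoc, show (1 : ZMod 3) + 2 = 0 by decide, add_zero]), one_mul, one_mul, smul_eq_mul]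
    have c1 : ch w 1 = w := ch_one
    have c2 : ch w 2 = w ^ 2 := rfl
    simp only [hom1, Matrix.add_apply, Matrix.smul_apply, Matrix.of_apply, Matrix.one_apply, smul_eq_mul,
      mul_one]
    have hsq : w ^ 2 = -w - 1 := by linear_combination h2
    have hw4 : w ^ 4 = w := by linear_combination w * hw3
    have hd : ∀ x : ZMod 3, x = 0 ∨ x = 1 ∨ x = 2 := by decide
    rcases hd i with rfl | rfl | rfl <;> rcases hd j with rfl | rfl | rfl <;>
      simp (config := { decide := true }) only [if_true, if_false,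
        show (0 : ZMod 3) + 1 = 1 from rfl, show (1 : ZMod 3) + 1 = 2 from rfl,
        show (2 : ZMod 3) + 1 = 0 from rfl, ch_zero, c1, c2] <;>
      field_simp <;>
      ring_nf <;> simp only [hw4, hw3, hsq] <;> ring1
  intro e
  have key : ∀ a b : ℕ, ∃ c : F, hom1 w * em w ((a : ZMod 3), (b : ZMod 3)) =
      c • (em w (sv ((a : ZMod 3), (b : ZMod 3))) * hom1 w) := by
    intro a b
    induction a with
    | zero =>
      induction b with
      | zero => exact ⟨1, by simp [sv, show ((0 : ZMod 3), (0 : ZMod 3)) = 0 from rfl, em_zero]⟩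
      | succ b ih =>
        obtain ⟨c, hc⟩ := ih
        have := Rel3.add hw (σ := sv) hc hZ (by simp [sv]; abel)
        simpa using this
    | succ a ih =>
      obtain ⟨c, hc⟩ := ih
      have := Rel3.add hw (σ := sv) hc hX (by simp [sv]; abel)
      simpa using this
  have := key e.1.val e.2.val
  rwa [ZMod.natCast_rightInverse e.1, ZMod.natCast_rightInverse e.2] at this

/-- The shear mixing the two factors. -/
def shear (F : Type*) [Field F] : Matrix I₉ I₉ F :=
  Matrix.of fun i j => if i = (j.1 + j.2, j.2) then 1 else 0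

/-- The exchange of the two factors. -/
def swapM (F : Type*) [Field F] : Matrix I₉ I₉ F :=
  Matrix.of fun i j => if i = (j.2, j.1) then 1 else 0

/-- The map induced by the shear. -/
def spi (v : Pt) : Pt := ((v.1.1 + v.2.1, v.1.2), (v.2.1, v.2.2 - v.1.2))

theorem tm_apply (v : Pt) (i j : I₉) :
    tm w v i j = em w v.1 i.1 j.1 * em w v.2 i.2 j.2 := rfl

theorem acts_shear (hw : IsPrimitiveRoot w 3) : Acts w (shear F) spi := by
  intro v
  refine ⟨1, ?_⟩
  ext i j
  rw [one_smul, Matrix.mul_apply, Matrix.mul_apply,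
    Finset.sum_eq_single (i.1 - i.2, i.2) ?_ (fun h => absurd (Finset.mem_univ _) h),
    Finset.sum_eq_single (j.1 + j.2, j.2) ?_ (fun h => absurd (Finset.mem_univ _) h)]
  · simp only [shear, Matrix.of_apply, tm_apply, em_apply, spi, sub_add_cancel, if_true, one_mul, mul_one,
      Prod.mk.eta]
    by_cases h2 : i.2 = j.2 + v.2.1
    · have hiff : i.1 = j.1 + j.2 + (v.1.1 + v.2.1) ↔ i.1 - i.2 = j.1 + v.1.1 := by
        rw [h2, sub_eq_iff_eq_add]
        constructor <;> intro h <;> rw [h] <;> abel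
      by_cases h1 : i.1 - i.2 = j.1 + v.1.1
      · rw [if_pos h1, if_pos h2, if_pos (hiff.2 h1), if_pos h2, ← ch_add hw, ← ch_add hw]
        congr 1
        ring
      · rw [if_neg h1, if_neg fun h => h1 (hiff.1 h), zero_mul, zero_mul]
    · rw [if_neg h2, if_neg h2, mul_zero, mul_zero]
  · intro m _ hm
    rw [shear, Matrix.of_apply, if_neg hm, mul_zero]
  · intro m _ hm
    rw [shear, Matrix.of_apply, if_neg ?_, zero_mul]
    intro he
    apply hm
    rw [he]
    simp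

theorem acts_swap : Acts w (swapM F) Prod.swap := by
  intro v
  refine ⟨1, ?_⟩
  ext i j
  rw [one_smul, Matrix.mul_apply, Matrix.mul_apply,
    Finset.sum_eq_single (i.2, i.1) ?_ (fun h => absurd (Finset.mem_univ _) h),
    Finset.sum_eq_single (j.2, j.1) ?_ (fun h => absurd (Finset.mem_univ _) h)]
  · simp only [swapM, Matrix.of_apply, tm_apply, Prod.fst_swap, Prod.snd_swap, Prod.mk.eta, if_true, one_mul,
      mul_one]
    exact mul_comm _ _
  · intro m _ hm
    rw [swapM, Matrix.of_apply, if_neg hm, mul_zero]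
  · intro m _ hm
    rw [swapM, Matrix.of_apply, if_neg ?_, zero_mul]
    intro he
    exact hm (by rw [he])

/-- A subgroup containing the scalars, the standard group and generators of its normaliser. -/
structure Over (hw : IsPrimitiveRoot w 3) (G : Subgroup (GL I₉ F)) : Prop where
  scal : Cfsg.Geo.scalars I₉ F ≤ G
  tu_mem : ∀ v, tu hw v ∈ G
  a0 : ∃ u ∈ G, (u : Matrix I₉ I₉ F) = hom0 w ⊗ₖ (1 : Matrix I₃ I₃ F)
  a1 : ∃ u ∈ G, (u : Matrix I₉ I₉ F) = hom1 w ⊗ₖ (1 : Matrix I₃ I₃ F)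
  b0 : ∃ u ∈ G, (u : Matrix I₉ I₉ F) = (1 : Matrix I₃ I₃ F) ⊗ₖ hom0 w
  b1 : ∃ u ∈ G, (u : Matrix I₉ I₉ F) = (1 : Matrix I₃ I₃ F) ⊗ₖ hom1 w
  sh : ∃ u ∈ G, (u : Matrix I₉ I₉ F) = shear F
  sw : ∃ u ∈ G, (u : Matrix I₉ I₉ F) = swapM F

/-- A plane orbit reaches every non-zero vector. -/
theorem plane_orbit {S : Set (ZMod 3 × ZMod 3)} (h0 : (0, 1) ∈ S) (hu : ∀ e ∈ S, su e ∈ S)
    (hv : ∀ e ∈ S, sv e ∈ S) {e : ZMod 3 × ZMod 3} (he : e ≠ 0) : e ∈ S := by
  have e21 : (2, 1) ∈ S := hv _ h0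
  have e11 : (1, 1) ∈ S := hv _ e21
  have e20 : (2, 0) ∈ S := hu _ e21
  have e22 : (2, 2) ∈ S := hu _ e20
  have e12 : (1, 2) ∈ S := hu _ e11
  have e10 : (1, 0) ∈ S := hu _ e12
  have e02 : (0, 2) ∈ S := hv _ e22
  obtain ⟨a, b⟩ := e
  fin_cases a <;> fin_cases b
  all_goals first
    | exact absurd rfl he
    | exact h0 | exact e21 | exact e11 | exact e20 | exact e22 | exact e12 | exact e10 | exact e02

/-- Elements of `G` normalising the standard group are transitive on the non-zero points. -/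
theorem exists_acts {hw : IsPrimitiveRoot w 3} (h3 : (3 : F) ≠ 0) {G : Subgroup (GL I₉ F)} (hG : Over hw G)
    {v : Pt} (hv : v ≠ 0) :
    ∃ n ∈ G, ∃ σ, Acts w (n : Matrix I₉ I₉ F) σ ∧ σ ((0, 0), (0, 1)) = v := by
  let S : Set Pt := {v | ∃ n ∈ G, ∃ σ, Acts w (n : Matrix I₉ I₉ F) σ ∧ σ ((0, 0), (0, 1)) = v}
  change v ∈ S
  have step : ∀ {m : Matrix I₉ I₉ F} {τ : Pt → Pt}, (∃ u ∈ G, (u : Matrix I₉ I₉ F) = m) → Acts w m τ →
      ∀ z ∈ S, τ z ∈ S := by
    rintro m τ ⟨u, hu, rfl⟩ hτ z ⟨n, hn, σ, hσ, rfl⟩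
    exact ⟨u * n, G.mul_mem hu hn, τ ∘ σ, hτ.mul hσ, rfl⟩
  have hA0 := step hG.a0 (rel3_hom0 hw).kron_left
  have hA1 := step hG.a1 (rel3_hom1 hw h3).kron_left
  have hB0 := step hG.b0 (rel3_hom0 hw).kron_right
  have hB1 := step hG.b1 (rel3_hom1 hw h3).kron_right
  have hSh := step hG.sh (acts_shear hw)
  have hSw := step hG.sw acts_swap
  have base : ((0, 0), (0, 1)) ∈ S :=
    ⟨1, G.one_mem, id, by simpa using acts_scalar (w := w) (1 : F), rfl⟩
  have right : ∀ e : ZMod 3 × ZMod 3, e ≠ 0 → ((0, 0), e) ∈ S := fun e he =>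
    plane_orbit (S := {e | ((0, 0), e) ∈ S}) base (fun z hz => hB0 _ hz) (fun z hz => hB1 _ hz) he
  obtain ⟨e, f⟩ := v
  by_cases hf : f = 0
  · subst hf
    refine hSw _ (right e fun he => hv ?_)
    rw [he]; rfl
  by_cases he : e = 0
  · subst he; exact right f hf
  have hmix : ((1, 0), (1, 0)) ∈ S := by
    have := hSh _ (right (1, 0) (by decide))
    simpa [spi] using this
  have h01f : ((1, 0), f) ∈ S := by
    have h1 : ((1, 0), (0, 1)) ∈ S := by
      have := hB1 _ (hB0 _ hmix)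
      have e' : sv (su ((1 : ZMod 3), (0 : ZMod 3))) = (0, 1) := by decide
      simpa [e'] using this
    exact plane_orbit (S := {f | ((1, 0), f) ∈ S}) h1 (fun z hz => hB0 _ hz) (fun z hz => hB1 _ hz) hf
  have h01 : ((0, 1), f) ∈ S := by
    have := hA1 _ (hA0 _ h01f)
    have e' : sv (su ((1 : ZMod 3), (0 : ZMod 3))) = (0, 1) := by decide
    simpa [e'] using this
  exact plane_orbit (S := {e | (e, f) ∈ S}) h01 (fun z hz => hA0 _ hz) (fun z hz => hA1 _ hz) he

end Cfsg.Agent.Lib.ExtraNine17
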