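import Cfsg.Agent.Lib.ExtraNine17.Act
import Cfsg.Agent.Lib.LinGroup.Generation

/-!
One elementary transvection and the affine permutations give all elementary transvections.
-/

set_option autoImplicit false
set_option linter.unusedSectionVars false

namespace Cfsg.Agent.Lib.ExtraNine17

open Matrix
open scoped Kronecker

variable {F : Type*} [Field F] {w : F} {hw : IsPrimitiveRoot w 3} {G : Subgroup (GL I₉ F)}

/-- `G` has all elementary transvections. -/
def AllRoots (G : Subgroup (GL I₉ F)) : Prop :=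
  ∀ (a b : I₉), a ≠ b → ∀ c : F, ∃ u ∈ G, (u : Matrix I₉ I₉ F) = Matrix.transvection a b c

/-- `G` has one elementary transvection. -/
def OneRoot (G : Subgroup (GL I₉ F)) : Prop :=
  ∃ (a b : I₉) (c : F), a ≠ b ∧ c ≠ 0 ∧ ∃ u ∈ G, (u : Matrix I₉ I₉ F) = Matrix.transvection a b c

/-- A matrix permuting the coordinates by `π` moves elementary transvections. -/
theorem root_conj {m : Matrix I₉ I₉ F} {π : I₉ → I₉} (hπ : Function.Injective π)
    (hm : ∀ i j, m i j = if i = π j then 1 else 0) {n u : GL I₉ F} (hn : (n : Matrix I₉ I₉ F) = m)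
    {a b : I₉} {c : F} (hu : (u : Matrix I₉ I₉ F) = Matrix.transvection a b c) :
    ((n * u * n⁻¹ : GL I₉ F) : Matrix I₉ I₉ F) = Matrix.transvection (π a) (π b) c := by
  have h : (n : Matrix I₉ I₉ F) * u = Matrix.transvection (π a) (π b) c * n := by
    rw [hn, hu, Matrix.transvection, Matrix.transvection, mul_add, add_mul, mul_one, one_mul]
    congr 1
    ext i j
    by_cases hj : j = b
    · subst hj
      rw [Matrix.mul_single_apply_same]
      by_cases hi : i = π a
      · subst hi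
        rw [Matrix.single_mul_apply_same, hm, hm, if_pos rfl, if_pos rfl, one_mul, mul_one]
      · rw [Matrix.single_mul_apply_of_ne (h := hi), hm, if_neg hi, zero_mul]
    · rw [Matrix.mul_single_apply_of_ne (hbj := hj)]
      by_cases hi : i = π a
      · subst hi
        rw [Matrix.single_mul_apply_same, hm, if_neg (fun e => hj (hπ e.symm)), mul_zero]
      · rw [Matrix.single_mul_apply_of_ne (h := hi)]
  rw [Units.val_mul, Units.val_mul, h, Matrix.mul_assoc, Units.mul_inv, Matrix.mul_one]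

theorem shear_apply (i j : I₉) : shear F i j = if i = (j.1 + j.2, j.2) then 1 else 0 := rfl

theorem swapM_apply (i j : I₉) : swapM F i j = if i = (j.2, j.1) then 1 else 0 := rfl

theorem tm_shift (a b : ZMod 3) (i j : I₉) :
    tm w ((a, 0), (b, 0)) i j = if i = (j.1 + a, j.2 + b) then 1 else 0 := by
  rw [tm, kroneckerMap_apply, em_apply, em_apply, zero_mul, zero_mul, ch_zero]
  obtain ⟨i1, i2⟩ := i
  by_cases h1 : i1 = j.1 + a <;> by_cases h2 : i2 = j.2 + b <;> simp [h1, h2]

theorem allRoots_of_one (hG : Over hw G) {p : ℕ} [Fact p.Prime] [CharP F p] [Fintype F]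
    (hp : Fintype.card F = p) (h : OneRoot G) : AllRoots G := by
  obtain ⟨a, b, c₀, hab, hc₀, hu⟩ := h
  let P : I₉ → I₉ → Prop := fun a b => ∃ u ∈ G, (u : Matrix I₉ I₉ F) = Matrix.transvection a b c₀
  have move : ∀ {m : Matrix I₉ I₉ F} {π : I₉ → I₉}, Function.Injective π →
      (∀ i j, m i j = if i = π j then 1 else 0) → (∃ n ∈ G, (n : Matrix I₉ I₉ F) = m) →
      ∀ a b, P a b → P (π a) (π b) := by
    rintro m π hπ hm ⟨n, hn, hnm⟩ a b ⟨u, hu, hum⟩
    exact ⟨n * u * n⁻¹, G.mul_mem (G.mul_mem hn hu) (G.inv_mem hn), root_conj hπ hm hnm hum⟩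
  have tr : ∀ d a b, P a b → P (a + d) (b + d) := by
    intro d a b h
    exact move (π := fun j => j + d) (add_left_injective d) (fun i j => tm_shift d.1 d.2 i j)
      ⟨_, hG.tu_mem _, tu_coe hw _⟩ a b h
  let D : Set I₉ := {d | P 0 d}
  have hP : ∀ a b, b - a ∈ D → P a b := fun a b h => by
    have := tr a _ _ h
    rwa [zero_add, sub_add_cancel] at this
  have hsh : ∀ d ∈ D, (d.1 + d.2, d.2) ∈ D := fun d hd => by
    have := move (π := fun j => (j.1 + j.2, j.2)) (fun x y e => by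
      obtain ⟨e1, e2⟩ := Prod.ext_iff.1 e
      simp only at e1 e2
      rw [e2] at e1
      exact Prod.ext (add_right_cancel e1) e2) shear_apply hG.sh 0 d hd
    show P 0 _
    simpa [Prod.mk_zero_zero] using this
  have hswap : ∀ d ∈ D, (d.2, d.1) ∈ D := fun d hd => by
    have := move (π := fun j => (j.2, j.1)) (fun x y e => by
      obtain ⟨e1, e2⟩ := Prod.ext_iff.1 e
      exact Prod.ext e2 e1) swapM_apply hG.sw 0 d hd
    show P 0 _
    simpa [Prod.mk_zero_zero] using this
  have hd0 : b - a ∈ D := by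
    have := tr (-a) _ _ hu
    show P 0 _
    simpa [sub_eq_add_neg] using this
  have hshear2 : ∀ d ∈ D, (d.1, d.2 + d.1) ∈ D := fun d hd => hswap _ (hsh _ (hswap _ hd))
  have from10 : ((1, 0) : I₉) ∈ D → ∀ d : I₉, d ≠ 0 → d ∈ D := by
    intro h10 d hd
    have h01 : ((0, 1) : I₉) ∈ D := hswap _ h10
    have h11 : ((1, 1) : I₉) ∈ D := hsh _ h01
    have h21 : ((2, 1) : I₉) ∈ D := hsh _ h11
    have h12 : ((1, 2) : I₉) ∈ D := hswap _ h21
    have h02 : ((0, 2) : I₉) ∈ D := hsh _ h12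
    have h22 : ((2, 2) : I₉) ∈ D := hsh _ h02
    have h20 : ((2, 0) : I₉) ∈ D := hswap _ h02
    rcases (by decide : ∀ d : I₉, d = 0 ∨ d = (1, 0) ∨ d = (0, 1) ∨ d = (1, 1) ∨ d = (2, 1) ∨ d = (1, 2) ∨
        d = (0, 2) ∨ d = (2, 2) ∨ d = (2, 0)) d with rfl | rfl | rfl | rfl | rfl | rfl | rfl | rfl | rfl
    all_goals first | exact absurd rfl hd | assumption
  have to10 : ∀ z ∈ D, z ≠ 0 → ((1, 0) : I₉) ∈ D := by
    intro z hz hz0
    have s01 : ((0, 1) : I₉) ∈ D → ((1, 0) : I₉) ∈ D := fun h => hswap _ h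
    have s21 : ((2, 1) : I₉) ∈ D → ((1, 0) : I₉) ∈ D := fun h => s01 (hsh _ h)
    have s11 : ((1, 1) : I₉) ∈ D → ((1, 0) : I₉) ∈ D := fun h => s21 (hsh _ h)
    have s12 : ((1, 2) : I₉) ∈ D → ((1, 0) : I₉) ∈ D := fun h => s21 (hswap _ h)
    have s22 : ((2, 2) : I₉) ∈ D → ((1, 0) : I₉) ∈ D := fun h => s12 (hsh _ h)
    have s02 : ((0, 2) : I₉) ∈ D → ((1, 0) : I₉) ∈ D := fun h => s22 (hsh _ h)
    have s20 : ((2, 0) : I₉) ∈ D → ((1, 0) : I₉) ∈ D := fun h => s02 (hswap _ h)
    rcases (by decide : ∀ d : I₉, d = 0 ∨ d = (1, 0) ∨ d = (0, 1) ∨ d = (1, 1) ∨ d = (2, 1) ∨ d = (1, 2) ∨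
        d = (0, 2) ∨ d = (2, 2) ∨ d = (2, 0)) z with rfl | rfl | rfl | rfl | rfl | rfl | rfl | rfl | rfl
    · exact absurd rfl hz0
    · exact hz
    · exact s01 hz
    · exact s11 hz
    · exact s21 hz
    · exact s12 hz
    · exact s02 hz
    · exact s22 hz
    · exact s20 hz
  have hall := from10 (to10 _ hd0 (sub_ne_zero.2 hab.symm))
  intro a b hab c
  obtain ⟨u, hu, hum⟩ := hP a b (hall _ (sub_ne_zero.2 hab.symm))
  have hpow : ∀ n : ℕ, ((u ^ n : GL I₉ F) : Matrix I₉ I₉ F) = Matrix.transvection a b (n * c₀) := by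
    intro n
    induction n with
    | zero => simp
    | succ n ih =>
      rw [pow_succ, Units.val_mul, ih, hum, Matrix.transvection_mul_transvection_same _ _ hab, Nat.cast_succ]
      congr 1
      ring
  have hbij : Function.Bijective (ZMod.castHom dvd_rfl F : ZMod p →+* F) :=
    (Fintype.bijective_iff_injective_and_card _).2 ⟨ZMod.castHom_injective _, by rw [ZMod.card, hp]⟩
  obtain ⟨z, hz⟩ := hbij.2 (c / c₀)
  refine ⟨u ^ z.val, G.pow_mem hu _, ?_⟩
  rw [hpow]
  congr 1
  have hzc : ((z.val : ℕ) : F) = c / c₀ := by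
    rw [← hz, ← map_natCast (ZMod.castHom dvd_rfl F : ZMod p →+* F), ZMod.natCast_zmod_val]
  rw [hzc, div_mul_cancel₀ _ hc₀]

/-- A group with all elementary transvections contains everything of determinant one. -/
theorem sl_le_of_allRoots (h : AllRoots G) : Cfsg.Geo.specialLinear I₉ F ≤ G := by
  intro g hg
  have h1 : Matrix.GeneralLinearGroup.det g = 1 := hg
  have hd : (g : Matrix I₉ I₉ F).det = 1 := by
    rw [← GeneralLinearGroup.val_det_apply, h1, Units.val_one]
  have := LinGroup.SL_transvection_induction (fun A : SpecialLinearGroup I₉ F =>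
    (SpecialLinearGroup.toGL A) ∈ G) (by rw [map_one]; exact G.one_mem) (fun i j hij c => by
    obtain ⟨u, hu, hum⟩ := h i j hij c
    have e : SpecialLinearGroup.toGL (SpecialLinearGroup.transvection hij c) = u :=
      Units.ext (by rw [hum, ← LinGroup.coe_transvection hij c]; rfl)
    rwa [e])
    (fun A B hA hB => by rw [map_mul]; exact G.mul_mem hA hB) ⟨_, hd⟩
  rwa [show g = SpecialLinearGroup.toGL (⟨_, hd⟩ : SpecialLinearGroup I₉ F) from Units.ext rfl]

end Cfsg.Agent.Lib.ExtraNine17
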