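import Cfsg.Agent.Lib.ExtraNine17.Act
import Cfsg.Agent.Lib.LinGroup.Simple

/-!
Facts on invertible matrices in three variables.
-/

set_option autoImplicit false
set_option linter.unusedSectionVars false

namespace Cfsg.Agent.Lib.ExtraNine17

open Matrix
open scoped commutatorElement

variable {F : Type*} [Field F] {w : F}

/-- Scalars in three variables. -/
def sc : Fˣ →* GL I₃ F := Units.map (Matrix.scalar I₃ : F →+* Matrix I₃ I₃ F).toMonoidHom

theorem sc_coe (c : Fˣ) : (sc c : Matrix I₃ I₃ F) = (c : F) • 1 := by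
  show Matrix.scalar I₃ (c : F) = _
  rw [Matrix.scalar_apply, Matrix.smul_one_eq_diagonal]

/-- Being scalar. -/
def IsSc (g : GL I₃ F) : Prop := ∃ c : Fˣ, g = sc c

theorem sc_comm (c : Fˣ) (g : GL I₃ F) : g * sc c = sc c * g := by
  refine Units.ext ?_
  rw [Units.val_mul, Units.val_mul, sc_coe, Matrix.mul_smul, Matrix.smul_mul, Matrix.one_mul, Matrix.mul_one]

theorem sc_mem_center (c : Fˣ) : sc c ∈ Subgroup.center (GL I₃ F) :=
  Subgroup.mem_center_iff.2 fun g => sc_comm c g

theorem isSc_one : IsSc (1 : GL I₃ F) := ⟨1, (map_one sc).symm⟩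

theorem IsSc.mul {g h : GL I₃ F} (hg : IsSc g) (hh : IsSc h) : IsSc (g * h) := by
  obtain ⟨a, rfl⟩ := hg; obtain ⟨b, rfl⟩ := hh
  exact ⟨a * b, (map_mul sc a b).symm⟩

theorem IsSc.inv {g : GL I₃ F} (hg : IsSc g) : IsSc g⁻¹ := by
  obtain ⟨a, rfl⟩ := hg
  exact ⟨a⁻¹, (map_inv sc a).symm⟩

/-- An elementary transvection as a unit. -/
def tvu (i j : I₃) (h : i ≠ j) (c : F) : GL I₃ F :=
  SpecialLinearGroup.toGL (SpecialLinearGroup.transvection h c)

theorem tvu_coe (i j : I₃) (h : i ≠ j) (c : F) :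
    (tvu i j h c : Matrix I₃ I₃ F) = Matrix.transvection i j c := rfl

theorem tvu_mul (i j : I₃) (h : i ≠ j) (c d : F) : tvu i j h c * tvu i j h d = tvu i j h (c + d) :=
  Units.ext (by rw [Units.val_mul, tvu_coe, tvu_coe, tvu_coe, Matrix.transvection_mul_transvection_same _ _ h])

theorem tvu_pow (i j : I₃) (h : i ≠ j) (c : F) (n : ℕ) : tvu i j h c ^ n = tvu i j h (n * c) := by
  induction n with
  | zero => refine Units.ext ?_; simp [tvu_coe]
  | succ n ih =>
    rw [pow_succ, ih, tvu_mul, Nat.cast_succ]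
    congr 1
    ring

/-- Embedding of `SL₃`. -/
def up : SpecialLinearGroup I₃ F →* GL I₃ F := SpecialLinearGroup.toGL

theorem up_coe (u : SpecialLinearGroup I₃ F) : ((up u : GL I₃ F) : Matrix I₃ I₃ F) = u := rfl

theorem exists_up {g : GL I₃ F} (h : (g : Matrix I₃ I₃ F).det = 1) : ∃ u, up u = g :=
  ⟨⟨_, h⟩, Units.ext rfl⟩

/-- Only scalars commute with every element of determinant one. -/
theorem isSc_of_comm {g : GL I₃ F} (h : ∀ (i j : I₃) (hij : i ≠ j), g * tvu i j hij 1 = tvu i j hij 1 * g) :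
    IsSc g := by
  have e : ∀ i j : I₃, i ≠ j → Commute (Matrix.single i j (1 : F)) (g : Matrix I₃ I₃ F) := by
    intro i j hij
    have := congrArg (Units.val : GL I₃ F → Matrix I₃ I₃ F) (h i j hij)
    rw [Units.val_mul, Units.val_mul, tvu_coe, Matrix.transvection, mul_add, add_mul, mul_one, one_mul,
      add_right_inj] at this
    exact this.symm
  obtain ⟨c, hc⟩ := Matrix.mem_range_scalar_of_commute_single (M := (g : Matrix I₃ I₃ F)) fun i j hij => e i j hij
  have hc0 : c ≠ 0 := by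
    rintro rfl
    rw [map_zero] at hc
    exact g.ne_zero hc.symm
  exact ⟨Units.mk0 c hc0, Units.ext hc.symm⟩

/-- A non-scalar element has a non-scalar commutator with some element of determinant one. -/
theorem exists_comm_not_sc {g : GL I₃ F} (hg : ¬ IsSc g) :
    ∃ t : SpecialLinearGroup I₃ F, ¬ IsSc (up t * g * (up t)⁻¹ * g⁻¹) := by
  by_contra hc
  push Not at hc
  choose z hz using hc
  have hmul : ∀ s t, z (s * t) = z s * z t := by
    intro s t
    have e : sc (z (s * t)) = sc (z s * z t) := by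
      rw [← hz (s * t), map_mul sc, ← hz s, map_mul up, _root_.mul_inv_rev]
      have hzt := hz t
      calc up s * up t * g * ((up t)⁻¹ * (up s)⁻¹) * g⁻¹
          = up s * (up t * g * (up t)⁻¹ * g⁻¹) * g * (up s)⁻¹ * g⁻¹ := by group
        _ = up s * sc (z t) * g * (up s)⁻¹ * g⁻¹ := by rw [hzt]
        _ = sc (z t) * (up s * g * (up s)⁻¹ * g⁻¹) := by rw [sc_comm]; group
        _ = (up s * g * (up s)⁻¹ * g⁻¹) * sc (z t) := by rw [sc_comm]
    have e' := congrArg (fun M : GL I₃ F => (M : Matrix I₃ I₃ F) 0 0) e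
    simp only [sc_coe, Matrix.smul_apply, Matrix.one_apply_eq, smul_eq_mul, mul_one] at e'
    exact Units.ext e'
  let f : SpecialLinearGroup I₃ F →* Fˣ := MonoidHom.mk' z hmul
  have hf : ∀ t, z t = 1 := by
    intro t
    have h1 : t ∈ commutator (SpecialLinearGroup I₃ F) := by
      rw [LinGroup.commutator_SL_eq_top (by simp)]; exact Subgroup.mem_top t
    exact MonoidHom.mem_ker.1 (Abelianization.commutator_subset_ker f h1)
  refine hg (isSc_of_comm fun i j hij => ?_)
  have h1 := hz (SpecialLinearGroup.transvection hij 1)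
  rw [hf, map_one sc, mul_inv_eq_one, mul_inv_eq_iff_eq_mul] at h1
  exact h1.symm

/-- A non-scalar group normalised by all of `SL₃` contains it. -/
theorem sl_le_of_normalised [Finite F] (K : Subgroup (GL I₃ F))
    (hK : ∀ t : SpecialLinearGroup I₃ F, ∀ k ∈ K, up t * k * (up t)⁻¹ ∈ K)
    (hne : ∃ k ∈ K, ¬ IsSc k) : ∀ t, up t ∈ K := by
  obtain ⟨k, hk, hksc⟩ := hne
  obtain ⟨t₀, ht₀⟩ := exists_comm_not_sc hksc
  let N : Subgroup (SpecialLinearGroup I₃ F) := K.comap up
  haveI : N.Normal := ⟨fun x hx t => by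
    show up (t * x * t⁻¹) ∈ K
    rw [map_mul, map_mul, map_inv]
    exact hK t _ hx⟩
  have hdet : ((up t₀ * k * (up t₀)⁻¹ * k⁻¹ : GL I₃ F) : Matrix I₃ I₃ F).det = 1 := by
    rw [← GeneralLinearGroup.val_det_apply, map_mul, map_mul, map_mul, map_inv, map_inv,
      mul_inv_cancel_comm, mul_inv_cancel, Units.val_one]
  obtain ⟨d, hd⟩ := exists_up hdet
  have hdN : d ∈ N := by
    show up d ∈ K
    rw [hd]
    exact K.mul_mem (hK t₀ k hk) (K.inv_mem hk)
  have hnc : ¬ N ≤ Subgroup.center (SpecialLinearGroup I₃ F) := by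
    intro hle
    apply ht₀
    rw [← hd]
    exact isSc_of_comm fun i j hij => by
      show up d * up _ = up _ * up d
      rw [← map_mul, ← map_mul, Subgroup.mem_center_iff.1 (hle hdN)]
  haveI := LinGroup.isSimpleGroup_PSL (ι := I₃) (F := F) (by simp)
  set π := QuotientGroup.mk' (Subgroup.center (SpecialLinearGroup I₃ F)) with hπ
  haveI : (N.map π).Normal := Subgroup.Normal.map inferInstance π (QuotientGroup.mk'_surjective _)
  have htop : N = ⊤ := by
    rcases Subgroup.Normal.eq_bot_or_eq_top (H := N.map π) inferInstance with h | h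
    · exfalso
      apply hnc
      rw [Subgroup.map_eq_bot_iff, hπ, QuotientGroup.ker_mk'] at h
      exact h
    · rw [eq_top_iff, ← LinGroup.commutator_SL_eq_top (ι := I₃) (F := F) (by simp), commutator_eq_closure,
        Subgroup.closure_le]
      rintro _ ⟨a, b, rfl⟩
      obtain ⟨n, hn, e⟩ := (h ▸ Subgroup.mem_top (π a) : π a ∈ N.map π)
      have hz := QuotientGroup.eq.mp e
      have e : ⁅a, b⁆ = n * (b * n⁻¹ * b⁻¹) := by
        have hc := Subgroup.mem_center_iff.mp hz b
        obtain ⟨z, rfl⟩ : ∃ z, a = n * z := ⟨n⁻¹ * a, by rw [mul_inv_cancel_left]⟩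
        rw [inv_mul_cancel_left] at hc
        calc ⁅n * z, b⁆ = n * (z * b) * z⁻¹ * n⁻¹ * b⁻¹ := by rw [commutatorElement_def]; group
          _ = n * (b * n⁻¹ * b⁻¹) := by rw [← hc]; group
      rw [e]
      exact N.mul_mem hn (Subgroup.Normal.conj_mem inferInstance _ (N.inv_mem hn) b)
  intro t
  have : t ∈ N := htop ▸ Subgroup.mem_top t
  exact this

/-- The first homology as a unit. -/
def h0u (hw : IsPrimitiveRoot w 3) : GL I₃ F :=
  ⟨hom0 w, diagonal fun i => if i = 0 then w⁻¹ else 1,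
    by
      rw [hom0, diagonal_mul_diagonal, ← diagonal_one]
      congr 1; ext i
      by_cases h : i = 0 <;> simp [h, mul_inv_cancel₀ (hw.ne_zero (by norm_num))],
    by
      rw [hom0, diagonal_mul_diagonal, ← diagonal_one]
      congr 1; ext i
      by_cases h : i = 0 <;> simp [h, inv_mul_cancel₀ (hw.ne_zero (by norm_num))]⟩

theorem h0u_coe (hw : IsPrimitiveRoot w 3) : (h0u hw : Matrix I₃ I₃ F) = hom0 w := rfl

theorem allOnes_mul : (Matrix.of fun _ _ => (1 : F) : Matrix I₃ I₃ F) * Matrix.of (fun _ _ => (1 : F)) =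
    (3 : F) • Matrix.of fun _ _ => (1 : F) := by
  ext i j
  simp [Matrix.mul_apply]

theorem w_rel (hw : IsPrimitiveRoot w 3) : w ^ 2 + w + 1 = 0 := by
  have := hw.geom_sum_eq_zero (by norm_num)
  simpa [Finset.sum_range_succ, add_comm, add_left_comm, add_assoc] using this

theorem hom1_mul (hw : IsPrimitiveRoot w 3) (h3 : (3 : F) ≠ 0) :
    hom1 w * hom1 (w ^ 2) = 1 := by
  rw [hom1, hom1, add_mul, mul_add, mul_add, one_mul, one_mul, mul_one, Matrix.smul_mul, Matrix.mul_smul,
    allOnes_mul, smul_smul, smul_smul, add_assoc, ← add_smul, ← add_smul]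
  rw [add_eq_left]
  convert zero_smul F _ using 2
  field_simp
  linear_combination (w - 1) * w_rel hw + (0 : F) * hw.pow_eq_one

/-- The second homology as a unit. -/
def h1u (hw : IsPrimitiveRoot w 3) (h3 : (3 : F) ≠ 0) : GL I₃ F :=
  ⟨hom1 w, hom1 (w ^ 2), hom1_mul hw h3,
    _root_.mul_eq_one_comm.1 (hom1_mul hw h3)⟩

theorem h1u_coe (hw : IsPrimitiveRoot w 3) (h3 : (3 : F) ≠ 0) : (h1u hw h3 : Matrix I₃ I₃ F) = hom1 w := rfl

end Cfsg.Agent.Lib.ExtraNine17
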