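import Cfsg.Agent.Lib.ExtraNine17.Standard
import Cfsg.Agent.Lib.ExtraNine17.Three
import Cfsg.Agent.Lib.ExtraNine17.Roots
import Cfsg.Agent.Lib.TensorSquare17.Main
import Cfsg.Agent.Lib.GeoTypesSL.Basic
import Cfsg.Agent.Lib.LinearFrame.Main

/-!
The normaliser of a group of order `3 ^ 5` of symplectic type is maximal in `SL_9(p)`, given the
statement about overgroups of the standard normaliser, and the other classes in degree nine.
-/

set_option autoImplicit false
set_option linter.unusedSectionVars false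

namespace Cfsg.Agent.Lib.ExtraNine17

open Matrix Cfsg Cfsg.Geo
open scoped Kronecker

variable {F : Type*} [Field F] {w : F}

theorem mem_sl9 {ι : Type} [Fintype ι] [DecidableEq ι] {g : GL ι F} :
    g ∈ specialLinear ι F ↔ (g : Matrix ι ι F).det = 1 := by
  change Matrix.GeneralLinearGroup.det g = 1 ↔ _
  rw [← Units.val_eq_one, Matrix.GeneralLinearGroup.val_det_apply]

theorem det_em_cube (hw : IsPrimitiveRoot w 3) (e : ZMod 3 × ZMod 3) : (em w e).det ^ 3 = 1 := by
  have h : em w e * em w e * em w e = ch w (e.2 * e.1 + (e + e).2 * e.1) • (1 : Matrix I₃ I₃ F) := by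
    rw [em_mul hw, Matrix.smul_mul, em_mul hw, smul_smul, ← ch_add hw,
      show e + e + e = 0 from by
        ext <;> simp <;> ring_nf <;> simp [show (3 : ZMod 3) = 0 from rfl], em_zero]
  have h2 := congrArg Matrix.det h
  rw [det_mul, det_mul, det_smul, det_one, mul_one] at h2
  rw [pow_three, ← mul_assoc, h2]
  simpa using ch_pow_three hw (e.2 * e.1 + (e + e).2 * e.1)

theorem det_kron_one {A B : Matrix I₃ I₃ F} (hA : A.det ^ 3 = 1) (hB : B.det ^ 3 = 1) :
    (A ⊗ₖ B).det = 1 := by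
  rw [det_kronecker, show Fintype.card I₃ = 3 from ZMod.card 3, hA, hB, one_mul]

theorem det_tm (hw : IsPrimitiveRoot w 3) (v : Pt) : (tm w v).det = 1 :=
  det_kron_one (det_em_cube hw _) (det_em_cube hw _)

theorem det_hom0 : (hom0 w).det = w := by
  rw [hom0, det_diagonal]
  simp

theorem det_hom1_cube (hw : IsPrimitiveRoot w 3) (h3 : (3 : F) ≠ 0) : (hom1 w).det ^ 3 = 1 := by
  have h2 : hom1 w * hom1 w = hom1 (w ^ 2) := by
    rw [hom1, hom1, add_mul, mul_add, mul_add, one_mul, one_mul, mul_one, Matrix.smul_mul, Matrix.mul_smul,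
      allOnes_mul, smul_smul, smul_smul, add_assoc, ← add_smul, ← add_smul]
    congr 2
    field_simp
    ring
  rw [pow_three, ← det_mul, h2, ← det_mul, hom1_mul hw h3, det_one]

/-- The Kronecker product of two units. -/
def kru (A B : GL I₃ F) : GL I₉ F :=
  ⟨(A : Matrix I₃ I₃ F) ⊗ₖ (B : Matrix I₃ I₃ F), ((A⁻¹ : GL I₃ F) : Matrix I₃ I₃ F) ⊗ₖ ((B⁻¹ : GL I₃ F) : Matrix I₃ I₃ F),
    by rw [← mul_kronecker_mul, Units.mul_inv, Units.mul_inv, one_kronecker_one],
    by rw [← mul_kronecker_mul, Units.inv_mul, Units.inv_mul, one_kronecker_one]⟩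

theorem kru_coe (A B : GL I₃ F) :
    (kru A B : Matrix I₉ I₉ F) = (A : Matrix I₃ I₃ F) ⊗ₖ (B : Matrix I₃ I₃ F) := rfl

/-- The shear of the coordinates. -/
def shearPerm : Equiv.Perm I₉ where
  toFun i := (i.1 - i.2, i.2)
  invFun i := (i.1 + i.2, i.2)
  left_inv i := by simp
  right_inv i := by simp

theorem shear_eq_perm : shear F = shearPerm.permMatrix F := by
  ext i j
  rw [shear_apply, Equiv.Perm.permMatrix, PEquiv.toMatrix_apply]
  simp only [Equiv.toPEquiv_apply, Option.mem_def, Option.some.injEq]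
  refine if_congr ?_ rfl rfl
  rw [← Equiv.eq_symm_apply]
  rfl

/-- The exchange of the coordinates. -/
def swapPerm : Equiv.Perm I₉ := Equiv.prodComm _ _

theorem swapM_eq_perm : swapM F = swapPerm.permMatrix F := by
  ext i j
  rw [swapM_apply, Equiv.Perm.permMatrix, PEquiv.toMatrix_apply]
  simp only [Equiv.toPEquiv_apply, Option.mem_def, Option.some.injEq]
  refine if_congr ?_ rfl rfl
  rw [← Equiv.eq_symm_apply]
  rfl

theorem det_shear : (shear F).det = 1 := by
  rw [shear_eq_perm, Matrix.det_permutation, show Equiv.Perm.sign shearPerm = 1 by decide]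
  simp

theorem det_swapM : (swapM F).det = -1 := by
  rw [swapM_eq_perm, Matrix.det_permutation, show Equiv.Perm.sign swapPerm = -1 by decide]
  simp

section Std

variable [Finite F]

theorem conj_mem_rstd (hw : IsPrimitiveRoot w 3) {g : GL I₉ F} (hg : g ∈ nrm w) {x : GL I₉ F}
    (hx : x ∈ rstd hw) : g * x * g⁻¹ ∈ rstd hw := by
  obtain ⟨a, v, hxv⟩ := hx
  obtain ⟨σ, hσ⟩ := hg
  obtain ⟨c, hc⟩ := hσ v
  have hgu : ((g * tu hw v * g⁻¹ : GL I₉ F) : Matrix I₉ I₉ F) = c • tm w (σ v) := by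
    rw [Units.val_mul, Units.val_mul, tu_coe, hc, Matrix.smul_mul, Matrix.mul_assoc, Units.mul_inv,
      Matrix.mul_one]
  have hcube : ∀ u : Pt, tm w u * tm w u * tm w u = (1 : Matrix I₉ I₉ F) := by
    intro u
    have h0 : u + u + u = 0 := by
      ext <;> simp <;> ring_nf <;> simp [show (3 : ZMod 3) = 0 from rfl]
    rw [tm_mul hw, Matrix.smul_mul, tm_mul hw, smul_smul, ← ch_add hw, h0, tm_zero]
    rw [show cocy u u + cocy (u + u) u = 0 by
      simp [cocy]; ring_nf; simp [show (3 : ZMod 3) = 0 from rfl], ch_zero, one_smul]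
  have h3 : c ^ 3 = 1 := by
    have e1 : ((g * tu hw v * g⁻¹ : GL I₉ F) ^ 3 : GL I₉ F) = 1 := by
      have hv : tu hw v ^ 3 = 1 := Units.ext (by
        rw [pow_three, ← mul_assoc, Units.val_mul, Units.val_mul, tu_coe, hcube, Units.val_one])
      rw [conj_pow, hv, mul_one, mul_inv_cancel]
    have e2 := congrArg (fun z : GL I₉ F => (z : Matrix I₉ I₉ F)) e1
    simp only [Units.val_pow_eq_pow_val, hgu, smul_pow, Units.val_one] at e2
    rw [pow_three (tm w (σ v)), ← mul_assoc, hcube] at e2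
    have := congrFun (congrFun e2 0) 0
    simpa using this
  obtain ⟨b, hb⟩ := exists_ch hw h3
  refine ⟨a + b, σ v, ?_⟩
  have hsplit : ((g * x * g⁻¹ : GL I₉ F) : Matrix I₉ I₉ F) =
      ch w a • ((g * tu hw v * g⁻¹ : GL I₉ F) : Matrix I₉ I₉ F) := by
    simp only [Units.val_mul, hxv, tu_coe, Matrix.mul_smul, Matrix.smul_mul]
  rw [hsplit, hgu, smul_smul, hb, ch_add hw]

theorem mem_normalizer_rstd (hw : IsPrimitiveRoot w 3) {g : GL I₉ F} :
    g ∈ subgroupNormalizer (rstd hw) ↔ g ∈ nrm w := by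
  constructor
  · intro hg
    have h : ∀ v, ∃ u : Pt, ∃ c : F, (g : Matrix I₉ I₉ F) * tm w v = c • (tm w u * g) := by
      intro v
      obtain ⟨a, u, hu⟩ := ((Subgroup.mem_normalizer_iff).1 hg (tu hw v)).1
        ⟨0, v, by rw [ch_zero, one_smul, tu_coe]⟩
      refine ⟨u, ch w a, ?_⟩
      rw [← Matrix.smul_mul, ← hu, Units.val_mul, Units.val_mul, tu_coe, Matrix.mul_assoc, Units.inv_mul,
        Matrix.mul_one]
    choose σ hσ using h
    exact ⟨σ, hσ⟩
  · intro hg
    rw [subgroupNormalizer, Subgroup.mem_normalizer_iff]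
    intro x
    refine ⟨conj_mem_rstd hw hg, fun hx => ?_⟩
    have := conj_mem_rstd hw ((nrm w).inv_mem hg) hx
    rwa [inv_inv, mul_assoc, inv_mul_cancel_right, inv_mul_cancel_left] at this

theorem scalars_le_nrm : scalars I₉ F ≤ nrm w := by
  intro g hg
  obtain ⟨c, hc⟩ := (mem_scalars_iff g).1 hg
  exact ⟨id, by rw [hc]; exact acts_scalar _⟩

/-- A transvection across the blocks does not normalise the standard group. -/
theorem exists_not_nrm (hw : IsPrimitiveRoot w 3) :
    ∃ g ∈ specialLinear I₉ F, g ∉ nrm w := by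
  have hne : ((0, 0) : I₉) ≠ (0, 1) := by decide
  obtain ⟨t, ht⟩ : ∃ t : GL I₉ F, (t : Matrix I₉ I₉ F) = Matrix.transvection (0, 0) (0, 1) 1 :=
    ⟨⟨Matrix.transvection (0, 0) (0, 1) 1, Matrix.transvection (0, 0) (0, 1) (-1),
      by rw [Matrix.transvection_mul_transvection_same (h := hne), add_neg_cancel, Matrix.transvection_zero],
      by rw [Matrix.transvection_mul_transvection_same (h := hne), neg_add_cancel, Matrix.transvection_zero]⟩, rfl⟩
  refine ⟨t, ?_, ?_⟩
  · rw [mem_sl9, ht, Matrix.det_transvection_of_ne _ _ hne]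
  rintro ⟨σ, hσ⟩
  obtain ⟨c, hc⟩ := hσ ((0, 0), (0, 1))
  rw [ht, Matrix.transvection, add_mul, one_mul, mul_add, mul_one] at hc
  generalize σ ((0, 0), (0, 1)) = u at hc
  have e1 := congrFun (congrFun hc ((0, 0) : I₉)) ((0, 0) : I₉)
  have e2 := congrFun (congrFun hc ((0, 0) : I₉)) ((0, 1) : I₉)
  simp only [Matrix.add_apply, Matrix.smul_apply, smul_eq_mul, Matrix.single_mul_apply_same,
    Matrix.mul_single_apply_same, Matrix.mul_single_apply_of_ne (hbj := hne), one_mul, mul_one] at e1 e2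
  simp only [tm, kroneckerMap_apply, em_apply, zero_mul, zero_add, mul_zero, add_zero, mul_one, one_mul,
    ch_zero, if_true, show ((0 : ZMod 3) = 1) = False from eq_false (by decide),
    show ((1 : ZMod 3) = 0) = False from eq_false (by decide), if_false, ch_one] at e1 e2
  by_cases h1 : (0 : ZMod 3) = u.1.1
  · by_cases h2 : (0 : ZMod 3) = u.2.1
    · rw [if_pos h1, if_pos h2, if_neg (show ¬ (0 : ZMod 3) = 1 + u.2.1 by rw [← h2]; decide), mul_zero,
        zero_add, one_mul] at e2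
      rw [if_pos h1, if_pos h2, one_mul] at e1
      rw [← e1] at e2
      exact hw.ne_one (by norm_num) e2
    · rw [if_neg h2, mul_zero, mul_zero] at e1
      exact one_ne_zero e1
  · rw [if_neg h1, zero_mul, mul_zero] at e1
    exact one_ne_zero e1

theorem transvection_mem_sl {t : GL I₉ F} {a b : I₉} {c : F} (hab : a ≠ b)
    (ht : (t : Matrix I₉ I₉ F) = Matrix.transvection a b c) : t ∈ specialLinear I₉ F := by
  rw [mem_sl9, ht, Matrix.det_transvection_of_ne _ _ hab]

/-- The standard normaliser is maximal. -/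
theorem isMaximalIn_std [Fintype F] {p : ℕ} [Fact p.Prime] [CharP F p] (h3 : (3 : F) ≠ 0)
    (hw : IsPrimitiveRoot w 3)
    (hcore : ∀ G : Subgroup (GL I₉ F), Over hw G → ¬ G ≤ nrm w → specialLinear I₉ F ≤ G) :
    IsMaximalIn (specialLinear I₉ F) (subgroupNormalizer (rstd hw) ⊓ specialLinear I₉ F) := by
  refine ⟨lt_of_le_of_ne inf_le_right fun hEq => ?_, fun M hNM hMS => ?_⟩
  · obtain ⟨g, hg, hgn⟩ := exists_not_nrm (F := F) hw
    rw [← hEq] at hg
    exact hgn ((mem_normalizer_rstd hw).1 hg.1)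
  have key : ∀ {g : GL I₉ F} {σ : Pt → Pt}, Acts w (g : Matrix I₉ I₉ F) σ → (g : Matrix I₉ I₉ F).det = 1 →
      g ∈ M ⊔ scalars I₉ F := fun hσ hd =>
    Subgroup.mem_sup_left (hNM ⟨(mem_normalizer_rstd hw).2 ⟨_, hσ⟩, mem_sl9.2 hd⟩)
  have hw3 : w ^ 3 = 1 := hw.pow_eq_one
  have d0 : (hom0 w).det ^ 3 = 1 := by rw [det_hom0, hw3]
  have d1 : (hom1 w).det ^ 3 = 1 := det_hom1_cube hw h3
  have dI : (1 : Matrix I₃ I₃ F).det ^ 3 = 1 := by rw [det_one, one_pow]
  have hOver : Over hw (M ⊔ scalars I₉ F) := by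
    refine ⟨le_sup_right, fun v => key (g := tu hw v) (acts_tm hw v) (det_tm hw v), ⟨kru (h0u hw) 1, ?_, rfl⟩,
      ⟨kru (h1u hw h3) 1, ?_, rfl⟩, ⟨kru 1 (h0u hw), ?_, rfl⟩, ⟨kru 1 (h1u hw h3), ?_, rfl⟩, ?_, ?_⟩
    · exact key (by rw [kru_coe, h0u_coe, Units.val_one]; exact (rel3_hom0 hw).kron_left)
        (by rw [kru_coe, h0u_coe, Units.val_one]; exact det_kron_one d0 dI)
    · exact key (by rw [kru_coe, h1u_coe, Units.val_one]; exact (rel3_hom1 hw h3).kron_left)
        (by rw [kru_coe, h1u_coe, Units.val_one]; exact det_kron_one d1 dI)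
    · exact key (by rw [kru_coe, h0u_coe, Units.val_one]; exact (rel3_hom0 hw).kron_right)
        (by rw [kru_coe, h0u_coe, Units.val_one]; exact det_kron_one dI d0)
    · exact key (by rw [kru_coe, h1u_coe, Units.val_one]; exact (rel3_hom1 hw h3).kron_right)
        (by rw [kru_coe, h1u_coe, Units.val_one]; exact det_kron_one dI d1)
    · let s : GL I₉ F := GeneralLinearGroup.mk'' (shear F) (by rw [det_shear]; exact isUnit_one)
      exact ⟨s, key (g := s) (acts_shear hw) det_shear, rfl⟩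
    · let s : GL I₉ F := GeneralLinearGroup.mk'' (-swapM F)
        (by rw [det_neg, det_swapM]; simp [I₉])
      have hsd : (s : Matrix I₉ I₉ F).det = 1 := by
        show (-swapM F).det = 1
        rw [det_neg, det_swapM, show Fintype.card I₉ = 9 by simp [I₉]]
        norm_num
      have hs : Acts w (s : Matrix I₉ I₉ F) Prod.swap := by
        show Acts w (-swapM F) Prod.swap
        intro v
        obtain ⟨c, hc⟩ := (acts_swap (F := F) (w := w)) v
        exact ⟨c, by rw [Matrix.neg_mul, hc, Matrix.mul_neg, smul_neg]⟩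
      refine ⟨-1 * s, Subgroup.mul_mem _ (Subgroup.mem_sup_right ?_) (key hs hsd), ?_⟩
      · exact (mem_scalars_iff _).2 ⟨-1, by simp⟩
      · show -1 * -swapM F = swapM F
        rw [neg_mul, one_mul, neg_neg]
  by_cases hle : M ⊔ scalars I₉ F ≤ nrm w
  · refine Or.inl (le_antisymm (fun g hg => ⟨(mem_normalizer_rstd hw).2 (hle (Subgroup.mem_sup_left hg)),
      hMS hg⟩) hNM)
  refine Or.inr (le_antisymm hMS (sl_le_of_allRoots fun a b hab c => ?_))
  have hS := hcore _ hOver hle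
  obtain ⟨t, ht⟩ : ∃ t : GL I₉ F, (t : Matrix I₉ I₉ F) = Matrix.transvection a b c :=
    ⟨GeneralLinearGroup.mk'' (Matrix.transvection a b c)
      (by rw [Matrix.det_transvection_of_ne _ _ hab]; exact isUnit_one), rfl⟩
  have htS := transvection_mem_sl hab ht
  obtain ⟨m, hm, z, hz, hmz⟩ := Subgroup.mem_sup_of_normal_right.1 (hS htS)
  obtain ⟨k, hk⟩ := (mem_scalars_iff z).1 hz
  have hk9 : (k : F) ^ 9 = 1 := by
    have hmd := mem_sl9.1 (hMS hm)
    have htd := mem_sl9.1 htS
    rw [← hmz, Units.val_mul, det_mul, hmd, one_mul, hk, det_smul, det_one, mul_one] at htd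
    simpa [I₉] using htd
  have hcomm : Commute m z := by
    refine Units.ext ?_
    rw [Units.val_mul, Units.val_mul, hk, Matrix.mul_smul, Matrix.smul_mul, Matrix.mul_one, Matrix.one_mul]
  have h9p : Nat.Coprime 9 p := by
    refine Nat.Coprime.pow_left 2 ((Nat.coprime_primes Nat.prime_three (Fact.out : p.Prime)).2 fun e => ?_)
    subst e
    exact h3 (by exact_mod_cast CharP.cast_eq_zero F 3)
  obtain ⟨e, he9, hep⟩ : ∃ e : ℕ, 9 ∣ e ∧ e ≡ 1 [MOD p] := by
    obtain ⟨e, he, he'⟩ := Nat.chineseRemainder h9p 0 1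
    exact ⟨e, Nat.modEq_zero_iff_dvd.1 he, he'⟩
  have hze : z ^ e = 1 := by
    obtain ⟨d, rfl⟩ := he9
    refine Units.ext ?_
    rw [Units.val_pow_eq_pow_val, hk, smul_pow, one_pow, pow_mul, hk9, one_pow, one_smul, Units.val_one]
  refine ⟨m ^ e, M.pow_mem hm e, ?_⟩
  have h1 : t ^ e = m ^ e := by rw [← hmz, hcomm.mul_pow, hze, mul_one]
  have hpow : ∀ n : ℕ, ((t ^ n : GL I₉ F) : Matrix I₉ I₉ F) = Matrix.transvection a b (n * c) := by
    intro n
    induction n with
    | zero => simp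
    | succ n ih =>
      rw [pow_succ, Units.val_mul, ih, ht, Matrix.transvection_mul_transvection_same (h := hab), Nat.cast_succ,
        add_mul, one_mul]
  rw [← h1, hpow, ((CharP.natCast_eq_natCast F p).2 hep : ((e : ℕ) : F) = ((1 : ℕ) : F)), Nat.cast_one, one_mul]

end Std

variable [Fintype F]

/-- Clause 6, given the statement about overgroups of the standard normaliser. -/
theorem clause6
    (hcore : ∀ (p : ℕ), p.Prime → Fintype.card F = p → p % 3 = 1 →
      ∀ {w : F} (hw : IsPrimitiveRoot w 3) (G : Subgroup (GL I₉ F)),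
        Over hw G → ¬ G ≤ nrm w → specialLinear I₉ F ≤ G) :
    (∃ p : ℕ, p.Prime ∧ Fintype.card F = p ∧ p % 3 = 1) →
      ∀ R : Subgroup (GL (Fin 9) F), IsLinearSymplecticTypeData 3 R →
        IsMaximalIn (specialLinear (Fin 9) F) (subgroupNormalizer R ⊓ specialLinear (Fin 9) F) := by
  rintro ⟨p, hp, hF, h3⟩ R hR
  haveI := Fact.mk hp
  haveI : CharP F p := charP_of_card_eq_prime hF
  have h3F : (3 : F) ≠ 0 := by
    intro h
    have h' : ((3 : ℕ) : F) = 0 := by exact_mod_cast h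
    rw [CharP.cast_eq_zero_iff F p, Nat.prime_dvd_prime_iff_eq hp Nat.prime_three] at h'
    omega
  obtain ⟨w, hw, Φ, hdet, hmap⟩ := exists_std p hp hF h3 R hR
  have h := GeoTypesSL.isMaximalIn_map Φ (isMaximalIn_std (p := p) h3F hw (hcore p hp hF h3 hw))
  have hSL : (specialLinear I₉ F).map Φ.toMonoidHom = specialLinear (Fin 9) F := by
    ext g
    refine ⟨?_, fun hg => ⟨Φ.symm g, ?_, Φ.apply_symm_apply g⟩⟩
    · rintro ⟨x, hx, rfl⟩
      show Matrix.GeneralLinearGroup.det (Φ x) = 1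
      rw [hdet]
      exact hx
    · show Matrix.GeneralLinearGroup.det (Φ.symm g) = 1
      rw [← hdet, Φ.apply_symm_apply]
      exact hg
  rwa [Subgroup.map_inf _ _ _ Φ.injective, hSL, subgroupNormalizer, Subgroup.map_equiv_normalizer_eq, hmap] at h

/-- Clauses 1, 2, 3, 4, 5, 8 and 9 in degree nine. -/
theorem otherClauses :
    (∀ W : Submodule F (Fin 9 → F), W ≠ ⊥ → W ≠ ⊤ → IsMaximalIn (specialLinear (Fin 9) F) (subspaceStabilizer W ⊓ specialLinear (Fin 9) F)) ∧
    (5 ≤ Fintype.card F → ∀ D : Fin 9 → Submodule F (Fin 9 → F), IsMDecomposition 1 D → IsMaximalIn (specialLinear (Fin 9) F) (decompositionStabilizer D ⊓ specialLinear (Fin 9) F)) ∧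
    (∀ D : Fin 3 → Submodule F (Fin 9 → F), IsMDecomposition 3 D → IsMaximalIn (specialLinear (Fin 9) F) (decompositionStabilizer D ⊓ specialLinear (Fin 9) F)) ∧
    (∀ K : Subalgebra F (Matrix (Fin 9) (Fin 9) F), IsFieldSubalgebra 3 K → IsMaximalIn (specialLinear (Fin 9) F) (subalgebraNormalizer K ⊓ specialLinear (Fin 9) F)) ∧
    (∀ (F₀ : Subfield F) (r : ℕ) (P : GL (Fin 9) F), r.Prime → Fintype.card F = Nat.card F₀ ^ r → IsMaximalIn (specialLinear (Fin 9) F) (subfieldSubgroup F₀ P ⊓ specialLinear (Fin 9) F)) ∧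
    (∀ (e : Fin 9 ≃ (Fin 2 → Fin 3)) (P : GL (Fin 9) F), IsMaximalIn (specialLinear (Fin 9) F) (tensorWreathSubgroup 3 2 e P ⊓ specialLinear (Fin 9) F)) ∧
    (Odd (Fintype.card F) → ∀ Q : (Fin 9 → F) → F, IsNondegenerateQuadraticForm Q → IsMaximalIn (specialLinear (Fin 9) F) (quadSimilarityGroup Q ⊓ specialLinear (Fin 9) F)) ∧
    (∀ (σ : F ≃+* F) (f : (Fin 9 → F) → (Fin 9 → F) → F), IsUnitaryForm σ f → IsMaximalIn (specialLinear (Fin 9) F) (similarityGroup f ⊓ specialLinear (Fin 9) F)) := by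
  refine ⟨?_, ?_, ?_, ?_, ?_, ?_, ?_, ?_⟩
  · exact fun W h0 h1 => Cfsg.Agent.Lib.NonMax.isMaximalIn_subspaceStabilizer h0 h1
  · exact fun hq D hD => Cfsg.Agent.Lib.LinearFrame.isMaximalIn_decomposition (by omega) hD
      (by omega) (by omega)
  · exact fun D hD => Cfsg.Agent.Lib.LinearFrame.isMaximalIn_decomposition (by omega) hD
      (by omega) (by omega)
  · exact fun K hK => (Cfsg.Agent.Lib.LinExt.isMaximal_fieldNormalizer 3 (by norm_num) (by norm_num) (by norm_num) K hK).2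
  · exact fun F₀ r P hr hcard => Cfsg.Agent.Lib.SubfieldMax.isMaximalIn_subfield_linear
      (by rw [Fintype.card_fin]; omega) r hr (by rw [Nat.card_eq_fintype_card, hcard])
  · exact fun e P => Cfsg.Agent.Lib.TensorSquare17.isMaximalIn_tensorWreath e P
  · exact fun hodd Q hQ => Cfsg.Agent.Lib.GeoTypesSL.isMaximalIn_quad (by norm_num) hodd Q hQ
  · exact fun σ f hf => Cfsg.Agent.Lib.FormMax.UnitarySL.isMaximalIn_similarity hf (by rw [Fintype.card_fin]; omega) (by rw [Fintype.card_fin]; omega)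

end Cfsg.Agent.Lib.ExtraNine17
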