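import Cfsg.Agent.Lib.ExtraNine17.BaseTwelve

/-!
A group of three by three matrices over a prime field containing the group of order twenty-seven,
its two standard homologies and an element outside the normaliser contains all transvections.
-/

set_option autoImplicit false
set_option linter.style.haveILetI false
set_option linter.unusedSimpArgs false

namespace Cfsg.Agent.Lib.ExtraNine17

open Matrix

variable {F : Type*} [Field F] {w : F} {p : ℕ} {L : Subgroup (GL I₃ F)}

/-- The inverse of a diagonal homology. -/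
theorem hd_inv_eq (w : F) (i : I₃) :
    hm (w ^ 2) (uv i) (uv i) = diagonal fun k => if k = i then w ^ 2 else 1 := hd_eq (w ^ 2) i

theorem ch_apply_sub (hw : IsPrimitiveRoot w 3) (a b : ZMod 3) : ch w a * ch w (-b) = ch w (a - b) := by
  rw [← ch_add hw, sub_eq_add_neg]

theorem ctr_axf (hw : IsPrimitiveRoot w 3) (f g : I₃ → ZMod 3) (a b : I₃) :
    ctr w f a * axf w g b = ch w (f a - g b) / 3 := by
  rw [ctr, axf, mul_div_assoc', ch_apply_sub hw]

theorem pair_diag (C : Ctx w p) (hw : IsPrimitiveRoot w 3) (i j : I₃) :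
    ∃ (c : F) (e : ZMod 3 × ZMod 3), hd w i * hm (w ^ 2) (uv j) (uv j) = c • em w e := by
  by_cases hij : j = i
  · subst hij
    exact ⟨1, 0, by rw [one_smul, em_zero]; exact hm_mul_inv C (by rw [uv_dot, uv_self])⟩
  have key : ∀ i j : ZMod 3, j ≠ i → ∃ γ β : ZMod 3, ∀ k,
      γ + β * k = (if k = i then 1 else 0) + (if k = j then 2 else 0) := by decide
  obtain ⟨γ, β, hk⟩ := key i j hij
  refine ⟨ch w γ, (0, β), ?_⟩
  rw [hd_eq, hd_inv_eq, diagonal_mul_diagonal]
  ext r c
  by_cases h : r = c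
  · subst h
    simp only [Matrix.smul_apply, em_apply, smul_eq_mul, add_zero, diagonal_apply_eq, if_true]
    rw [← ch_add hw, hk r, ch_add hw]
    by_cases h1 : r = i <;> by_cases h2 : r = j <;> simp_all [ch_zero, ch_one, ch_two]
  · simp [Matrix.smul_apply, em_apply, h]

theorem no_comm_diag (C : Ctx w p) (hw : IsPrimitiveRoot w 3) (i : I₃) (f : I₃ → ZMod 3) :
    hd w i * hn w f ≠ hn w f * hd w i := by
  intro e
  have hne : i + 1 ≠ i := by simp
  have h := congrFun (congrFun e i) (i + 1)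
  rw [hd_eq, diagonal_mul, mul_diagonal, if_pos rfl, if_neg hne, mul_one] at h
  have he : hn w f i (i + 1) = (w - 1) * (ch w (f i - f (i + 1)) / 3) := by
    rw [hn, hm, Matrix.add_apply, Matrix.one_apply_ne hne.symm, zero_add, Matrix.smul_apply,
      vecMulVec_apply, ctr_axf hw, smul_eq_mul]
  rw [he] at h
  have h' : (w - 1) * ((w - 1) * (ch w (f i - f (i + 1)) / 3)) = 0 := by linear_combination h
  simp [C.w_sub_one, C.three, ch_ne_zero hw] at h'

theorem affine_step : ∀ (f : ZMod 3 → ZMod 3) (a : ZMod 3),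
    ∃ γ β : ZMod 3, ∀ l, f (l + a) - f l = γ + β * l := by decide +kernel

theorem hn_pair (C : Ctx w p) (hw : IsPrimitiveRoot w 3) (f f' : I₃ → ZMod 3) (c d : ZMod 3)
    (hf : ∀ k, f' k = f k + c + d * k) : ∃ (a : F) (e : ZMod 3 × ZMod 3), hn w f * hm (w ^ 2) (ctr w f') (axf w f') = a • em w e := by
  by_cases hd0 : d = 0
  · subst hd0
    refine ⟨1, 0, ?_⟩
    rw [one_smul, em_zero, show hm (w ^ 2) (ctr w f') (axf w f') = hm (w ^ 2) (ctr w f) (axf w f) from ?_]
    · exact hm_mul_inv C (axf_ctr C hw f)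
    · rw [hm, hm, add_right_inj]
      ext a b
      simp only [Matrix.smul_apply, vecMulVec_apply, ctr_axf hw, hf, zero_mul, add_zero,
        show f a + c - (f b + c) = f a - f b by ring]
  obtain ⟨γ, β, hk⟩ := affine_step f (d + d)
  refine ⟨w * ch w γ, (d + d, β), ?_⟩
  have hs : axf w f ⬝ᵥ ctr w f' = 0 := by
    have hsum : ∀ c d : ZMod 3, d ≠ 0 → (c + d * 1 = c + 1 ∧ c + d * 2 = c + 2) ∨ (c + d * 1 = c + 2 ∧ c + d * 2 = c + 1) := by
      decide
    have e : ∀ k, axf w f k * ctr w f' k = ch w (c + d * k) / 3 := fun k => by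
      rw [mul_comm, ctr_axf hw, hf, show f k + c + d * k - f k = c + d * k by ring]
    rw [dot_three, e, e, e, mul_zero, add_zero]
    rcases hsum c d hd0 with ⟨e1, e2⟩ | ⟨e1, e2⟩ <;> rw [e1, e2, ch_add hw, ch_add hw, ch_one, ch_two] <;>
      linear_combination (ch w c / 3) * C.root
  rw [hn, hm, hm, one_add_mul_one_add, hs, mul_zero, zero_smul, add_zero]
  ext r l
  simp only [Matrix.add_apply, Matrix.smul_apply, vecMulVec_apply, ctr_axf hw, smul_eq_mul, em_apply, hf,
    show f r + c + d * r - (f l + c + d * l) = (f r - f l) + d * (r - l) by ring, ch_add hw]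
  have key : ∀ d m : ZMod 3, d ≠ 0 → m = 0 ∨ (m ≠ 0 ∧ ((m = d + d ∧ d * m = 2) ∨ (m ≠ d + d ∧ d * m = 1))) := by
    decide
  rcases key d (r - l) hd0 with h | ⟨h0, ⟨h1, h2⟩ | ⟨h1, h2⟩⟩
  · have : r = l := sub_eq_zero.1 h
    subst this
    have hne : r ≠ r + (d + d) := fun e => by
      have : ∀ d : ZMod 3, d + d = 0 → d = 0 := by decide
      exact hd0 (this d (by linear_combination -e))
    rw [Matrix.one_apply_eq, if_neg hne]
    simp only [sub_self, mul_zero, ch_zero, mul_one]
    have := C.three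
    field_simp
    linear_combination C.root
  · have hr : r = l + (d + d) := by linear_combination h1
    rw [Matrix.one_apply_ne (sub_ne_zero.1 h0), if_pos hr, h2, ch_two,
      show ch w (f r - f l) = ch w γ * ch w (β * l) by rw [hr, hk l, ch_add hw]]
    have := C.three
    field_simp
    linear_combination (ch w γ * ch w (β * l)) * (w * C.cube - C.root)
  · have hr : r ≠ l + (d + d) := fun e => h1 (by rw [e]; ring)
    rw [Matrix.one_apply_ne (sub_ne_zero.1 h0), if_neg hr, h2, ch_one]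
    have := C.three
    field_simp
    linear_combination ch w (f r - f l) * C.cube

theorem hn_comm (C : Ctx w p) (hw : IsPrimitiveRoot w 3) (f f' : I₃ → ZMod 3)
    (h : hn w f * hn w f' = hn w f' * hn w f) : ∃ c d : ZMod 3, ∀ k, f' k = f k + c + d * k := by
  set δ : I₃ → ZMod 3 := fun k => f' k - f k with hδ
  set s1 := axf w f ⬝ᵥ ctr w f' with hs1
  set s2 := axf w f' ⬝ᵥ ctr w f with hs2
  rw [hn, hn, hm, hm, one_add_mul_one_add, one_add_mul_one_add, ← hs1, ← hs2] at h
  replace h : ((w - 1) * (w - 1) * s1) • vecMulVec (ctr w f) (axf w f') =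
      ((w - 1) * (w - 1) * s2) • vecMulVec (ctr w f') (axf w f) := by
    rw [← sub_eq_zero] at h ⊢
    rw [← h]
    abel
  have he : ∀ k l, s1 = s2 * ch w (δ k + δ l) := by
    intro k l
    have e := congrFun (congrFun h k) l
    simp only [Matrix.smul_apply, vecMulVec_apply, ctr_axf hw, smul_eq_mul] at e
    have e' : (w - 1) * (w - 1) * (s1 * ch w (f k - f' l) - s2 * ch w (f' k - f l)) = 0 := by
      have := C.three
      field_simp at e
      linear_combination e
    have e'' : s1 * ch w (f k - f' l) = s2 * ch w (f' k - f l) :=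
      sub_eq_zero.1 ((mul_eq_zero.1 e').resolve_left (mul_ne_zero C.w_sub_one C.w_sub_one))
    rw [show f' k - f l = (f k - f' l) + (δ k + δ l) by simp only [hδ]; ring, ch_add hw] at e''
    exact mul_left_cancel₀ (ch_ne_zero hw (f k - f' l)) (by linear_combination e'')
  by_cases hz : s2 = 0
  · have hsum : ch w (δ 0) + ch w (δ 1) + ch w (δ 2) = 0 := by
      have h1 : s1 = 0 := by rw [he 0 0, hz, zero_mul]
      have e : ∀ k, axf w f k * ctr w f' k = ch w (δ k) / 3 := fun k => by
        rw [mul_comm, ctr_axf hw]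
      rw [hs1, dot_three, e, e, e] at h1
      have := C.three
      field_simp at h1
      linear_combination h1
    have hd : ∀ a b : ZMod 3, 2 * ch w a + ch w b ≠ 0 := by
      intro a b e
      have hc : ∀ x : ZMod 3, ch w x ^ 3 = 1 := fun x => by
        rw [ch, ← pow_mul, mul_comm, pow_mul, C.cube, one_pow]
      have : (3 : F) * 3 = 0 := by
        linear_combination (-(ch w b ^ 2) + 2 * ch w a * ch w b - 4 * ch w a ^ 2) * e * -1 - 8 * hc a - hc b
      exact mul_ne_zero C.three C.three this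
    have n01 : δ 0 ≠ δ 1 := fun e => hd (δ 0) (δ 2) (by rw [← e] at hsum; linear_combination hsum)
    have n02 : δ 0 ≠ δ 2 := fun e => hd (δ 0) (δ 1) (by rw [← e] at hsum; linear_combination hsum)
    have n12 : δ 1 ≠ δ 2 := fun e => hd (δ 1) (δ 0) (by rw [← e] at hsum; linear_combination hsum)
    have key : ∀ δ : ZMod 3 → ZMod 3, δ 0 ≠ δ 1 → δ 0 ≠ δ 2 → δ 1 ≠ δ 2 → ∃ c d : ZMod 3, ∀ k, δ k = c + d * k := by
      decide +kernel
    obtain ⟨c, d, hcd⟩ := key δ n01 n02 n12
    refine ⟨c, d, fun k => ?_⟩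
    have := hcd k
    simp only [hδ] at this
    linear_combination this
  · have key : ∀ k l, δ k = δ l := by
      intro k l
      have hinj : ∀ a b : ZMod 3, ch w a = ch w b → a = b := fun a b e =>
        ZMod.val_injective 3 (hw.pow_inj (ZMod.val_lt a) (ZMod.val_lt b) e)
      have h1 := hinj _ _ (mul_left_cancel₀ hz ((he k k).symm.trans (he k l)))
      linear_combination h1
    refine ⟨δ 0, 0, fun k => ?_⟩
    have := key k 0
    simp only [hδ] at this ⊢
    linear_combination this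

/-- Commuting members of the twelve differ by a member of the group of order twenty-seven. -/
theorem pair_em (C : Ctx w p) (hw : IsPrimitiveRoot w 3) {v φ v' φ' : I₃ → F} (h' : φ' ⬝ᵥ v' = 1)
    (hS : IsTwelve w (hm w v φ)) (hS' : IsTwelve w (hm w v' φ'))
    (hc : hm w v φ * hm w v' φ' = hm w v' φ' * hm w v φ) :
    ∃ (c : F) (e : ZMod 3 × ZMod 3), hm w v φ * hm (w ^ 2) v' φ' = c • em w e := by
  have hinv : ∀ (x y : I₃ → F), y ⬝ᵥ x = 1 → hm w v' φ' = hm w x y → hm (w ^ 2) v' φ' = hm (w ^ 2) x y :=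
    fun x y hxy e => left_inv_eq_right_inv (a := hm w v' φ') (mul_eq_one_comm.1 (hm_mul_inv C h'))
      (e ▸ hm_mul_inv C hxy)
  rcases hS with ⟨i, hi⟩ | ⟨f, hf⟩ <;> rcases hS' with ⟨j, hj⟩ | ⟨f', hf'⟩
  · rw [hi, hinv _ _ (by rw [uv_dot, uv_self]) hj]
    exact pair_diag C hw i j
  · rw [hi, hf'] at hc
    exact absurd hc (no_comm_diag C hw i f')
  · rw [hf, hj] at hc
    exact absurd hc.symm (no_comm_diag C hw j f)
  · rw [hf, hf'] at hc
    obtain ⟨c, d, hk⟩ := hn_comm C hw f f' hc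
    rw [hf, hinv _ _ (axf_ctr C hw f') hf']
    exact hn_pair C hw f f' c d hk

theorem memN3_of_noTransv [Fintype F] (C : Ctx w p) (hw : IsPrimitiveRoot w 3) (hN : NoTransv L)
    (hd' : ∀ i, InL L (hd w i)) (h1 : InL L (hom1 w)) {g h : Matrix I₃ I₃ F} (hg : InL L g) (hgh : g * h = 1) :
    MemN3 w g := by
  have hhg : h * g = 1 := mul_eq_one_comm.1 hgh
  let P : ZMod 3 × ZMod 3 → Prop := fun e => ∃ (c : F) (e' : ZMod 3 × ZMod 3), g * em w e = c • (em w e' * g)
  have step : ∀ {v φ v' φ' : I₃ → F} {e : ZMod 3 × ZMod 3} {c : F}, φ ⬝ᵥ v = 1 → φ' ⬝ᵥ v' = 1 →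
      InL L (hm w v φ) → InL L (hm w v' φ') → hm w v φ * hm w v' φ' = hm w v' φ' * hm w v φ →
      em w e = c • (hm w v φ * hm (w ^ 2) v' φ') → P e := by
    intro v φ v' φ' e c hv hv' ha hb hcomm he
    have hA := InL.conj hg hgh ha
    have hB := InL.conj hg hgh hb
    rw [conj_hm hgh] at hA hB
    have dA : (φ ᵥ* h) ⬝ᵥ (g *ᵥ v) = 1 := (dot_conj hgh v φ).trans hv
    have dB : (φ' ᵥ* h) ⬝ᵥ (g *ᵥ v') = 1 := (dot_conj hgh v' φ').trans hv'
    have cm : ∀ X Y : Matrix I₃ I₃ F, g * X * h * (g * Y * h) = g * (X * Y) * h := fun X Y => by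
      calc g * X * h * (g * Y * h) = g * X * (h * g) * Y * h := by simp only [Matrix.mul_assoc]
        _ = g * (X * Y) * h := by rw [hhg, Matrix.mul_one]; simp only [Matrix.mul_assoc]
    obtain ⟨c', e', he'⟩ := pair_em C hw dB (isTwelve_of_noTransv C hw hN hd' h1 dA hA)
      (isTwelve_of_noTransv C hw hN hd' h1 dB hB) (by simp only [← conj_hm hgh, cm, hcomm])
    refine ⟨c * c', e', ?_⟩
    rw [← conj_hm hgh, ← conj_hm hgh, cm] at he'
    calc g * em w e = g * em w e * (h * g) := by rw [hhg, Matrix.mul_one]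
      _ = c • (g * (hm w v φ * hm (w ^ 2) v' φ') * h) * g := by
          rw [he, Matrix.mul_smul, Matrix.smul_mul, Matrix.smul_mul, ← Matrix.mul_assoc, Matrix.mul_assoc _ h g]
      _ = (c * c') • (em w e' * g) := by rw [he', Matrix.smul_mul, Matrix.smul_mul, smul_smul]
  have hadd : ∀ e f, P e → P f → P (e + f) := by
    rintro e f ⟨c, e', he⟩ ⟨c', f', hf⟩
    have hz := ch_ne_zero hw (e.2 * f.1)
    refine ⟨(ch w (e.2 * f.1))⁻¹ * (c * c' * ch w (e'.2 * f'.1)), e' + f', ?_⟩
    rw [← inv_smul_smul₀ hz (em w (e + f)), ← em_mul hw, Matrix.mul_smul, ← Matrix.mul_assoc, he,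
      Matrix.smul_mul, Matrix.mul_assoc, hf, Matrix.mul_smul, ← Matrix.mul_assoc, em_mul hw, Matrix.smul_mul,
      smul_smul, smul_smul, smul_smul]
    congr 1
    ring
  have hX : P (1, 0) := by
    obtain ⟨a, e, hae⟩ := hn_pair C hw (fun k => k) (0 : I₃ → ZMod 3) 0 2 (fun k => by
      show (0 : ZMod 3) = k + 0 + 2 * k; revert k; decide)
    refine step (axf_ctr C hw (fun k => k)) (axf_ctr C hw 0) (InL.hn hw hd' h1 _) (InL.hn hw hd' h1 _) ?_
      (c := w) ?_
    · rw [hm, hm, one_add_mul_one_add, one_add_mul_one_add,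
        show axf w (fun k => k) ⬝ᵥ ctr w 0 = 0 from ?_, show axf w 0 ⬝ᵥ ctr w (fun k => k) = 0 from ?_,
        mul_zero, zero_smul, zero_smul, add_zero, add_zero, add_assoc, add_assoc,
        add_comm ((w - 1) • vecMulVec (ctr w fun k => k) _)]
      · rw [dot_three]; simp [axf, ctr, ch_zero, ch_one, ch_two]; linear_combination (1 / 3 : F) * C.root
      · rw [dot_three]
        simp [axf, ctr, ch_zero, ch_one, ch_two, show -(1 : ZMod 3) = 2 by decide, show -(2 : ZMod 3) = 1 by decide]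
        linear_combination (1 / 3 : F) * C.root
    · rw [hm, hm, one_add_mul_one_add, show axf w (fun k => k) ⬝ᵥ ctr w 0 = 0 from ?_, mul_zero,
        zero_smul, add_zero]
      · ext r l
        simp only [Matrix.add_apply, Matrix.smul_apply, vecMulVec_apply, ctr_axf hw, smul_eq_mul, em_apply,
          Pi.zero_apply, sub_self, ch_zero, zero_mul]
        have := C.three
        have key : ∀ r l : ZMod 3, r - l = 0 ∧ r = l ∨ r - l = 1 ∧ r ≠ l ∨ r - l = 2 ∧ r ≠ l ∧ r ≠ l + 1 := by
          decide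
        rcases key r l with ⟨h, h'⟩ | ⟨h, h'⟩ | ⟨h, h', h''⟩
        · rw [h, h', Matrix.one_apply_eq, if_neg (by simp), ch_zero]
          field_simp
          linear_combination -w * C.root
        · rw [h, Matrix.one_apply_ne h', if_pos (by linear_combination h), ch_one]
          field_simp
          linear_combination (-2 * w + 3) * C.root + 0 * C.cube
        · rw [h, Matrix.one_apply_ne h', if_neg h'', ch_two]
          field_simp
          linear_combination -w * (w - 1) * C.root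
      · rw [dot_three]
        simp [axf, ctr, ch_zero, ch_one, ch_two, show -(1 : ZMod 3) = 2 by decide, show -(2 : ZMod 3) = 1 by decide]
        linear_combination (1 / 3 : F) * C.root
  have hZ : P (0, 1) := by
    refine step (v := uv 0) (φ := uv 0) (v' := uv 1) (φ' := uv 1) (c := w ^ 2) (by rw [uv_dot, uv_self])
      (by rw [uv_dot, uv_self]) (hd' 0) (hd' 1) ?_ ?_
    · show hd w 0 * hd w 1 = hd w 1 * hd w 0
      rw [hd_eq, hd_eq, diagonal_mul_diagonal, diagonal_mul_diagonal]
      congr 1; ext k; ring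
    · show em w (0, 1) = w ^ 2 • (hd w 0 * _)
      rw [hd_eq, hd_inv_eq, diagonal_mul_diagonal]
      ext r l
      by_cases h : r = l
      · subst h
        obtain rfl | rfl | rfl := three_cases r
        · simp [em_apply, ch_zero, show (0 : I₃) ≠ 1 by decide]
          linear_combination -C.cube
        · simp [em_apply, ch_one, show (1 : I₃) ≠ 0 by decide]
          linear_combination -w * C.cube
        · simp [em_apply, ch_two, show (2 : I₃) ≠ 0 by decide, show (2 : I₃) ≠ 1 by decide]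
      · simp [em_apply, h]
  have h0 : P 0 := ⟨1, 0, by rw [em_zero, one_smul, Matrix.one_mul, Matrix.mul_one]⟩
  intro e
  have hcase : ∀ e : ZMod 3 × ZMod 3, e = 0 ∨ e = (1, 0) ∨ e = (0, 1) ∨ e = (1, 0) + (1, 0) ∨
      e = (0, 1) + (0, 1) ∨ e = (1, 0) + (0, 1) ∨ e = (1, 0) + ((0, 1) + (0, 1)) ∨
      e = ((1, 0) + (1, 0)) + (0, 1) ∨ e = ((1, 0) + (1, 0)) + ((0, 1) + (0, 1)) := by decide
  rcases hcase e with rfl | rfl | rfl | rfl | rfl | rfl | rfl | rfl | rfl
  · exact h0
  · exact hX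
  · exact hZ
  · exact hadd _ _ hX hX
  · exact hadd _ _ hZ hZ
  · exact hadd _ _ hX hZ
  · exact hadd _ _ hX (hadd _ _ hZ hZ)
  · exact hadd _ _ (hadd _ _ hX hX) hZ
  · exact hadd _ _ (hadd _ _ hX hX) (hadd _ _ hZ hZ)

/-- A group containing the group of order twenty-seven with its two standard homologies and an
element outside their normaliser contains all transvections. -/
theorem base {F : Type*} [Field F] [Fintype F] {w : F} (hw : IsPrimitiveRoot w 3) (p : ℕ) (hp : p.Prime)
    (hF : Fintype.card F = p) (h7 : 7 ≤ p) (L : Subgroup (GL I₃ F)) (_hsc : Cfsg.Geo.scalars I₃ F ≤ L)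
    (hE : ∀ e, eu hw e ∈ L) (h0 : ∃ u ∈ L, (u : Matrix I₃ I₃ F) = hom0 w)
    (h1 : ∃ u ∈ L, (u : Matrix I₃ I₃ F) = hom1 w)
    (hout : ∃ g ∈ L, ¬ MemN3 w (g : Matrix I₃ I₃ F)) :
    ∀ (i j : I₃), i ≠ j → ∀ c : F, ∃ u ∈ L, (u : Matrix I₃ I₃ F) = Matrix.transvection i j c := by
  have C := Ctx.mk' hw hp hF h7
  have hE' : ∀ e, InL L (em w e) := fun e => ⟨eu hw e, hE e, rfl⟩
  have hd' : ∀ i, InL L (hd w i) := fun i => InL.hd C hw hE' (hom0_eq w ▸ h0) i
  obtain ⟨g, hg, hgn⟩ := hout
  have hN : ¬ NoTransv L := fun hN => hgn (memN3_of_noTransv C hw hN hd' h1 ⟨g, hg, rfl⟩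
    (h := ((g⁻¹ : GL I₃ F) : Matrix I₃ I₃ F)) (Units.mul_inv g))
  simp only [NoTransv, not_forall] at hN
  obtain ⟨s, t, hts, hin, hne⟩ := hN
  exact fun i j hij c => all_elementary C hw hE' hd' ⟨hts, hin⟩ hne i j hij c

end Cfsg.Agent.Lib.ExtraNine17
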