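import Mathlib

/-!
The field assumptions for the three variable base of the normaliser of `3 ^ (1 + 4)`.
-/

set_option autoImplicit false

namespace Cfsg.Agent.Lib.ExtraNine17

/-- A field of prime order at least seven with a cube root of unity. -/
structure Ctx {F : Type*} [Field F] (w : F) (p : ℕ) : Prop where
  root : w ^ 2 + w + 1 = 0
  prime : p.Prime
  char : CharP F p
  seven : 7 ≤ p
  surj : ∀ x : F, ∃ n : ℕ, (n : F) = x

/-- The admissible values of the invariant of a non-commuting pair. -/
def OneTwoR {F : Type*} [Field F] (k : F) : Prop := k = 1 ∨ k = 2 ∨ k ^ 2 - 3 * k + 1 = 0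

namespace Ctx

variable {F : Type*} [Field F] {w : F} {p : ℕ}

theorem mk' [Fintype F] (hw : IsPrimitiveRoot w 3) (hp : p.Prime) (hF : Fintype.card F = p) (h7 : 7 ≤ p) :
    Ctx w p := by
  haveI := Fact.mk hp
  have hchar : CharP F p := by
    obtain ⟨q, hq⟩ := CharP.exists F
    haveI := hq
    obtain ⟨n, hqp, hn⟩ := FiniteField.card F q
    rw [hF] at hn
    have : p = q := (Nat.prime_dvd_prime_iff_eq hp hqp).1
      (hp.dvd_of_dvd_pow (n := (n : ℕ)) (hn ▸ dvd_rfl))
    rwa [this]
  refine ⟨?_, hp, hchar, h7, fun x => ?_⟩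
  · have h := hw.geom_sum_eq_zero (by norm_num)
    simp [Finset.sum_range_succ] at h
    linear_combination h
  · haveI := hchar
    obtain ⟨a, ha⟩ := (ZMod.ringEquiv F hF).surjective x
    haveI : NeZero p := ⟨hp.ne_zero⟩
    exact ⟨a.val, by rw [← map_natCast (ZMod.ringEquiv F hF), ZMod.natCast_zmod_val, ha]⟩

theorem cube (C : Ctx w p) : w ^ 3 = 1 := by linear_combination (w - 1) * C.root

theorem natCast_ne (C : Ctx w p) {n : ℕ} (h0 : 0 < n) (hn : n < p) : (n : F) ≠ 0 := by
  haveI := C.char
  rw [Ne, CharP.cast_eq_zero_iff F p]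
  exact fun h => absurd (Nat.le_of_dvd h0 h) (by omega)

theorem two (C : Ctx w p) : (2 : F) ≠ 0 := by
  exact_mod_cast C.natCast_ne (n := 2) two_pos (by have := C.seven; omega)

theorem three (C : Ctx w p) : (3 : F) ≠ 0 := by
  exact_mod_cast C.natCast_ne (n := 3) (by norm_num) (by have := C.seven; omega)

theorem five (C : Ctx w p) : (5 : F) ≠ 0 := by
  exact_mod_cast C.natCast_ne (n := 5) (by norm_num) (by have := C.seven; omega)

theorem w_ne_zero (C : Ctx w p) : w ≠ 0 := fun h => by
  have := C.root; rw [h] at this; simp at this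

theorem w_ne_one (C : Ctx w p) : w ≠ 1 := fun h => by
  have := C.root; rw [h] at this
  exact C.three (by linear_combination this)

theorem w_sub_one (C : Ctx w p) : w - 1 ≠ 0 := sub_ne_zero.2 C.w_ne_one

theorem w_sq_ne (C : Ctx w p) : w ^ 2 ≠ w := fun h => by
  have : w * (w - 1) = 0 := by linear_combination h
  rcases mul_eq_zero.1 this with h | h
  · exact C.w_ne_zero h
  · exact C.w_sub_one h

end Ctx

end Cfsg.Agent.Lib.ExtraNine17
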