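import Cfsg.Agent.Lib.ExtraNine17.BaseTrace

/-!
Two homologies of order three in a group of three by three matrices without transvections.
-/

set_option autoImplicit false
set_option linter.style.haveILetI false

namespace Cfsg.Agent.Lib.ExtraNine17

open Matrix

section

variable {F : Type*} [Field F] {n : Type*} [Fintype n] [DecidableEq n] {w : F} {p : ℕ}
  {L : Subgroup (GL n F)}

/-- `M` is the matrix of an element of `L`. -/
def InL (L : Subgroup (GL n F)) (M : Matrix n n F) : Prop := ∃ u ∈ L, (u : Matrix n n F) = M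

theorem InL.one : InL L 1 := ⟨1, one_mem _, rfl⟩

theorem InL.mul {A B : Matrix n n F} (ha : InL L A) (hb : InL L B) : InL L (A * B) := by
  obtain ⟨u, hu, rfl⟩ := ha
  obtain ⟨v, hv, rfl⟩ := hb
  exact ⟨u * v, mul_mem hu hv, rfl⟩

theorem InL.inv {A B : Matrix n n F} (ha : InL L A) (h : A * B = 1) : InL L B := by
  obtain ⟨u, hu, rfl⟩ := ha
  exact ⟨u⁻¹, inv_mem hu, Units.inv_eq_of_mul_eq_one_right h⟩

theorem InL.pow {A : Matrix n n F} (ha : InL L A) (k : ℕ) : InL L (A ^ k) := by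
  induction k with
  | zero => rw [pow_zero]; exact InL.one
  | succ k ih => rw [pow_succ]; exact ih.mul ha

/-- No transvection of `L` other than the identity. -/
def NoTransv (L : Subgroup (GL n F)) : Prop :=
  ∀ s t : n → F, t ⬝ᵥ s = 0 → InL L (1 + vecMulVec s t) → vecMulVec s t = 0

/-- The homology with centre `v`, axis `φ` and eigenvalue `c`. -/
def hm (c : F) (v φ : n → F) : Matrix n n F := 1 + (c - 1) • vecMulVec v φ

omit [Fintype n] in
theorem hm_rescale (c : F) {b : F} (hb : b ≠ 0) (v φ : n → F) :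
    hm c (b • v) (b⁻¹ • φ) = hm c v φ := by
  rw [hm, hm, smul_vecMulVec, vecMulVec_smul, smul_smul b, mul_inv_cancel₀ hb, one_smul]

theorem one_add_mul_one_add (a b c d : n → F) (x y : F) :
    (1 + x • vecMulVec a b) * (1 + y • vecMulVec c d) =
      1 + x • vecMulVec a b + y • vecMulVec c d + (x * y * (b ⬝ᵥ c)) • vecMulVec a d := by
  rw [add_mul, mul_add, mul_add, one_mul, mul_one, one_mul, Matrix.smul_mul, Matrix.mul_smul,
    vecMulVec_mul_vecMulVec, smul_smul, vecMulVec_smul, smul_smul]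
  abel

theorem hm_mul_inv (C : Ctx w p) {v φ : n → F} (h : φ ⬝ᵥ v = 1) : hm w v φ * hm (w ^ 2) v φ = 1 := by
  rw [hm, hm, one_add_mul_one_add, h, add_assoc, add_assoc, ← add_smul, ← add_smul,
    show w - 1 + (w ^ 2 - 1 + (w - 1) * (w ^ 2 - 1) * 1) = 0 by linear_combination C.cube, zero_smul,
    add_zero]

theorem InL.hm_inv (C : Ctx w p) {v φ : n → F} (h : φ ⬝ᵥ v = 1) (ha : InL L (hm w v φ)) :
    InL L (hm (w ^ 2) v φ) := ha.inv (hm_mul_inv C h)

theorem ne_zero_of_dot {v φ : n → F} (h : φ ⬝ᵥ v = 1) : v ≠ 0 ∧ φ ≠ 0 :=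
  ⟨fun e => by simp [e] at h, fun e => by simp [e] at h⟩

theorem same_centre (C : Ctx w p) (hN : NoTransv L) {v φ φ' : n → F} (h : φ ⬝ᵥ v = 1)
    (h' : φ' ⬝ᵥ v = 1) (ha : InL L (hm w v φ)) (hb : InL L (hm w v φ')) : φ = φ' := by
  have he : hm w v φ * hm (w ^ 2) v φ' = 1 + vecMulVec ((w - 1) • v) (φ - φ') := by
    rw [hm, hm, one_add_mul_one_add, h, smul_vecMulVec, vecMulVec_sub, add_assoc, add_assoc,
      ← add_smul, show w ^ 2 - 1 + (w - 1) * (w ^ 2 - 1) * 1 = -(w - 1) by linear_combination C.cube,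
      smul_sub, neg_smul]
    abel
  have h0 := hN _ _ (by rw [dotProduct_smul, sub_dotProduct, h, h', sub_self, smul_zero])
    (he ▸ ha.mul (hb.hm_inv C h'))
  rw [vecMulVec_eq_zero] at h0
  rcases h0 with h0 | h0
  · exact absurd ((smul_eq_zero.1 h0).resolve_left C.w_sub_one) (ne_zero_of_dot h).1
  · exact sub_eq_zero.1 h0

theorem same_axis (C : Ctx w p) (hN : NoTransv L) {v v' φ : n → F} (h : φ ⬝ᵥ v = 1)
    (h' : φ ⬝ᵥ v' = 1) (ha : InL L (hm w v φ)) (hb : InL L (hm w v' φ)) : v = v' := by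
  have he : hm (w ^ 2) v' φ * hm w v φ = 1 + vecMulVec (v - v') ((w - 1) • φ) := by
    rw [hm, hm, one_add_mul_one_add, h, vecMulVec_smul, sub_vecMulVec, add_assoc, add_assoc,
      add_comm ((w - 1) • vecMulVec v φ), ← add_assoc ((w ^ 2 - 1) • vecMulVec v' φ), ← add_smul,
      show w ^ 2 - 1 + (w ^ 2 - 1) * (w - 1) * 1 = -(w - 1) by linear_combination C.cube,
      smul_sub, neg_smul]
    abel
  have h0 := hN _ _ (by rw [smul_dotProduct, dotProduct_sub, h, h', sub_self, smul_zero])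
    (he ▸ (hb.hm_inv C h').mul ha)
  rw [vecMulVec_eq_zero] at h0
  rcases h0 with h0 | h0
  · exact sub_eq_zero.1 h0
  · exact absurd ((smul_eq_zero.1 h0).resolve_left C.w_sub_one) (ne_zero_of_dot h).2

/-- If one of the cross values vanishes, so does the other. -/
theorem zero_both (C : Ctx w p) (hN : NoTransv L) {v φ v' φ' : n → F} (h : φ ⬝ᵥ v = 1)
    (h' : φ' ⬝ᵥ v' = 1) (ha : InL L (hm w v φ)) (hb : InL L (hm w v' φ')) (h0 : φ ⬝ᵥ v' = 0) :
    φ' ⬝ᵥ v = 0 := by
  set β := φ' ⬝ᵥ v with hβ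
  have he : hm w v φ * hm w v' φ' * hm (w ^ 2) v φ = hm w v' (φ' + ((w ^ 2 - 1) * β) • φ) := by
    have e1 : hm w v φ * hm w v' φ' = hm w v φ + (w - 1) • vecMulVec v' φ' := by
      rw [hm, hm, one_add_mul_one_add, h0, mul_zero, zero_smul, add_zero]
    rw [e1, add_mul, hm_mul_inv C h, hm, hm, mul_add, mul_one, Matrix.smul_mul, Matrix.mul_smul,
      vecMulVec_mul_vecMulVec, ← hβ, vecMulVec_add, vecMulVec_smul, vecMulVec_smul, smul_add,
      smul_smul, smul_smul, smul_smul, mul_assoc]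
  have hd : (φ' + ((w ^ 2 - 1) * β) • φ) ⬝ᵥ v' = 1 := by
    rw [add_dotProduct, smul_dotProduct, h', h0, smul_zero, add_zero]
  have hs := same_centre C hN h' hd hb (he ▸ (ha.mul hb).mul (ha.hm_inv C h))
  rw [left_eq_add, smul_eq_zero] at hs
  have hw2 : w ^ 2 - 1 ≠ 0 := fun e => C.w_ne_one (by linear_combination C.cube - w * e)
  exact (mul_eq_zero.1 (hs.resolve_right (ne_zero_of_dot h).2)).resolve_left hw2

/-- If the product of the cross values is `1` then the two homologies are equal. -/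
theorem eq_of_normalized (C : Ctx w p) (hN : NoTransv L) {v φ v' φ' : n → F} (h : φ ⬝ᵥ v = 1)
    (h' : φ' ⬝ᵥ v' = 1) (ha : InL L (hm w v φ)) (hb : InL L (hm w v' φ')) (e1 : φ ⬝ᵥ v' = 1)
    (e2 : φ' ⬝ᵥ v = 1) : hm w v φ = hm w v' φ' := by
  set η := w - 1 with hη
  set η' := w ^ 2 - 1 with hη'
  have hsum : η * η' = -(η + η') := by rw [hη, hη']; linear_combination C.cube
  set u := v - v' with hu
  set δ := φ - φ' with hδ
  set N : Matrix n n F := η • vecMulVec v δ - η' • vecMulVec u φ' with hNdef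
  set M : Matrix n n F := η • vecMulVec u φ - η' • vecMulVec v' δ with hMdef
  have hg : hm w v φ * hm (w ^ 2) v' φ' = 1 + N := by
    rw [hm, hm, one_add_mul_one_add, e1, mul_one, hsum, hNdef, hu, hδ, vecMulVec_sub, sub_vecMulVec]
    module
  have hg' : hm (w ^ 2) v' φ' * hm w v φ = 1 + M := by
    rw [hm, hm, one_add_mul_one_add, e2, mul_one, ← hη, ← hη', mul_comm η' η, hsum, hMdef, hu, hδ,
      vecMulVec_sub, sub_vecMulVec]
    module
  have d1 : δ ⬝ᵥ v = 0 := by rw [hδ, sub_dotProduct, h, e2, sub_self]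
  have d2 : δ ⬝ᵥ v' = 0 := by rw [hδ, sub_dotProduct, e1, h', sub_self]
  have d3 : δ ⬝ᵥ u = 0 := by rw [hu, dotProduct_sub, d1, d2, sub_zero]
  have d4 : φ ⬝ᵥ u = 0 := by rw [hu, dotProduct_sub, h, e1, sub_self]
  have d5 : φ' ⬝ᵥ u = 0 := by rw [hu, dotProduct_sub, h', e2, sub_self]
  have hNM : N * M = η' ^ 2 • vecMulVec u δ := by
    rw [hNdef, hMdef]
    simp only [sub_mul, mul_sub, Matrix.smul_mul, Matrix.mul_smul, vecMulVec_mul_vecMulVec, d2, d3,
      d5, h', zero_smul, vecMulVec_zero, smul_zero, one_smul, smul_smul, sub_zero, zero_sub, sub_neg_eq_add,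
      zero_add, pow_two]
  have hMN : M * N = η ^ 2 • vecMulVec u δ := by
    rw [hNdef, hMdef]
    simp only [sub_mul, mul_sub, Matrix.smul_mul, Matrix.mul_smul, vecMulVec_mul_vecMulVec, h, d1, d3,
      d4, zero_smul, vecMulVec_zero, smul_zero, one_smul, smul_smul, sub_zero, zero_sub, sub_neg_eq_add,
      zero_add, pow_two]
  set c := η' ^ 2 - η ^ 2 with hc
  have hlN : vecMulVec u δ * N = 0 := by
    rw [hNdef, mul_sub, Matrix.mul_smul, Matrix.mul_smul, vecMulVec_mul_vecMulVec,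
      vecMulVec_mul_vecMulVec, d1, d3, zero_smul, zero_smul, vecMulVec_zero, smul_zero, smul_zero,
      sub_zero]
  have hlM : vecMulVec u δ * M = 0 := by
    rw [hMdef, mul_sub, Matrix.mul_smul, Matrix.mul_smul, vecMulVec_mul_vecMulVec,
      vecMulVec_mul_vecMulVec, d2, d3, zero_smul, zero_smul, vecMulVec_zero, smul_zero, smul_zero,
      sub_zero]
  have hcomm : (1 + N) * (1 + M) = (1 + c • vecMulVec u δ) * ((1 + M) * (1 + N)) := by
    have hl : vecMulVec u δ * ((1 + M) * (1 + N)) = vecMulVec u δ := by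
      rw [← mul_assoc, show vecMulVec u δ * (1 + M) = vecMulVec u δ by rw [mul_add, mul_one, hlM, add_zero],
        mul_add, mul_one, hlN, add_zero]
    rw [add_mul 1 (c • _), one_mul, Matrix.smul_mul, hl]
    simp only [add_mul, mul_add, mul_one, one_mul, hNM, hMN, hc, sub_smul]
    abel
  have i1 : InL L (1 + N) := hg ▸ ha.mul (hb.hm_inv C h')
  have i2 : InL L (1 + M) := hg' ▸ (hb.hm_inv C h').mul ha
  have i3 : InL L (1 + vecMulVec (c • u) δ) := by
    obtain ⟨g, hgL, hge⟩ := i1.mul i2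
    obtain ⟨g', hgL', hge'⟩ := i2.mul i1
    refine ⟨g * g'⁻¹, mul_mem hgL (inv_mem hgL'), ?_⟩
    rw [Units.val_mul, hge, hcomm, ← hge', mul_assoc, ← Units.val_mul, mul_inv_cancel,
      Units.val_one, mul_one, smul_vecMulVec]
  have h0 := hN _ _ (by rw [dotProduct_smul, d3, smul_zero]) i3
  have hcne : c ≠ 0 := by
    intro e
    rw [hc, hη', hη] at e
    have : (3 : F) * (w * (w - 1)) = 0 := by linear_combination -e + w * C.cube
    rcases mul_eq_zero.1 this with e | e
    · exact C.three e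
    · exact mul_ne_zero C.w_ne_zero C.w_sub_one e
  rw [vecMulVec_eq_zero, smul_eq_zero] at h0
  rcases h0 with (h0 | h0) | h0
  · exact absurd h0 hcne
  · obtain rfl : v = v' := sub_eq_zero.1 h0
    rw [same_centre C hN h h' ha hb]
  · obtain rfl : φ = φ' := sub_eq_zero.1 h0
    rw [same_axis C hN h h' ha hb]

/-- The map of two by two matrices attached to a pair of vectors and a dual pair. -/
def lift2 (P : Matrix n (Fin 2) F) (Q : Matrix (Fin 2) n F) (hQP : Q * P = 1) :
    Matrix (Fin 2) (Fin 2) F →* Matrix n n F where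
  toFun X := 1 + P * (X - 1) * Q
  map_one' := by simp
  map_mul' X Y := by
    have h : P * (X - 1) * Q * (P * (Y - 1) * Q) = P * ((X - 1) * (Y - 1)) * Q := by
      calc P * (X - 1) * Q * (P * (Y - 1) * Q) = P * (X - 1) * (Q * P) * (Y - 1) * Q := by
            simp only [Matrix.mul_assoc]
        _ = P * ((X - 1) * (Y - 1)) * Q := by rw [hQP, Matrix.mul_one]; simp only [Matrix.mul_assoc]
    rw [show X * Y - 1 = (X - 1) * (Y - 1) + ((X - 1) + (Y - 1)) by noncomm_ring, Matrix.mul_add,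
      Matrix.add_mul, ← h, Matrix.mul_add, Matrix.add_mul, add_mul 1 (P * (X - 1) * Q), one_mul,
      mul_add, mul_one]
    abel

end

section

variable {F : Type*} [Field F] [Fintype F] {n : Type*} [Fintype n] [DecidableEq n] {w : F} {p : ℕ}
  {L : Subgroup (GL n F)}

open Cfsg.Agent.Lib.SL2

/-- Two homologies whose cross values are neither both zero nor have product one. -/
theorem generic_pair (C : Ctx w p) (hN : NoTransv L) {v φ v' φ' : n → F} (h : φ ⬝ᵥ v = 1)
    (h' : φ' ⬝ᵥ v' = 1) (ha : InL L (hm w v φ)) (hb : InL L (hm w v' φ'))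
    (h0 : (φ ⬝ᵥ v') * (φ' ⬝ᵥ v) ≠ 0) (h1 : (φ ⬝ᵥ v') * (φ' ⬝ᵥ v) ≠ 1) :
    OneTwoR (3 * ((φ ⬝ᵥ v') * (φ' ⬝ᵥ v))) := by
  classical
  haveI := C.char
  haveI := Fact.mk C.prime
  set α := φ ⬝ᵥ v' with hα
  set β := φ' ⬝ᵥ v with hβ
  have hd : 1 - α * β ≠ 0 := sub_ne_zero.2 (Ne.symm h1)
  have hd' : 1 - β * α ≠ 0 := by rwa [mul_comm]
  set P : Matrix n (Fin 2) F := Matrix.of fun i j => ![v i, v' i] j with hP
  set Q : Matrix (Fin 2) n F := Matrix.of
    ![(1 - α * β)⁻¹ • (φ - α • φ'), (1 - α * β)⁻¹ • (φ' - β • φ)] with hQ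
  have hQP : Q * P = 1 := by
    ext i j
    show Q i ⬝ᵥ (fun k => P k j) = _
    have c0 : (fun k => P k 0) = v := funext fun k => by simp [hP]
    have c1 : (fun k => P k 1) = v' := funext fun k => by simp [hP]
    have r0 : Q 0 = (1 - α * β)⁻¹ • (φ - α • φ') := rfl
    have r1 : Q 1 = (1 - α * β)⁻¹ • (φ' - β • φ) := rfl
    fin_cases i <;> fin_cases j <;>
      simp only [Fin.zero_eta, Fin.mk_one, Matrix.one_apply_eq, r0, r1, c0, c1, smul_dotProduct,
        sub_dotProduct, smul_eq_mul, h, h', ← hα, ← hβ]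
    · field_simp
    · simp
    · simp
    · field_simp
  set Φ := lift2 P Q hQP with hΦ
  have hΦA : Φ !![w, (w - 1) * α; 0, 1] = hm w v φ := by
    show 1 + P * ((!![_, _; _, _] : Matrix (Fin 2) (Fin 2) F) - 1) * Q = _
    rw [hm, add_right_inj]
    ext i j
    simp [hP, hQ, Matrix.mul_apply, Fin.sum_univ_two, Matrix.vecMulVec_apply]
    field_simp
    ring
  have hΦB : Φ !![1, 0; (w - 1) * β, w] = hm w v' φ' := by
    show 1 + P * ((!![_, _; _, _] : Matrix (Fin 2) (Fin 2) F) - 1) * Q = _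
    rw [hm, add_right_inj]
    ext i j
    simp [hP, hQ, Matrix.mul_apply, Fin.sum_univ_two, Matrix.vecMulVec_apply]
    field_simp
    ring
  have hw3 := C.cube
  set x : SLtwo F := ⟨!![w * w, w * ((w - 1) * α); 0, w],
    by rw [Matrix.det_fin_two_of]; linear_combination hw3⟩ with hx
  set y : SLtwo F := ⟨!![w, 0; w * ((w - 1) * β), w * w],
    by rw [Matrix.det_fin_two_of]; linear_combination hw3⟩ with hy
  have hxw : w ^ 2 • (x : Matrix (Fin 2) (Fin 2) F) = !![w, (w - 1) * α; 0, 1] := by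
    ext i j
    fin_cases i <;> fin_cases j <;> simp [hx]
    · linear_combination w * hw3
    · linear_combination (w - 1) * α * hw3
    · linear_combination hw3
  have hyw : w ^ 2 • (y : Matrix (Fin 2) (Fin 2) F) = !![1, 0; (w - 1) * β, w] := by
    ext i j
    fin_cases i <;> fin_cases j <;> simp [hy]
    · linear_combination hw3
    · linear_combination (w - 1) * β * hw3
    · linear_combination w * hw3
  let K : Subgroup (SLtwo F) :=
    { carrier := {z | ∃ m : ℕ, InL L (Φ (w ^ m • (z : Matrix (Fin 2) (Fin 2) F)))}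
      one_mem' := ⟨0, by simp [InL.one]⟩
      mul_mem' := by
        rintro a b ⟨i, hi⟩ ⟨j, hj⟩
        refine ⟨i + j, ?_⟩
        have := hi.mul hj
        rw [← map_mul, Matrix.smul_mul, Matrix.mul_smul, smul_smul, ← pow_add] at this
        rwa [Matrix.SpecialLinearGroup.coe_mul]
      inv_mem' := by
        rintro a ⟨i, hi⟩
        refine ⟨2 * i, hi.inv ?_⟩
        rw [← map_mul, Matrix.smul_mul, Matrix.mul_smul, smul_smul, ← Matrix.SpecialLinearGroup.coe_mul,
          mul_inv_cancel, Matrix.SpecialLinearGroup.coe_one, ← pow_add,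
          show i + 2 * i = 3 * i by ring, pow_mul, hw3, one_pow, one_smul, map_one] }
  have hle : Subgroup.closure ({x, y} : Set (SLtwo F)) ≤ K := by
    rw [Subgroup.closure_le]
    rintro z (rfl | rfl)
    · exact ⟨2, by rw [hxw, hΦA]; exact ha⟩
    · exact ⟨2, by rw [hyw, hΦB]; exact hb⟩
  have hpn : ¬ p ∣ Nat.card (Subgroup.closure ({x, y} : Set (SLtwo F))) := by
    intro hdvd
    obtain ⟨z, hz⟩ := exists_prime_orderOf_dvd_card' p hdvd
    have hzp : (z : SLtwo F) ^ p = 1 := by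
      rw [← Subgroup.coe_pow, ← hz, pow_orderOf_eq_one, Subgroup.coe_one]
    obtain ⟨m, hm'⟩ := hle z.2
    set Z := ((z : SLtwo F) : Matrix (Fin 2) (Fin 2) F) with hZ
    set N := Z - 1 with hNd
    have hNp : N ^ p = 0 := by
      rw [hNd, sub_pow_char_of_commute p (Commute.one_right Z), hZ,
        ← Matrix.SpecialLinearGroup.coe_pow, hzp, Matrix.SpecialLinearGroup.coe_one, one_pow, sub_self]
    have hdet : N.det = 0 := by
      have := congrArg Matrix.det hNp
      rw [Matrix.det_pow, Matrix.det_zero] at this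
      exact eq_zero_of_pow_eq_zero this
    have hdz := (z : SLtwo F).2
    rw [hNd, Matrix.det_fin_two] at hdet
    rw [Matrix.det_fin_two, ← hZ] at hdz
    simp only [Matrix.sub_apply, Matrix.one_apply_eq, Fin.isValue, ne_eq, zero_ne_one, not_false_eq_true,
      Matrix.one_apply_ne, one_ne_zero, sub_zero] at hdet
    have htr : Z 0 0 + Z 1 1 = 2 := by linear_combination hdz - hdet
    have hN2 : N * N = 0 := by
      ext i j
      fin_cases i <;> fin_cases j <;>
        simp [hNd, Matrix.mul_apply, Fin.sum_univ_two, Matrix.sub_apply]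
      · linear_combination -hdz + Z 0 0 * htr
      · linear_combination Z 0 1 * htr
      · linear_combination Z 1 0 * htr
      · linear_combination -hdz + Z 1 1 * htr
    obtain ⟨s, t, hst, hts⟩ : ∃ s t : Fin 2 → F, N = vecMulVec s t ∧ t ⬝ᵥ s = 0 := by
      have e00 : N 1 1 = -N 0 0 := by simp [hNd, Matrix.sub_apply]; linear_combination htr
      have esq : N 0 0 * N 0 0 + N 0 1 * N 1 0 = 0 := by
        have := congrFun (congrFun hN2 0) 0
        simpa [Matrix.mul_apply, Fin.sum_univ_two] using this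
      by_cases hc : N 1 0 = 0
      · have ha0 : N 0 0 = 0 := by simpa [hc] using esq
        refine ⟨![1, 0], ![0, N 0 1], ?_, by simp [dotProduct, Fin.sum_univ_two]⟩
        ext i j
        fin_cases i <;> fin_cases j <;> simp [Matrix.vecMulVec_apply, hc, ha0, e00]
      · refine ⟨![N 0 0, N 1 0], ![1, -N 0 0 / N 1 0], ?_, ?_⟩
        · ext i j
          fin_cases i <;> fin_cases j <;> simp [Matrix.vecMulVec_apply, e00]
          all_goals field_simp
          linear_combination esq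
        · simp [dotProduct, Fin.sum_univ_two]
          field_simp
          ring
    have h3 : InL L (Φ (1 + (3 : F) • N)) := by
      have e3 : (w ^ m • Z) ^ 3 = 1 + (3 : F) • N := by
        rw [smul_pow, ← pow_mul, mul_comm m 3, pow_mul, hw3, one_pow, one_smul,
          show Z = 1 + N by rw [hNd]; abel, pow_succ, pow_two]
        simp only [add_mul, mul_add, one_mul, mul_one, hN2, zero_mul, add_zero, zero_add]
        module
      rw [← e3, map_pow]
      exact hm'.pow 3
    have e4 : Φ (1 + (3 : F) • N) = 1 + vecMulVec ((3 : F) • (P *ᵥ s)) (t ᵥ* Q) := by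
      show 1 + P * (1 + (3 : F) • N - 1) * Q = _
      rw [add_sub_cancel_left, Matrix.mul_smul, Matrix.smul_mul, smul_vecMulVec, hst, mul_vecMulVec,
        vecMulVec_mul]
    have h5 := hN _ _ (by rw [dotProduct_smul, ← dotProduct_mulVec, mulVec_mulVec, hQP, one_mulVec,
      hts, smul_zero]) (e4 ▸ h3)
    rw [smul_vecMulVec, ← vecMulVec_mul, ← mul_vecMulVec, ← hst] at h5
    have h6 := congrArg (fun X => Q * X * P) ((smul_eq_zero.1 h5).resolve_left C.three)
    simp only [Matrix.mul_assoc, hQP, Matrix.mul_one, Matrix.mul_zero, Matrix.zero_mul] at h6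
    rw [← Matrix.mul_assoc Q P N, hQP, Matrix.one_mul] at h6
    have hz1 : (z : SLtwo F) = 1 := Subtype.ext (sub_eq_zero.1 h6)
    have : orderOf z = 1 := orderOf_eq_one_iff.2 (Subtype.ext hz1)
    exact C.prime.ne_one (hz ▸ this)
  have htx : tr x = -1 := by simp [tr, hx]; linear_combination C.root
  have hty : tr y = -1 := by simp [tr, hy]; linear_combination C.root
  have hxy : x * y ≠ y * x := by
    intro e
    have e01 := congrArg (fun g : SLtwo F => g 0 1) e
    simp only [mul_01] at e01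
    simp [hx, hy] at e01
    have : w ^ 2 * ((w - 1) * (w - 1)) * α = 0 := by linear_combination e01
    simp [C.w_ne_zero, C.w_sub_one, (mul_ne_zero_iff.1 h0).1] at this
  have key := trace_cases C htx hty hxy hpn
  have htr : tr (x * y) = 2 - 3 * (α * β) := by
    simp only [tr, mul_00, mul_11]
    simp [hx, hy]
    linear_combination (2 + (w - 2) * (α * β)) * C.cube + α * β * C.root
  rwa [htr, show (2 : F) - (2 - 3 * (α * β)) = 3 * (α * β) by ring] at key

/-- Two homologies of order three in a group without transvections. -/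
theorem pair_cases (C : Ctx w p) (hN : NoTransv L) {v φ v' φ' : n → F} (h : φ ⬝ᵥ v = 1)
    (h' : φ' ⬝ᵥ v' = 1) (ha : InL L (hm w v φ)) (hb : InL L (hm w v' φ')) :
    hm w v φ = hm w v' φ' ∨ (φ ⬝ᵥ v' = 0 ∧ φ' ⬝ᵥ v = 0) ∨
      OneTwoR (3 * ((φ ⬝ᵥ v') * (φ' ⬝ᵥ v))) := by
  by_cases h0 : (φ ⬝ᵥ v') * (φ' ⬝ᵥ v) = 0
  · rcases mul_eq_zero.1 h0 with e | e
    · exact Or.inr (Or.inl ⟨e, zero_both C hN h h' ha hb e⟩)
    · exact Or.inr (Or.inl ⟨zero_both C hN h' h hb ha e, e⟩)
  by_cases h1 : (φ ⬝ᵥ v') * (φ' ⬝ᵥ v) = 1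
  · left
    set b := φ' ⬝ᵥ v with hb'
    have hb0 : b ≠ 0 := (mul_ne_zero_iff.1 h0).2
    rw [← hm_rescale w hb0 v' φ'] at hb ⊢
    refine eq_of_normalized C hN h ?_ ha hb ?_ ?_
    · rw [smul_dotProduct, dotProduct_smul, h', smul_eq_mul, smul_eq_mul, mul_one, inv_mul_cancel₀ hb0]
    · rw [dotProduct_smul, smul_eq_mul, mul_comm, h1]
    · rw [smul_dotProduct, ← hb', smul_eq_mul, inv_mul_cancel₀ hb0]
  exact Or.inr (Or.inr (generic_pair C hN h h' ha hb h0 h1))

end

end Cfsg.Agent.Lib.ExtraNine17
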