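import Cfsg.Agent.Lib.ExtraNine17.Defs
import Cfsg.Agent.Lib.ExtraNine17.BasePair

/-!
A group of three by three matrices containing the shift, a diagonal homology and a transvection
contains all elementary transvections.
-/

set_option autoImplicit false
set_option linter.style.haveILetI false

namespace Cfsg.Agent.Lib.ExtraNine17

open Matrix

variable {F : Type*} [Field F] {w : F} {p : ℕ} {L : Subgroup (GL I₃ F)}

/-- A unit vector. -/
def uv (i : I₃) : I₃ → F := Pi.single i 1

theorem dot_uv (t : I₃ → F) (i : I₃) : t ⬝ᵥ uv i = t i := by simp [uv]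

theorem uv_dot (t : I₃ → F) (i : I₃) : uv i ⬝ᵥ t = t i := by simp [uv]

theorem uv_self (i : I₃) : (uv i : I₃ → F) i = 1 := by simp [uv]

theorem uv_ne {i j : I₃} (h : j ≠ i) : (uv i : I₃ → F) j = 0 := by simp [uv, h]

/-- The diagonal homology at a coordinate. -/
def hd (w : F) (i : I₃) : Matrix I₃ I₃ F := hm w (uv i) (uv i)

theorem hd_eq (w : F) (i : I₃) : hd w i = diagonal fun k => if k = i then w else 1 := by
  ext a b
  simp [hd, hm, Matrix.vecMulVec_apply, uv, Matrix.one_apply, Pi.single_apply, Matrix.diagonal_apply]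
  split_ifs <;> simp_all

theorem hom0_eq (w : F) : hom0 w = hd w 0 := by rw [hd_eq, hom0]

theorem InL.conj {g h A : Matrix I₃ I₃ F} (hg : InL L g) (hgh : g * h = 1) (hA : InL L A) :
    InL L (g * A * h) := (hg.mul hA).mul (hg.inv hgh)

theorem em_shift_mul (i : I₃) (a : Matrix I₃ I₃ F) (r c : I₃) : (em w (i, 0) * a) r c = a (r - i) c := by
  rw [Matrix.mul_apply, Finset.sum_eq_single (r - i)]
  · simp [em_apply, ch_zero]
  · intro b _ hb
    rw [em_apply, if_neg (fun h => hb (by rw [h]; simp)), zero_mul]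
  · exact fun h => absurd (Finset.mem_univ _) h

theorem em_shift_inv (hw : IsPrimitiveRoot w 3) (i : I₃) : em w (i, 0) * em w (-i, 0) = 1 := by
  rw [em_mul hw]
  simp [ch_zero, Prod.mk_add_mk, show ((0 : ZMod 3), (0 : ZMod 3)) = 0 from rfl, em_zero]

theorem em_shift_uv (i j : I₃) : em w (i, 0) *ᵥ (uv j : I₃ → F) = uv (j + i) := by
  ext r
  simp [uv, em_apply, ch_zero, Pi.single_apply]

theorem uv_em_shift (i j : I₃) : (uv j : I₃ → F) ᵥ* em w (-i, 0) = uv (j + i) := by
  ext r
  simp only [uv, single_one_vecMul, Matrix.row_apply, em_apply, zero_mul, ch_zero, Pi.single_apply]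
  exact if_congr ⟨fun h => by rw [h]; abel, fun h => by rw [h]; abel⟩ rfl rfl

theorem conj_vecMulVec {g h : Matrix I₃ I₃ F} (hgh : g * h = 1) (s t : I₃ → F) :
    g * (1 + vecMulVec s t) * h = 1 + vecMulVec (g *ᵥ s) (t ᵥ* h) := by
  rw [mul_add, mul_one, add_mul, hgh, mul_vecMulVec, vecMulVec_mul]

theorem conj_hm {g h : Matrix I₃ I₃ F} (hgh : g * h = 1) (c : F) (s t : I₃ → F) :
    g * hm c s t * h = hm c (g *ᵥ s) (t ᵥ* h) := by
  rw [hm, hm, mul_add, mul_one, add_mul, hgh, Matrix.mul_smul, Matrix.smul_mul, mul_vecMulVec,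
    vecMulVec_mul]

theorem dot_conj {g h : Matrix I₃ I₃ F} (hgh : g * h = 1) (s t : I₃ → F) :
    (t ᵥ* h) ⬝ᵥ (g *ᵥ s) = t ⬝ᵥ s := by
  rw [← dotProduct_mulVec, mulVec_mulVec, mul_eq_one_comm.1 hgh, one_mulVec]

theorem InL.hd (C : Ctx w p) (hw : IsPrimitiveRoot w 3) (hE : ∀ e, InL L (em w e))
    (h0 : InL L (hd w 0)) (i : I₃) : InL L (hd w i) := by
  have h := InL.conj (hE (i, 0)) (em_shift_inv hw i) h0
  rw [ExtraNine17.hd, conj_hm (em_shift_inv hw i), em_shift_uv, uv_em_shift, zero_add] at h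
  exact h

/-- `1 + s tᵀ` is a transvection of `L`. -/
def Tv (L : Subgroup (GL I₃ F)) (s t : I₃ → F) : Prop := t ⬝ᵥ s = 0 ∧ InL L (1 + vecMulVec s t)

theorem Tv.pow {s t : I₃ → F} (h : Tv L s t) : ∀ n : ℕ, InL L (1 + (n : F) • vecMulVec s t)
  | 0 => by simpa using InL.one
  | n + 1 => by
    have := (Tv.pow h n).mul h.2
    rw [← one_smul F (vecMulVec s t), smul_smul, mul_one, one_add_mul_one_add, h.1, mul_zero,
      zero_smul, add_zero, add_assoc, ← add_smul] at this
    push_cast
    exact this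

theorem Tv.scale (C : Ctx w p) {s t : I₃ → F} (h : Tv L s t) (c : F) : Tv L (c • s) t := by
  refine ⟨by rw [dotProduct_smul, h.1, smul_zero], ?_⟩
  obtain ⟨n, rfl⟩ := C.surj c
  rw [smul_vecMulVec]
  exact h.pow n

theorem Tv.cancel (C : Ctx w p) {s t : I₃ → F} {a b : F} (ha : a ≠ 0) (hb : b ≠ 0)
    (h : Tv L (a • s) (b • t)) : Tv L s t := by
  have h' := h.scale C (a * b)⁻¹
  refine ⟨?_, ?_⟩
  · have := h.1
    simpa [smul_dotProduct, dotProduct_smul, ha, hb] using this
  · have e := h'.2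
    rwa [smul_smul, smul_vecMulVec, vecMulVec_smul, smul_smul,
      show (a * b)⁻¹ * a * b = 1 by field_simp, one_smul] at e

theorem Tv.add_centre {s s' t : I₃ → F} (h : Tv L s t) (h' : Tv L s' t) : Tv L (s + s') t := by
  refine ⟨by rw [dotProduct_add, h.1, h'.1, add_zero], ?_⟩
  have := h.2.mul h'.2
  rw [mul_add, mul_one, add_mul, one_mul, vecMulVec_mul_vecMulVec, h'.1, zero_smul, vecMulVec_zero,
    add_zero, add_assoc, ← add_vecMulVec] at this
  exact this

theorem Tv.add_axis {s t t' : I₃ → F} (h : Tv L s t) (h' : Tv L s t') : Tv L s (t + t') := by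
  refine ⟨by rw [add_dotProduct, h.1, h'.1, add_zero], ?_⟩
  have := h.2.mul h'.2
  rw [mul_add, mul_one, add_mul, one_mul, vecMulVec_mul_vecMulVec, h.1, zero_smul, vecMulVec_zero,
    add_zero, add_assoc, ← vecMulVec_add] at this
  exact this

theorem Tv.conj {g h : Matrix I₃ I₃ F} {s t : I₃ → F} (hT : Tv L s t) (hg : InL L g) (hgh : g * h = 1) :
    Tv L (g *ᵥ s) (t ᵥ* h) :=
  ⟨(dot_conj hgh s t).trans hT.1, conj_vecMulVec hgh s t ▸ hg.conj hgh hT.2⟩

theorem Tv.conj_hd (C : Ctx w p) {s t : I₃ → F} (hT : Tv L s t) {i : I₃} (hi : InL L (ExtraNine17.hd w i)) :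
    Tv L (s + ((w - 1) * s i) • uv i) (t + ((w ^ 2 - 1) * t i) • uv i) := by
  have h := hT.conj hi (hm_mul_inv C (by rw [uv_dot, uv_self]))
  rwa [ExtraNine17.hd, hm, hm, add_mulVec, one_mulVec, smul_mulVec, vecMulVec_mulVec,
    vecMul_add, vecMul_one, vecMul_smul, vecMul_vecMulVec, uv_dot, dot_uv,
    op_smul_eq_smul, smul_smul, smul_smul] at h

theorem Tv.conj_tv {s t a b : I₃ → F} (hT : Tv L s t) (hA : Tv L a b) :
    Tv L (s + (b ⬝ᵥ s) • a) (t - (t ⬝ᵥ a) • b) := by
  have hinv : (1 + vecMulVec a b) * (1 - vecMulVec a b) = 1 := by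
    rw [mul_sub, mul_one, add_mul, one_mul, vecMulVec_mul_vecMulVec, hA.1, zero_smul, vecMulVec_zero,
      add_zero, add_sub_cancel_right]
  have h := hT.conj hA.2 hinv
  rwa [add_mulVec, one_mulVec, vecMulVec_mulVec, op_smul_eq_smul, vecMul_sub, vecMul_one,
    vecMul_vecMulVec] at h

theorem exists_elementary (C : Ctx w p) (hd' : ∀ i, InL L (ExtraNine17.hd w i)) {s t : I₃ → F}
    (hT : Tv L s t) (hne : vecMulVec s t ≠ 0) : ∃ i j, i ≠ j ∧ Tv L (uv i) (uv j) := by
  have hw1 := C.w_sub_one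
  have hw2 : w ^ 2 - 1 ≠ 0 := fun e => C.w_ne_one (by linear_combination C.cube - w * e)
  obtain ⟨i, ψ, hψ, hψi, hψ0⟩ : ∃ i ψ, Tv L (uv i) ψ ∧ ψ i = 0 ∧ ψ ≠ 0 := by
    by_cases hx : ∃ i, t i * s i ≠ 0
    · obtain ⟨i, hi⟩ := hx
      refine ⟨i, t - t i • uv i, ?_, by simp [uv_self], ?_⟩
      · set s' := s + ((w - 1) * s i) • uv i with hs'
        set t' := t + ((w ^ 2 - 1) * t i) • uv i with ht'
        set c := -((w ^ 2 - 1) * (t i * s i))⁻¹ with hc
        have h1 : t' ⬝ᵥ s = (w ^ 2 - 1) * (t i * s i) := by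
          rw [ht', add_dotProduct, hT.1, smul_dotProduct, uv_dot, smul_eq_mul]; ring
        have h2 : t ⬝ᵥ s' = (w - 1) * (t i * s i) := by
          rw [hs', dotProduct_add, hT.1, dotProduct_smul, dot_uv, smul_eq_mul]; ring
        have h := hT.conj_tv ((hT.conj_hd C (hd' i)).scale C c)
        rw [dotProduct_smul, h1, h2, smul_smul, smul_eq_mul] at h
        refine Tv.cancel C (a := -((w - 1) * s i)) (b := 1 - w)
          (neg_ne_zero.2 (mul_ne_zero hw1 (right_ne_zero_of_mul hi))) (sub_ne_zero.2 C.w_ne_one.symm) ?_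
        have hX : (w ^ 2 - 1) * (t i * s i) ≠ 0 := mul_ne_zero hw2 hi
        have e1 : (w ^ 2 - 1) * (t i * s i) * c = -1 := by rw [hc, mul_neg, mul_inv_cancel₀ hX]
        have e2 : c * ((w - 1) * (t i * s i)) = w := by
          have e3 : (w - 1) * (t i * s i) = -w * ((w ^ 2 - 1) * (t i * s i)) := by
            linear_combination (t i * s i) * C.cube
          rw [e3]
          linear_combination -w * e1
        rw [e1, e2] at h
        convert h using 1
        · module
        · ext k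
          simp only [Pi.sub_apply, Pi.smul_apply, Pi.add_apply, smul_eq_mul]
          linear_combination (t i * (uv i : I₃ → F) k) * C.cube
      · intro e
        apply hi
        have := congrArg (fun f : I₃ → F => f ⬝ᵥ s) e
        simp only [sub_dotProduct, smul_dotProduct, uv_dot, zero_dotProduct, hT.1, smul_eq_mul,
          zero_sub, neg_eq_zero] at this
        exact this
    · push Not at hx
      obtain ⟨i, hi⟩ : ∃ i, s i ≠ 0 := by
        by_contra hc
        push Not at hc
        exact hne (by rw [show s = 0 from funext hc, zero_vecMulVec])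
      have hti : t i = 0 := (mul_eq_zero.1 (hx i)).resolve_right hi
      have h := hT.conj_hd C (hd' i)
      rw [hti, mul_zero, zero_smul, add_zero] at h
      have h' := h.add_centre (hT.scale C (-1))
      rw [neg_one_smul, add_comm s, add_assoc, add_neg_cancel, add_zero] at h'
      refine ⟨i, t, Tv.cancel C (b := 1) (mul_ne_zero hw1 hi) one_ne_zero (by rwa [one_smul]), hti, ?_⟩
      rintro rfl
      exact hne (vecMulVec_zero _)
  obtain ⟨j, hj⟩ : ∃ j, ψ j ≠ 0 := by
    by_contra hc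
    push Not at hc
    exact hψ0 (funext hc)
  have hji : j ≠ i := fun e => hj (e ▸ hψi)
  refine ⟨i, j, hji.symm, ?_⟩
  have h := hψ.conj_hd C (hd' j)
  rw [uv_ne hji, mul_zero, zero_smul, add_zero] at h
  have h2 : Tv L ((-1 : F) • uv i) ψ := hψ.scale C (-1)
  have h3 : Tv L (uv i) ((-1 : F) • ψ) := by
    refine ⟨by rw [smul_dotProduct, hψ.1, smul_zero], ?_⟩
    have := h2.2
    rwa [smul_vecMulVec, ← vecMulVec_smul] at this
  have h4 := h.add_axis h3
  rw [neg_one_smul, add_comm ψ, add_assoc, add_neg_cancel, add_zero] at h4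
  exact Tv.cancel C (a := 1) one_ne_zero (mul_ne_zero hw2 hj) (by rwa [one_smul])

/-- All elementary transvections. -/
theorem all_elementary (C : Ctx w p) (hw : IsPrimitiveRoot w 3) (hE : ∀ e, InL L (em w e))
    (hd' : ∀ i, InL L (ExtraNine17.hd w i)) {s t : I₃ → F} (hT : Tv L s t) (hne : vecMulVec s t ≠ 0)
    (i j : I₃) (hij : i ≠ j) (c : F) : InL L (Matrix.transvection i j c) := by
  obtain ⟨a, b, hab, h⟩ := exists_elementary C hd' hT hne
  have shift : ∀ k, Tv L (uv (a + k)) (uv (b + k)) := fun k => by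
    have := h.conj (hE (k, 0)) (em_shift_inv hw k)
    rwa [em_shift_uv, uv_em_shift] at this
  have comp : ∀ a b c : I₃, a ≠ c → Tv L (uv a) (uv b) → Tv L (uv b) (uv c) → Tv L (uv a) (uv c) := by
    intro a b c hac hA hB
    have h := hB.conj_tv hA
    rw [uv_dot, uv_self, one_smul, dot_uv, uv_ne hac, zero_smul, sub_zero] at h
    have h' := h.add_centre (hB.scale C (-1))
    rwa [neg_one_smul, add_comm (uv b), add_assoc, add_neg_cancel, add_zero] at h'
  have hone : Tv L (uv i) (uv j) := by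
    have h3 : ∀ x y z v : ZMod 3, x ≠ y → z ≠ v →
        v - z = y - x ∨ (v - z = (y - x) + (y - x) ∧ x + (z - x) ≠ (z + (y - x)) + (y - x)) := by decide
    rcases h3 a b i j hab hij with e | ⟨e, hne'⟩
    · have := shift (i - a)
      rwa [add_sub_cancel, show b + (i - a) = j by linear_combination -e] at this
    · have h1 := shift (i - a)
      have h2 := shift (i + (b - a) - a)
      rw [add_sub_cancel, show b + (i - a) = i + (b - a) by ring] at h1
      rw [add_sub_cancel, show b + (i + (b - a) - a) = i + (b - a) + (b - a) by ring] at h2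
      have hj : i + (b - a) + (b - a) = j := by rw [add_assoc, ← e]; ring
      exact hj ▸ comp _ _ _ (hj ▸ hij) h1 h2
  have := (hone.scale C c).2
  rw [Matrix.transvection]
  convert this using 2
  ext x y
  rcases eq_or_ne x i with rfl | hx <;> rcases eq_or_ne y j with rfl | hy <;>
    simp [Matrix.vecMulVec_apply, uv, Matrix.single, *, Ne.symm]

end Cfsg.Agent.Lib.ExtraNine17
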