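import Cfsg.Agent.Lib.ExtraNine17.BaseCtx
import Cfsg.Agent.Lib.SL2.Dickson

/-!
Two elements of order three of `SL(2, p)` generating a group of order prime to `p`: the possible
traces of their product.
-/

set_option autoImplicit false
set_option linter.style.haveILetI false

namespace Cfsg.Agent.Lib.ExtraNine17

open Matrix Cfsg.Agent.Lib.SL2

variable {F : Type*} [Field F] [Fintype F] {w : F} {p : ℕ}

omit [Fintype F] in
/-- A polynomial condition on the trace of an element of small projective order. -/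
theorem tr_cond {z : SLtwo F} (hz : z ∉ Subgroup.center (SLtwo F))
    (h : proj z ^ 2 = 1 ∨ proj z ^ 3 = 1 ∨ proj z ^ 5 = 1) :
    tr z = 0 ∨ tr z ^ 2 = 1 ∨ tr z ^ 4 - 3 * tr z ^ 2 + 1 = 0 := by
  have key : ∀ (n : ℕ) (c d : F), proj z ^ n = 1 →
      ((z : Matrix (Fin 2) (Fin 2) F) ^ n = c • (z : Matrix (Fin 2) (Fin 2) F) + d • 1) → c = 0 := by
    intro n c d hn hc
    by_contra hne
    rw [← map_pow, proj_eq_one_iff, mem_center_iff_entries] at hn
    simp only [Matrix.SpecialLinearGroup.coe_pow, hc] at hn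
    obtain ⟨h01, h10, h00⟩ := hn
    simp [Matrix.add_apply, Matrix.smul_apply, hne] at h01 h10 h00
    exact hz ((mem_center_iff_entries z).2 ⟨h01, h10, h00⟩)
  have h2 := cayley_hamilton z
  set Z := (z : Matrix (Fin 2) (Fin 2) F) with hZ
  have e2 : Z ^ 2 = tr z • Z + (-1 : F) • 1 := by rw [pow_two, h2, neg_one_smul, sub_eq_add_neg]
  have step : ∀ (n : ℕ) (c d : F), Z ^ n = c • Z + d • 1 → Z ^ (n + 1) = (c * tr z + d) • Z + (-c) • 1 := by
    intro n c d h
    rw [pow_succ, h, add_mul, Matrix.smul_mul, Matrix.smul_mul, one_mul, h2]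
    module
  have e3 := step 2 _ _ e2
  have e4 := step 3 _ _ e3
  have e5 := step 4 _ _ e4
  rcases h with h | h | h
  · exact Or.inl (key 2 _ _ h e2)
  · exact Or.inr (Or.inl (by linear_combination key 3 _ _ h e3))
  · exact Or.inr (Or.inr (by linear_combination key 5 _ _ h e5))

omit [Fintype F] in
theorem oneTwoR_of_tr (C : Ctx w p) {t : F} (h1 : t = 0 ∨ t ^ 2 = 1 ∨ t ^ 4 - 3 * t ^ 2 + 1 = 0)
    (h2 : 1 - t = 0 ∨ (1 - t) ^ 2 = 1 ∨ (1 - t) ^ 4 - 3 * (1 - t) ^ 2 + 1 = 0) : OneTwoR (2 - t) := by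
  rcases h1 with h | h | h
  · exact Or.inr (Or.inl (by rw [h]; ring))
  · have hsq : (t - 1) * (t + 1) = 0 := by linear_combination h
    rcases mul_eq_zero.1 hsq with e | e
    · exact Or.inl (by linear_combination -e)
    · exfalso
      have ht : t = -1 := by linear_combination e
      subst ht
      rcases h2 with h | h | h
      · exact C.two (by linear_combination h)
      · exact C.three (by linear_combination h)
      · exact C.five (by linear_combination h)
  · have hf : (t ^ 2 - t - 1) * (t ^ 2 + t - 1) = 0 := by linear_combination h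
    rcases mul_eq_zero.1 hf with e | e
    · exact Or.inr (Or.inr (by linear_combination e))
    · exfalso
      rcases h2 with h | h | h
      · exact one_ne_zero (α := F) (by linear_combination e + (t + 2) * h)
      · have : t * (t - 2) = 0 := by linear_combination h
        rcases mul_eq_zero.1 this with e' | e'
        · exact one_ne_zero (α := F) (by linear_combination -e + (t + 1) * e')
        · exact C.five (by linear_combination e - (t + 3) * e')
      · have hg : ((1 - t) ^ 2 - (1 - t) - 1) * ((1 - t) ^ 2 + (1 - t) - 1) = 0 := by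
          linear_combination h
        rcases mul_eq_zero.1 hg with e' | e'
        · have ht : 2 * t = 0 := by linear_combination e - e'
          have ht' := (mul_eq_zero.1 ht).resolve_left C.two
          exact one_ne_zero (α := F) (by linear_combination -e + (t + 1) * ht')
        · have h4 : 2 * (2 * t - 1) = 0 := by linear_combination e - e'
          have ht := (mul_eq_zero.1 h4).resolve_left C.two
          exact one_ne_zero (α := F) (by linear_combination -4 * e + (2 * t + 3) * ht)

theorem small_alt_five : ∀ g : alternatingGroup (Fin 5), g ^ 2 = 1 ∨ g ^ 3 = 1 ∨ g ^ 5 = 1 := by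
  decide +kernel

theorem small_alt_four : ∀ g : alternatingGroup (Fin 4), g ^ 2 = 1 ∨ g ^ 3 = 1 ∨ g ^ 5 = 1 := by
  decide +kernel

theorem small_sym_four : ∀ a b : Equiv.Perm (Fin 4), a ^ 3 = 1 → b ^ 3 = 1 →
    (a * b) ^ 2 = 1 ∨ (a * b) ^ 3 = 1 ∨ (a * b) ^ 5 = 1 := by
  decide +kernel

omit [Fintype F] in
theorem pow_three_of_tr {x : SLtwo F} (hx : tr x = -1) : x ^ 3 = 1 := by
  apply Subtype.ext
  have h2 := cayley_hamilton x
  rw [hx] at h2
  show ((x ^ 3 : SLtwo F) : Matrix (Fin 2) (Fin 2) F) = ((1 : SLtwo F) : Matrix (Fin 2) (Fin 2) F)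
  rw [Matrix.SpecialLinearGroup.coe_pow, Matrix.SpecialLinearGroup.coe_one, pow_succ, pow_two, h2,
    sub_mul, Matrix.smul_mul, h2, one_mul]
  module

theorem trace_cases (C : Ctx w p) {x y : SLtwo F} (hx : tr x = -1) (hy : tr y = -1)
    (hne : x * y ≠ y * x) (hp : ¬ p ∣ Nat.card (Subgroup.closure ({x, y} : Set (SLtwo F)))) :
    OneTwoR (2 - tr (x * y)) := by
  classical
  haveI := C.char
  haveI := Fact.mk C.prime
  set H : Subgroup (PSLtwo F) := (Subgroup.closure ({x, y} : Set (SLtwo F))).map proj with hH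
  have hpH : ¬ p ∣ Nat.card H := fun h => hp (h.trans (Subgroup.card_map_dvd _ _))
  have hxH : proj x ∈ H := Subgroup.mem_map_of_mem _ (Subgroup.subset_closure (by simp))
  have hyH : proj y ∈ H := Subgroup.mem_map_of_mem _ (Subgroup.subset_closure (by simp))
  have hncom : proj x * proj y ≠ proj y * proj x := by
    intro h
    rw [← map_mul, ← map_mul] at h
    rcases proj_eq_proj_iff.1 h with e | e
    · exact hne e.symm
    · have e' : x⁻¹ * y * x = -y := by
        rw [mul_assoc, e]
        simp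
      have ht := congrArg tr e'
      rw [show x⁻¹ * y * x = x⁻¹ * y * x⁻¹⁻¹ by rw [inv_inv], tr_conj, tr_neg, hy] at ht
      exact C.two (by linear_combination -ht)
  have hx3 : proj x ^ 3 = 1 := by rw [← map_pow, pow_three_of_tr hx, map_one]
  have hy3 : proj y ^ 3 = 1 := by rw [← map_pow, pow_three_of_tr hy, map_one]
  have hxy : (x * y) ∉ Subgroup.center (SLtwo F) := fun h => hne (by
    have := Subgroup.mem_center_iff.1 h x
    rw [mul_assoc] at this
    exact mul_left_cancel (a := x) this)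
  have hxy' : (x * y⁻¹) ∉ Subgroup.center (SLtwo F) := fun h => hne (by
    have := Subgroup.mem_center_iff.1 h y
    calc x * y = x * y⁻¹ * y * y := by simp
      _ = y * (x * y⁻¹) * y := by rw [this]
      _ = y * x := by simp [mul_assoc])
  have htr' : tr (x * y⁻¹) = 1 - tr (x * y) := by
    have hxt := hx
    have hyt := hy
    simp only [tr] at hxt hyt ⊢
    simp only [mul_00, mul_11, inv_00, inv_01, inv_10, inv_11]
    linear_combination (y 0 0 + y 1 1) * hxt + (-1 : F) * hyt
  have hfin : ((proj (x * y)) ^ 2 = 1 ∨ (proj (x * y)) ^ 3 = 1 ∨ (proj (x * y)) ^ 5 = 1) ∧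
      ((proj (x * y⁻¹)) ^ 2 = 1 ∨ (proj (x * y⁻¹)) ^ 3 = 1 ∨ (proj (x * y⁻¹)) ^ 5 = 1) := by
    let X : H := ⟨proj x, hxH⟩
    let Y : H := ⟨proj y, hyH⟩
    have hX3 : X ^ 3 = 1 := Subtype.ext hx3
    have hY3 : Y ^ 3 = 1 := Subtype.ext hy3
    have hXY : X * Y ≠ Y * X := fun h => hncom (congrArg Subtype.val h)
    suffices hs : ((X * Y) ^ 2 = 1 ∨ (X * Y) ^ 3 = 1 ∨ (X * Y) ^ 5 = 1) ∧
        ((X * Y⁻¹) ^ 2 = 1 ∨ (X * Y⁻¹) ^ 3 = 1 ∨ (X * Y⁻¹) ^ 5 = 1) by
      simpa [Subtype.ext_iff, X, Y] using hs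
    rcases dickson p H with h | ⟨A, -, -, h⟩ | ⟨u, hu, hu1, h⟩ | h | ⟨K, δ, -, h⟩
    · exact absurd (Subgroup.mem_bot.1 (h ▸ hxH)) (fun h1 => hncom (by rw [h1, one_mul, mul_one]))
    · rcases h with ⟨hc, -⟩ | ⟨⟨e⟩⟩
      · haveI := hc
        obtain ⟨g, hg⟩ := hc.exists_generator
        obtain ⟨i, hi⟩ := Subgroup.mem_zpowers_iff.1 (hg X)
        obtain ⟨j, hj⟩ := Subgroup.mem_zpowers_iff.1 (hg Y)
        exact absurd (by rw [← hi, ← hj]; exact zpow_mul_comm g i j) hXY
      · refine absurd (e.injective (?_ : e (X * Y) = e (Y * X))) hXY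
        have rot : ∀ d : DihedralGroup (Nat.card A), d ^ 3 = 1 → ∃ i, d = DihedralGroup.r i := by
          rintro (i | i) hd
          · exact ⟨i, rfl⟩
          · rw [pow_succ, pow_two, DihedralGroup.sr_mul_self, one_mul] at hd
            cases hd
        obtain ⟨i, hi⟩ := rot (e X) (by rw [← map_pow, hX3, map_one])
        obtain ⟨j, hj⟩ := rot (e Y) (by rw [← map_pow, hY3, map_one])
        rw [map_mul, map_mul, hi, hj, DihedralGroup.r_mul_r, DihedralGroup.r_mul_r, add_comm]
    · refine absurd ?_ hncom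
      have hxn := (Subgroup.mem_normalizer_iff.1 (h hxH) u).1 (mem_torus_self u)
      have hyn := (Subgroup.mem_normalizer_iff.1 (h hyH) u).1 (mem_torus_self u)
      have hc := commutator_mem_torus_unip hu hu1 hxn hyn
      set c := proj x * proj y * (proj x)⁻¹ * (proj y)⁻¹ with hcdef
      have hcH : c ∈ H := mul_mem (mul_mem (mul_mem hxH hyH) (inv_mem hxH)) (inv_mem hyH)
      have h1 : orderOf c ∣ p := by
        rcases semiMember_or_unipMember (isMember_of_mem (H := ⊤) (Subgroup.mem_top u) hu1) with hm | hm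
        · exact absurd (hm.2 u ⟨mem_torus_self u, Subgroup.mem_top _⟩ hu1) (not_semi_of_unip hu)
        · exact orderOf_dvd_of_unip p (hm.2 c ⟨hc, Subgroup.mem_top _⟩)
      rcases (Nat.dvd_prime C.prime).1 h1 with h1 | h1
      · have := orderOf_eq_one_iff.1 h1
        rwa [hcdef, mul_inv_eq_one, mul_inv_eq_iff_eq_mul] at this
      · exact absurd (h1 ▸ Subgroup.orderOf_dvd_natCard H hcH) hpH
    · rcases h with ⟨⟨e⟩⟩ | ⟨⟨e⟩⟩ | ⟨⟨e⟩⟩
      · have key : ∀ z : H, z ^ 2 = 1 ∨ z ^ 3 = 1 ∨ z ^ 5 = 1 := fun z => by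
          simpa only [← map_pow, MulEquiv.map_eq_one_iff] using small_alt_four (e z)
        exact ⟨key _, key _⟩
      · have key : ∀ Z : H, Z ^ 3 = 1 → (X * Z) ^ 2 = 1 ∨ (X * Z) ^ 3 = 1 ∨ (X * Z) ^ 5 = 1 := fun Z hZ => by
          simpa only [← map_mul, ← map_pow, MulEquiv.map_eq_one_iff] using
            small_sym_four (e X) (e Z) (by rw [← map_pow, hX3, map_one]) (by rw [← map_pow, hZ, map_one])
        exact ⟨key _ hY3, key _ (by rw [inv_pow, hY3, inv_one])⟩
      · have key : ∀ z : H, z ^ 2 = 1 ∨ z ^ 3 = 1 ∨ z ^ 5 = 1 := fun z => by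
          simpa only [← map_pow, MulEquiv.map_eq_one_iff] using small_alt_five (e z)
        exact ⟨key _, key _⟩
    · exfalso
      set u : SLtwo K := upper 1 with hu
      have hu' : slMap K u ≠ 1 := by
        intro he
        have hk : Matrix.SpecialLinearGroup.toGL u ∈ (glMap K).ker := he
        rw [ker_glMap, Subgroup.mem_center_iff] at hk
        have := congrArg (fun g : GL (Fin 2) K => (g : Matrix (Fin 2) (Fin 2) K) 0 0)
          (hk (Matrix.SpecialLinearGroup.toGL (lower 1)))
        have hco : ∀ g : SLtwo K, ((Matrix.SpecialLinearGroup.toGL g : GL (Fin 2) K) : Matrix (Fin 2) (Fin 2) K) =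
            (g : Matrix (Fin 2) (Fin 2) K) := fun g => rfl
        simp only [Units.val_mul, hco] at this
        simp [hu, upper, lower, ofEntries, Matrix.mul_apply, Fin.sum_univ_two] at this
      have hup : slMap K u ^ p = 1 := by
        rw [← map_pow, hu, upper_pow, mul_one, CharP.cast_eq_zero, upper_zero, map_one]
      have hmem : δ * slMap K u * δ⁻¹ ∈ H.map Matrix.ProjectiveSpecialLinearGroup.toPGL := by
        rcases h with h | h <;> rw [h]
        · exact ⟨_, ⟨Matrix.SpecialLinearGroup.toGL u, rfl⟩, rfl⟩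
        · exact ⟨_, ⟨u, rfl⟩, rfl⟩
      obtain ⟨v, hv, hve⟩ := hmem
      have hop : orderOf v = p := by
        rw [← orderOf_injective _ Matrix.ProjectiveSpecialLinearGroup.toPGL_injective v, hve]
        apply orderOf_eq_prime
        · rw [← MulAut.conj_apply, ← map_pow, hup, map_one]
        · rw [← MulAut.conj_apply, Ne, MulEquiv.map_eq_one_iff]
          exact hu'
      exact hpH (hop ▸ Subgroup.orderOf_dvd_natCard H hv)
  refine oneTwoR_of_tr C (tr_cond hxy hfin.1) ?_
  rw [← htr']
  exact tr_cond hxy' hfin.2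

end Cfsg.Agent.Lib.ExtraNine17
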