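import Cfsg.Agent.Lib.ExtraNine17.BaseElem

/-!
Without transvections, the homologies of the group are the twelve of the normaliser of the group of
order twenty-seven.
-/

set_option autoImplicit false
set_option linter.style.haveILetI false
set_option linter.unusedSimpArgs false

namespace Cfsg.Agent.Lib.ExtraNine17

open Matrix

variable {F : Type*} [Field F] {w : F} {p : ℕ} {L : Subgroup (GL I₃ F)}

theorem ch_two (w : F) : ch w 2 = w ^ 2 := rfl

theorem three_cases : ∀ i : I₃, i = 0 ∨ i = 1 ∨ i = 2 := by decide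

theorem sum_three (g : I₃ → F) : ∑ i, g i = g 0 + g 1 + g 2 := Fin.sum_univ_three g

theorem dot_three (a b : I₃ → F) : a ⬝ᵥ b = a 0 * b 0 + a 1 * b 1 + a 2 * b 2 := sum_three _

/-- A centre outside the coordinate frame. -/
def ctr (w : F) (f : I₃ → ZMod 3) : I₃ → F := fun k => ch w (f k)

/-- The axis belonging to a centre outside the coordinate frame. -/
def axf (w : F) (f : I₃ → ZMod 3) : I₃ → F := fun k => ch w (-f k) / 3

/-- A homology of the normaliser outside the coordinate frame. -/
def hn (w : F) (f : I₃ → ZMod 3) : Matrix I₃ I₃ F := hm w (ctr w f) (axf w f)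

theorem axf_ctr (C : Ctx w p) (hw : IsPrimitiveRoot w 3) (f : I₃ → ZMod 3) : axf w f ⬝ᵥ ctr w f = 1 := by
  have h : ∀ k, axf w f k * ctr w f k = 1 / 3 := fun k => by
    rw [axf, ctr, div_mul_eq_mul_div, mul_comm, ch_mul_neg hw]
  have := C.three
  rw [dot_three, h, h, h]
  field_simp
  ring

theorem hn_zero (w : F) : hn w 0 = hom1 w := by
  ext a b
  simp [hn, hm, hom1, ctr, axf, ch_zero, Matrix.vecMulVec_apply]
  ring

/-- The diagonal element attached to exponents. -/
def dg (w : F) (f : I₃ → ZMod 3) : Matrix I₃ I₃ F := diagonal (ctr w f)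

theorem dg_mul_neg (hw : IsPrimitiveRoot w 3) (f : I₃ → ZMod 3) : dg w f * dg w (-f) = 1 := by
  rw [dg, dg, diagonal_mul_diagonal, ← diagonal_one]
  congr 1
  ext k
  exact ch_mul_neg hw _

theorem InL.dg (hd' : ∀ i, InL L (ExtraNine17.hd w i)) (f : I₃ → ZMod 3) : InL L (ExtraNine17.dg w f) := by
  have h := ((hd' 0).pow (f 0).val).mul (((hd' 1).pow (f 1).val).mul ((hd' 2).pow (f 2).val))
  rw [hd_eq, hd_eq, hd_eq, diagonal_pow, diagonal_pow, diagonal_pow, diagonal_mul_diagonal,
    diagonal_mul_diagonal] at h
  convert h using 1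
  rw [ExtraNine17.dg]
  congr 1
  ext k
  obtain rfl | rfl | rfl := three_cases k
  · simp [ctr, ch, show (0 : I₃) ≠ 1 by decide, show (0 : I₃) ≠ 2 by decide]
  · simp [ctr, ch, show (1 : I₃) ≠ 0 by decide, show (1 : I₃) ≠ 2 by decide]
  · simp [ctr, ch, show (2 : I₃) ≠ 0 by decide, show (2 : I₃) ≠ 1 by decide]

theorem InL.hn (hw : IsPrimitiveRoot w 3) (hd' : ∀ i, InL L (ExtraNine17.hd w i))
    (h1 : InL L (hom1 w)) (f : I₃ → ZMod 3) : InL L (ExtraNine17.hn w f) := by
  have h := InL.conj (InL.dg hd' f) (dg_mul_neg hw f) (hn_zero w ▸ h1)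
  rw [ExtraNine17.hn, conj_hm (dg_mul_neg hw f)] at h
  convert h using 1
  rw [ExtraNine17.hn]
  congr 1
  · ext k; simp [ExtraNine17.dg, mulVec_diagonal, ctr, ch_zero]
  · ext k
    simp [ExtraNine17.dg, vecMul_diagonal, ctr, axf, ch_zero, neg_mul]
    ring

/-- One of the twelve homologies. -/
def IsTwelve (w : F) (M : Matrix I₃ I₃ F) : Prop := (∃ i, M = hd w i) ∨ ∃ f, M = hn w f

/-- What is known about the cross values of a homology with one of the twelve. -/
def Good (A B : F) : Prop := (A = 0 ∧ B = 0) ∨ OneTwoR (3 * (A * B))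

theorem not_oneTwoR_zero (C : Ctx w p) : ¬ OneTwoR (0 : F) := by
  rintro (h | h | h)
  · exact zero_ne_one h
  · exact C.two h.symm
  · exact one_ne_zero (by linear_combination h)

theorem not_oneTwoR_three (C : Ctx w p) : ¬ OneTwoR (3 : F) := by
  rintro (h | h | h)
  · exact C.two (by linear_combination h)
  · exact one_ne_zero (α := F) (by linear_combination h)
  · exact one_ne_zero (α := F) (by linear_combination h)

theorem Good.both (C : Ctx w p) {A B : F} (h : Good A B) (h0 : A * B = 0) : A = 0 ∧ B = 0 := by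
  rcases h with h | h
  · exact h
  · rw [h0, mul_zero] at h
    exact absurd h (not_oneTwoR_zero C)

/-- Three admissible values with sum three. -/
theorem triple (C : Ctx w p) {a b c : F} (ha : OneTwoR a) (hb : OneTwoR b) (hc : OneTwoR c)
    (hs : a + b + c = 3) : a = 1 ∧ b = 1 ∧ c = 1 := by
  have n1 : (1 : F) ≠ 0 := one_ne_zero
  have n2 := C.two
  have n3 := C.three
  have n5 := C.five
  have R1 : ∀ r : F, r ^ 2 - 3 * r + 1 = 0 → r ≠ 1 ∧ r ≠ 0 ∧ r ≠ -1 ∧ r ≠ 2 ∧ 2 * r ≠ 1 := by
    intro r hr
    refine ⟨?_, ?_, ?_, ?_, ?_⟩ <;> intro e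
    · exact n1 (by linear_combination -hr + (r - 2) * e)
    · exact n1 (by linear_combination hr - (r - 3) * e)
    · exact n5 (by linear_combination hr - (r - 4) * e)
    · exact n1 (by linear_combination -hr + (r - 1) * e)
    · exact n1 (by linear_combination -4 * hr + (2 * r - 5) * e) 
  have R2 : ∀ r s : F, r ^ 2 - 3 * r + 1 = 0 → s ^ 2 - 3 * s + 1 = 0 → r = s ∨ r + s = 3 := by
    intro r s hr hs
    have : (r - s) * (r + s - 3) = 0 := by linear_combination hr - hs
    rcases mul_eq_zero.1 this with e | e
    · exact Or.inl (sub_eq_zero.1 e)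
    · exact Or.inr (sub_eq_zero.1 e)
  rcases ha with ha | ha | ha <;> rcases hb with hb | hb | hb <;> rcases hc with hc | hc | hc
  · exact ⟨ha, hb, hc⟩
  · exact absurd (by linear_combination hs - ha - hb - hc : (1 : F) = 0) n1
  · exact absurd (by linear_combination hs - ha - hb : c = 1) (R1 c hc).1
  · exact absurd (by linear_combination hs - ha - hb - hc : (1 : F) = 0) n1
  · exact absurd (by linear_combination hs - ha - hb - hc : (2 : F) = 0) n2
  · exact absurd (by linear_combination hs - ha - hb : c = 0) (R1 c hc).2.1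
  · exact absurd (by linear_combination hs - ha - hc : b = 1) (R1 b hb).1
  · exact absurd (by linear_combination hs - ha - hc : b = 0) (R1 b hb).2.1
  · rcases R2 b c hb hc with e | e
    · exact absurd (mul_left_cancel₀ n2 (by linear_combination hs - ha + e : 2 * b = 2 * 1)) (R1 b hb).1
    · exact absurd (by linear_combination hs - ha - e : (1 : F) = 0) n1
  · exact absurd (by linear_combination hs - ha - hb - hc : (1 : F) = 0) n1
  · exact absurd (by linear_combination hs - ha - hb - hc : (2 : F) = 0) n2
  · exact absurd (by linear_combination hs - ha - hb : c = 0) (R1 c hc).2.1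
  · exact absurd (by linear_combination hs - ha - hb - hc : (2 : F) = 0) n2
  · exact absurd (by linear_combination hs - ha - hb - hc : (3 : F) = 0) n3
  · exact absurd (by linear_combination hs - ha - hb : c = -1) (R1 c hc).2.2.1
  · exact absurd (by linear_combination hs - ha - hc : b = 0) (R1 b hb).2.1
  · exact absurd (by linear_combination hs - ha - hc : b = -1) (R1 b hb).2.2.1
  · rcases R2 b c hb hc with e | e
    · exact absurd (by linear_combination hs - ha + e : 2 * b = 1) (R1 b hb).2.2.2.2
    · exact absurd (by linear_combination hs - ha - e : (2 : F) = 0) n2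
  · exact absurd (by linear_combination hs - hb - hc : a = 1) (R1 a ha).1
  · exact absurd (by linear_combination hs - hb - hc : a = 0) (R1 a ha).2.1
  · rcases R2 a c ha hc with e | e
    · exact absurd (mul_left_cancel₀ n2 (by linear_combination hs - hb + e : 2 * a = 2 * 1)) (R1 a ha).1
    · exact absurd (by linear_combination hs - hb - e : (1 : F) = 0) n1
  · exact absurd (by linear_combination hs - hb - hc : a = 0) (R1 a ha).2.1
  · exact absurd (by linear_combination hs - hb - hc : a = -1) (R1 a ha).2.2.1
  · rcases R2 a c ha hc with e | e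
    · exact absurd (by linear_combination hs - hb + e : 2 * a = 1) (R1 a ha).2.2.2.2
    · exact absurd (by linear_combination hs - hb - e : (2 : F) = 0) n2
  · rcases R2 a b ha hb with e | e
    · exact absurd (mul_left_cancel₀ n2 (by linear_combination hs - hc + e : 2 * a = 2 * 1)) (R1 a ha).1
    · exact absurd (by linear_combination hs - hc - e : (1 : F) = 0) n1
  · rcases R2 a b ha hb with e | e
    · exact absurd (by linear_combination hs - hc + e : 2 * a = 1) (R1 a ha).2.2.2.2
    · exact absurd (by linear_combination hs - hc - e : (2 : F) = 0) n2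
  · rcases R2 a b ha hb with e | e
    · rcases R2 a c ha hc with e' | e'
      · exact absurd (mul_left_cancel₀ n3 (by linear_combination hs + e + e' : 3 * a = 3 * 1)) (R1 a ha).1
      · exact absurd (by linear_combination hs + e - e' : a = 0) (R1 a ha).2.1
    · exact absurd (by linear_combination hs - e : c = 0) (R1 c hc).2.1

/-- Every homology is one of the twelve. -/
theorem isTwelve_of_noTransv [Fintype F] (C : Ctx w p) (hw : IsPrimitiveRoot w 3) (hN : NoTransv L)
    (hd' : ∀ i, InL L (ExtraNine17.hd w i)) (h1 : InL L (hom1 w)) {v φ : I₃ → F} (h : φ ⬝ᵥ v = 1)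
    (ha : InL L (hm w v φ)) : IsTwelve w (hm w v φ) := by
  by_contra hT
  have hw3 := C.cube
  have gcoord : ∀ i, Good (φ i) (v i) := fun i => by
    rcases pair_cases C hN h (by rw [uv_dot, uv_self]) ha (hd' i) with e | e | e
    · exact absurd (Or.inl ⟨i, e⟩) hT
    · rw [dot_uv, uv_dot] at e; exact Or.inl e
    · rw [dot_uv, uv_dot] at e; exact Or.inr e
  have gn : ∀ f, Good (φ ⬝ᵥ ctr w f) (axf w f ⬝ᵥ v) := fun f => by
    rcases pair_cases C hN h (axf_ctr C hw f) ha (InL.hn hw hd' h1 f) with e | e | e
    · exact absurd (Or.inr ⟨f, e⟩) hT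
    · exact Or.inl e
    · exact Or.inr e
  have hx : ∀ i, φ i * v i + φ (i + 1) * v (i + 1) + φ (i + 2) * v (i + 2) = 1 := by
    intro i
    rw [dot_three] at h
    obtain rfl | rfl | rfl := three_cases i
    · rw [zero_add, zero_add]; exact h
    · rw [show (1 : I₃) + 1 = 2 by decide, show (1 : I₃) + 2 = 0 by decide]; linear_combination h
    · rw [show (2 : I₃) + 1 = 0 by decide, show (2 : I₃) + 2 = 1 by decide]; linear_combination h
  by_cases hA : ∃ i, φ i = 0 ∧ v i = 0
  · obtain ⟨i, hpi, hvi⟩ := hA
    set a := φ (i + 1) with hadef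
    set b := φ (i + 2) with hbdef
    set s := v (i + 1) with hsdef
    set u := v (i + 2) with hudef
    have hsum : a * s + b * u = 1 := by
      have := hx i; rw [hpi, hvi] at this; linear_combination this
    have nz : ∀ A B A' B' : F, Good A B → Good A' B' → A * B + A' * B' = 1 → A * B ≠ 0 := by
      intro A B A' B' _ g' hs e
      have hAB : A' * B' = 1 := by linear_combination hs - e
      rcases g' with ⟨e1, -⟩ | g'
      · rw [e1, zero_mul] at hAB; exact zero_ne_one hAB
      · rw [hAB, mul_one] at g'; exact not_oneTwoR_three C g'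
    have has := nz a s b u (gcoord _) (gcoord _) hsum
    have hbu := nz b u a s (gcoord _) (gcoord _) (by rw [add_comm]; exact hsum)
    let fd : ZMod 3 → I₃ → ZMod 3 := fun d m => if m = i + 2 then d else 0
    have dots : ∀ d, φ ⬝ᵥ ctr w (fd d) = a + b * ch w d ∧
        axf w (fd d) ⬝ᵥ v = (s + u * ch w (-d)) / 3 := by
      intro d
      rw [dot_three, dot_three, hadef, hbdef, hsdef, hudef]
      obtain rfl | rfl | rfl := three_cases i
      · simp only [ctr, axf, fd, show (0 : I₃) + 1 = 1 by decide, show (0 : I₃) + 2 = 2 by decide]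
        simp [ch_zero, hpi, hvi, show (1 : I₃) ≠ 2 by decide, show (0 : I₃) ≠ 2 by decide]
        first | (constructor <;> ring) | ring
      · simp only [ctr, axf, fd, show (1 : I₃) + 1 = 2 by decide, show (1 : I₃) + 2 = 0 by decide]
        simp [ch_zero, hpi, hvi, show (1 : I₃) ≠ 0 by decide, show (2 : I₃) ≠ 0 by decide]
        first | (constructor <;> ring) | ring
      · simp only [ctr, axf, fd, show (2 : I₃) + 1 = 0 by decide, show (2 : I₃) + 2 = 1 by decide]
        simp [ch_zero, hpi, hvi, show (0 : I₃) ≠ 1 by decide, show (2 : I₃) ≠ 1 by decide]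
        first | (constructor <;> ring) | ring
    set K : ZMod 3 → F := fun d => (a + b * ch w d) * (s + u * ch w (-d)) with hK
    have gK : ∀ d, (a + b * ch w d = 0 ∧ s + u * ch w (-d) = 0) ∨ OneTwoR (K d) := by
      intro d
      have h3 := C.three
      rcases gn (fd d) with g | g <;> rw [(dots d).1, (dots d).2] at g
      · exact Or.inl ⟨g.1, (div_eq_zero_iff.1 g.2).resolve_right h3⟩
      · refine Or.inr ?_
        convert g using 1
        simp only [hK]; field_simp
    by_cases hz : ∃ d, a + b * ch w d = 0 ∧ s + u * ch w (-d) = 0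
    · obtain ⟨d, e1, e2⟩ := hz
      have hd := ch_mul_neg hw d
      have h2 : 2 * (a * s) = 1 := by
        linear_combination hsum + s * e1 - b * ch w d * e2 + b * u * hd
      have hb' : OneTwoR (3 * (a * s)) := by
        rcases gcoord (i + 1) with g | g
        · exact absurd (by rw [hadef, g.1, zero_mul]) has
        · exact g
      rcases hb' with e | e | e
      · exact one_ne_zero (α := F) (by linear_combination 2 * e - 3 * h2)
      · exact one_ne_zero (α := F) (by linear_combination 3 * h2 - 2 * e)
      · exact C.five (by linear_combination -4 * e + (18 * (a * s) - 9) * h2)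
    · push Not at hz
      have hor : ∀ d, OneTwoR (K d) := fun d => (gK d).resolve_left fun g => hz d g.1 g.2
      have hs : K 0 + K 1 + K 2 = 3 := by
        simp only [hK, neg_zero, show -(1 : ZMod 3) = 2 by decide, show -(2 : ZMod 3) = 1 by decide,
          ch_zero, ch_one, ch_two]
        linear_combination 3 * hsum + (a * u + b * s) * C.root + 2 * b * u * hw3
      obtain ⟨e0, e1, -⟩ := triple C (hor 0) (hor 1) (hor 2) hs
      simp only [hK, neg_zero, show -(1 : ZMod 3) = 2 by decide, ch_zero, ch_one, ch_two] at e0 e1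
      have h0 : a * u + b * s = 0 := by linear_combination e0 - hsum
      have h1' : a * u * w ^ 2 + b * s * w = 0 := by linear_combination e1 - hsum - b * u * hw3
      have : a * u * (w * (w - 1)) = 0 := by linear_combination h1' - w * h0
      simp [C.w_ne_zero, C.w_sub_one, left_ne_zero_of_mul has, right_ne_zero_of_mul hbu] at this
  · push Not at hA
    have hne : ∀ i, φ i * v i ≠ 0 := fun i e => hA i ((gcoord i).both C e).1 ((gcoord i).both C e).2
    have hor : ∀ i, OneTwoR (3 * (φ i * v i)) := fun i =>
      (gcoord i).resolve_left fun g => hA i g.1 g.2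
    obtain ⟨x0, x1, x2⟩ := triple C (hor 0) (hor 1) (hor 2) (by
      rw [dot_three] at h; linear_combination 3 * h)
    set Pf : (I₃ → ZMod 3) → F := fun f => φ 0 * ch w (f 0) + φ 1 * ch w (f 1) + φ 2 * ch w (f 2) with hPf
    set Rf : (I₃ → ZMod 3) → F := fun f =>
      v 0 * ch w (-f 0) + v 1 * ch w (-f 1) + v 2 * ch w (-f 2) with hRf
    have gK : ∀ f, (Pf f = 0 ∧ Rf f = 0) ∨ OneTwoR (Pf f * Rf f) := by
      intro f
      have h3 := C.three
      have eA : φ ⬝ᵥ ctr w f = Pf f := dot_three _ _
      have eB : axf w f ⬝ᵥ v = Rf f / 3 := by rw [dot_three]; simp only [axf, hRf]; ring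
      rcases gn f with g | g <;> rw [eA, eB] at g
      · exact Or.inl ⟨g.1, (div_eq_zero_iff.1 g.2).resolve_right h3⟩
      · exact Or.inr (by convert g using 1; field_simp)
    by_cases hz : ∃ f, Pf f = 0 ∧ Rf f = 0
    · obtain ⟨f, eP, eR⟩ := hz
      set P0 := φ 0 * ch w (f 0) with hP0
      set P1 := φ 1 * ch w (f 1) with hP1
      set P2 := φ 2 * ch w (f 2) with hP2
      set R0 := v 0 * ch w (-f 0) with hR0
      set R1 := v 1 * ch w (-f 1) with hR1
      set R2 := v 2 * ch w (-f 2) with hR2
      have q0 : 3 * (P0 * R0) = 1 := by rw [hP0, hR0]; linear_combination x0 + 3 * φ 0 * v 0 * ch_mul_neg hw (f 0)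
      have q1 : 3 * (P1 * R1) = 1 := by rw [hP1, hR1]; linear_combination x1 + 3 * φ 1 * v 1 * ch_mul_neg hw (f 1)
      have q2 : 3 * (P2 * R2) = 1 := by rw [hP2, hR2]; linear_combination x2 + 3 * φ 2 * v 2 * ch_mul_neg hw (f 2)
      simp only [hPf] at eP
      simp only [hRf] at eR
      rw [← hP0, ← hP1, ← hP2] at eP
      rw [← hR0, ← hR1, ← hR2] at eR
      have hsym : P1 * P2 + P0 * P2 + P0 * P1 = 0 := by
        linear_combination 3 * (P0 * P1 * P2) * eR - P1 * P2 * q0 - P0 * P2 * q1 - P0 * P1 * q2
      have hP0ne : P0 ≠ 0 := fun e => by rw [e] at q0; simp at q0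
      have hquad : (P1 - w * P0) * (P1 - w ^ 2 * P0) = 0 := by
        linear_combination (P0 + P1) * eP - hsym - P0 * P1 * C.root + P0 ^ 2 * hw3
      obtain ⟨e, -, hP1e⟩ : ∃ e : ZMod 3, e ≠ 0 ∧ P1 = ch w e * P0 := by
        rcases mul_eq_zero.1 hquad with e | e
        · exact ⟨1, by decide, by rw [ch_one]; exact sub_eq_zero.1 e⟩
        · exact ⟨2, by decide, by rw [ch_two]; exact sub_eq_zero.1 e⟩
      have hP2e : P2 = ch w (2 * e) * P0 := by
        have hr : 1 + ch w e + ch w (2 * e) = 0 ∨ e = 0 := by
          obtain rfl | rfl | rfl := three_cases e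
          · exact Or.inr rfl
          · rw [show (2 : ZMod 3) * 1 = 2 by decide, ch_one, ch_two]
            exact Or.inl (by linear_combination C.root)
          · rw [show (2 : ZMod 3) * 2 = 1 by decide, ch_one, ch_two]
            exact Or.inl (by linear_combination C.root)
        rcases hr with hr | rfl
        · linear_combination eP - hP1e - P0 * hr
        · exfalso
          rw [ch_zero, one_mul] at hP1e
          have : 3 * P0 ^ 2 = 0 := by
            linear_combination (P0 + P1) * eP - hsym + (-(2 * P0) - P1) * hP1e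
          simp [C.three, hP0ne] at this
      refine hT (Or.inr ⟨fun k => f k - e * k, ?_⟩)
      have hφ : ∀ k, φ k = P0 * ch w (-(f k - e * k)) := by
        intro k
        rw [show -(f k - e * k) = -f k + e * k by ring, ch_add hw]
        obtain rfl | rfl | rfl := three_cases k
        · rw [mul_zero, ch_zero, hP0]; linear_combination -φ 0 * ch_mul_neg hw (f 0)
        · rw [mul_one]
          linear_combination -φ 1 * ch_mul_neg hw (f 1) + ch w (-f 1) * hP1e
        · rw [mul_comm e 2]
          linear_combination -φ 2 * ch_mul_neg hw (f 2) + ch w (-f 2) * hP2e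
      have hv : ∀ k, v k = (3 * P0)⁻¹ * ch w (f k - e * k) := by
        intro k
        have h3P : 3 * P0 ≠ 0 := mul_ne_zero C.three hP0ne
        rw [eq_inv_mul_iff_mul_eq₀ h3P]
        have hxk : 3 * (φ k * v k) = 1 := by
          obtain rfl | rfl | rfl := three_cases k
          · exact x0
          · exact x1
          · exact x2
        rw [hφ k] at hxk
        linear_combination ch w (f k - e * k) * hxk - 3 * P0 * v k * ch_mul_neg hw (f k - e * k)
      have h3P : 3 * P0 ≠ 0 := mul_ne_zero C.three hP0ne
      rw [← hm_rescale w h3P v φ, hn]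
      congr 1
      · ext k; rw [Pi.smul_apply, smul_eq_mul, hv k, ctr, mul_inv_cancel_left₀ h3P]
      · ext k
        rw [Pi.smul_apply, smul_eq_mul, hφ k, axf]
        field_simp
    · push Not at hz
      have hor' : ∀ f, OneTwoR (Pf f * Rf f) := fun f => (gK f).resolve_left fun g => hz f g.1 g.2
      have hone : ∀ f, Pf f * Rf f = 1 := by
        intro f
        let g : ZMod 3 → I₃ → ZMod 3 := fun d k => f k + d * k
        have hs : Pf f * Rf f + Pf (g 1) * Rf (g 1) + Pf (g 2) * Rf (g 2) = 3 := by
          simp only [hPf, hRf, g, neg_add, mul_zero, mul_one, add_zero, ch_add hw,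
            show -(1 : ZMod 3) = 2 by decide, show -(2 : ZMod 3) = 1 by decide,
            show (2 : ZMod 3) * 2 = 1 by decide, show (1 : ZMod 3) * 2 = 2 by decide,
            neg_zero, ch_zero, ch_one, ch_two]
          have d0 := ch_mul_neg hw (f 0)
          have d1 := ch_mul_neg hw (f 1)
          have d2 := ch_mul_neg hw (f 2)
          set A0 := φ 0 * ch w (f 0)
          set A1 := φ 1 * ch w (f 1)
          set A2 := φ 2 * ch w (f 2)
          set B0 := v 0 * ch w (-f 0)
          set B1 := v 1 * ch w (-f 1)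
          set B2 := v 2 * ch w (-f 2)
          linear_combination x0 + x1 + x2 + (A0 * B1 + A0 * B2 + A1 * B0 + A2 * B0) * C.root +
            (A1 * B2 + A2 * B1) * C.root + (2 * A1 * B1 + 2 * A2 * B2 + A1 * B2 * w + A2 * B1 * w) * hw3 +
            3 * φ 0 * v 0 * d0 + 3 * φ 1 * v 1 * d1 + 3 * φ 2 * v 2 * d2
        exact (triple C (hor' f) (hor' (g 1)) (hor' (g 2)) hs).1
      let fg : ZMod 3 → ZMod 3 → I₃ → ZMod 3 := fun d g k => if k = 0 then d else if k = 2 then g else 0
      have key : ∀ G : ZMod 3, φ 1 * v 2 * ch w (-G) + φ 2 * v 1 * ch w G = 0 := by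
        intro G
        have hd := ch_mul_neg hw G
        have E := fun d => hone (fg d G)
        have E0 := E 0; have E1 := E 1; have E2 := E 2
        simp only [hPf, hRf, fg, if_true, if_false, show (1 : I₃) ≠ 0 by decide,
          show (1 : I₃) ≠ 2 by decide, show (2 : I₃) ≠ 0 by decide, show -(1 : ZMod 3) = 2 by decide,
          show -(2 : ZMod 3) = 1 by decide, neg_zero, ch_zero, ch_one, ch_two, mul_one] at E0 E1 E2
        have h3 : 3 * (φ 1 * v 2 * ch w (-G) + φ 2 * v 1 * ch w G) = 0 := by
          linear_combination E0 + E1 + E2 - x0 - x1 - x2 - 2 * φ 0 * v 0 * hw3 -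
            (φ 0 * (v 1 + v 2 * ch w (-G)) + v 0 * (φ 1 + φ 2 * ch w G)) * C.root -
            3 * φ 2 * v 2 * hd
        exact (mul_eq_zero.1 h3).resolve_left C.three
      have k0 := key 0
      have k1 := key 1
      rw [show -(1 : ZMod 3) = 2 by decide, ch_one, ch_two] at k1
      rw [neg_zero, ch_zero] at k0
      have : φ 1 * v 2 * (w * (w - 1)) = 0 := by linear_combination k1 - w * k0
      simp [C.w_ne_zero, C.w_sub_one, left_ne_zero_of_mul (hne 1), right_ne_zero_of_mul (hne 2)] at this

end Cfsg.Agent.Lib.ExtraNine17
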