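import Cfsg.Agent.Lib.ExtraNine17.Roots
import Cfsg.Agent.Lib.ExtraNine17.Three

/-!
Block diagonal matrices: the centraliser of the lift of one point.
-/

set_option autoImplicit false
set_option linter.unusedSectionVars false

namespace Cfsg.Agent.Lib.ExtraNine17

open Matrix
open scoped Kronecker

variable {F : Type*} [Field F] {w : F}

/-- Block diagonal matrices, the blocks indexed by the second coordinate. -/
def blk : (ZMod 3 → GL I₃ F) →* GL I₉ F :=
  (Units.map (Matrix.blockDiagonalRingHom I₃ (ZMod 3) F).toMonoidHom).comp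
    MulEquiv.piUnits.symm.toMonoidHom

theorem blk_coe (f : ZMod 3 → GL I₃ F) :
    (blk f : Matrix I₉ I₉ F) = Matrix.blockDiagonal fun k => (f k : Matrix I₃ I₃ F) := rfl

theorem blk_apply (f : ZMod 3 → GL I₃ F) (i j : I₉) :
    (blk f : Matrix I₉ I₉ F) i j = if i.2 = j.2 then (f i.2 : Matrix I₃ I₃ F) i.1 j.1 else 0 := by
  rw [blk_coe, Matrix.blockDiagonal_apply]

theorem kron_one_eq (M : Matrix I₃ I₃ F) :
    M ⊗ₖ (1 : Matrix I₃ I₃ F) = Matrix.blockDiagonal fun _ => M :=
  kronecker_one M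

theorem one_kron_diagonal (d : I₃ → F) :
    (1 : Matrix I₃ I₃ F) ⊗ₖ diagonal d = Matrix.blockDiagonal fun k => d k • (1 : Matrix I₃ I₃ F) := by
  ext ⟨i, k⟩ ⟨j, m⟩
  rw [kroneckerMap_apply, Matrix.blockDiagonal_apply, diagonal_apply, Matrix.smul_apply, smul_eq_mul]
  by_cases h : k = m <;> simp [h, mul_comm]

theorem em_diag (b : ZMod 3) : em w (0, b) = diagonal fun j => ch w (b * j) := by
  ext i j
  rw [em_apply, diagonal_apply, add_zero]
  by_cases h : i = j <;> simp [h]

/-- The point defining the blocks. -/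
def px : Pt := ((0, 0), (0, 1))

/-- The point shifting the blocks. -/
def py : Pt := ((0, 0), (1, 0))

theorem tm_px : tm w px = Matrix.blockDiagonal fun k => ch w k • (1 : Matrix I₃ I₃ F) := by
  have := one_kron_diagonal (F := F) fun j => ch w ((1 : ZMod 3) * j)
  simp only [one_mul] at this
  rw [tm, px, show ((0 : ZMod 3), (0 : ZMod 3)) = 0 from rfl, em_zero, em_diag]
  simpa using this

/-- Elements commuting with the lift of `px` are block diagonal. -/
theorem exists_blk (hw : IsPrimitiveRoot w 3) {g : GL I₉ F}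
    (hg : (g : Matrix I₉ I₉ F) * tm w px = tm w px * g) : ∃ f, blk f = g := by
  have key : ∀ M : Matrix I₉ I₉ F, M * tm w px = tm w px * M →
      M = Matrix.blockDiagonal fun k => Matrix.of fun i j => M (i, k) (j, k) := by
    intro M hM
    ext ⟨i, k⟩ ⟨j, m⟩
    rw [Matrix.blockDiagonal_apply]
    by_cases h : k = m
    · subst h; simp
    · rw [if_neg h]
      have e := congrFun (congrFun hM (i, k)) (j, m)
      rw [tm, px, show ((0 : ZMod 3), (0 : ZMod 3)) = 0 from rfl, em_zero, em_diag,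
        ← diagonal_one, diagonal_kronecker_diagonal, Matrix.mul_diagonal, Matrix.diagonal_mul] at e
      simp only [one_mul, mul_comm (M (i, k) (j, m))] at e
      rcases mul_eq_mul_right_iff.1 e with e | e
      · exact absurd (ch_inj hw e).symm h
      · exact e
  have hinv : ((g⁻¹ : GL I₉ F) : Matrix I₉ I₉ F) * tm w px = tm w px * (g⁻¹ : GL I₉ F) := by
    have hc : Commute (g : Matrix I₉ I₉ F) (tm w px) := hg
    exact hc.units_inv_left
  have h1 := key _ hg
  have h2 := key _ hinv
  set A := fun k => Matrix.of fun i j => (g : Matrix I₉ I₉ F) (i, k) (j, k) with hA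
  set B := fun k => Matrix.of fun i j => ((g⁻¹ : GL I₉ F) : Matrix I₉ I₉ F) (i, k) (j, k) with hB
  have hAB : ∀ k, A k * B k = 1 := by
    have e : (Matrix.blockDiagonal fun k => A k * B k) = Matrix.blockDiagonal fun _ => 1 := by
      rw [Matrix.blockDiagonal_mul, ← h1, ← h2, Units.mul_inv]
      exact Matrix.blockDiagonal_one.symm
    exact fun k => congrFun (Matrix.blockDiagonal_injective e) k
  exact ⟨fun k => ⟨A k, B k, hAB k, _root_.mul_eq_one_comm.1 (hAB k)⟩, Units.ext h1.symm⟩

/-- The block diagonal part of a group. -/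
def blocks (G : Subgroup (GL I₉ F)) : Subgroup (ZMod 3 → GL I₃ F) := G.comap blk

section Over

variable {hw : IsPrimitiveRoot w 3} {G : Subgroup (GL I₉ F)}

theorem blocks_em (hG : Over hw G) (e : ZMod 3 × ZMod 3) : (fun _ => eu hw e) ∈ blocks G := by
  show blk _ ∈ G
  convert hG.tu_mem (e, 0) using 1
  refine Units.ext ?_
  rw [blk_coe, tu_coe, tm, em_zero, kron_one_eq]
  rfl

theorem blocks_h0 (hG : Over hw G) : (fun _ => h0u hw) ∈ blocks G := by
  obtain ⟨u, hu, he⟩ := hG.a0
  show blk _ ∈ G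
  convert hu using 1
  exact Units.ext (by rw [he, blk_coe, kron_one_eq]; rfl)

theorem blocks_h1 (hG : Over hw G) (h3 : (3 : F) ≠ 0) : (fun _ => h1u hw h3) ∈ blocks G := by
  obtain ⟨u, hu, he⟩ := hG.a1
  show blk _ ∈ G
  convert hu using 1
  exact Units.ext (by rw [he, blk_coe, kron_one_eq]; rfl)

theorem blocks_sc (hG : Over hw G) (c : Fˣ) : (fun _ => sc c) ∈ blocks G := by
  refine hG.scal ((Cfsg.Geo.mem_scalars_iff _).2 ⟨c, ?_⟩)
  rw [blk_coe]
  simp only [sc_coe]
  rw [← Matrix.blockDiagonal_one, ← Matrix.blockDiagonal_smul]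
  rfl

/-- The shift of the blocks. -/
theorem blk_shift (hw : IsPrimitiveRoot w 3) (f : ZMod 3 → GL I₃ F) :
    tu hw py * blk f = blk (fun k => f (k - 1)) * tu hw py := by
  refine Units.ext ?_
  ext ⟨i, k⟩ ⟨j, m⟩
  have hS : ∀ a b c d, tm w py (a, b) (c, d) = if a = c ∧ b = d + 1 then 1 else 0 := by
    intro a b c d
    rw [py, tm_shift]
    simp [Prod.ext_iff]
  rw [Units.val_mul, Units.val_mul, tu_coe, Matrix.mul_apply, Matrix.mul_apply,
    Finset.sum_eq_single (i, k - 1) ?_ (fun h => absurd (Finset.mem_univ _) h),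
    Finset.sum_eq_single (j, m + 1) ?_ (fun h => absurd (Finset.mem_univ _) h)]
  · rw [hS, hS, blk_apply, blk_apply]
    dsimp only
    have e1 : k = k - 1 + 1 := (sub_add_cancel k 1).symm
    by_cases h : k - 1 = m
    · have h' : k = m + 1 := sub_eq_iff_eq_add.1 h
      simp [← e1, h, h']
    · have h' : ¬ k = m + 1 := fun e => h (sub_eq_iff_eq_add.2 e)
      simp [← e1, h, h']
  · rintro ⟨a, b⟩ _ hab
    rw [hS, if_neg, mul_zero]
    rintro ⟨rfl, rfl⟩
    exact hab rfl
  · rintro ⟨a, b⟩ _ hab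
    rw [hS, if_neg, zero_mul]
    rintro ⟨rfl, rfl⟩
    exact hab (by rw [add_sub_cancel_right])

theorem blocks_shift (hG : Over hw G) {f : ZMod 3 → GL I₃ F} (hf : f ∈ blocks G) (d : ZMod 3) :
    (fun k => f (k - d)) ∈ blocks G := by
  have step : ∀ g ∈ blocks G, (fun k => g (k - 1)) ∈ blocks G := by
    intro g hg
    show blk _ ∈ G
    rw [show blk (fun k => g (k - 1)) = tu hw py * blk g * (tu hw py)⁻¹ from
      eq_mul_inv_of_mul_eq (blk_shift hw g).symm]
    exact G.mul_mem (G.mul_mem (hG.tu_mem _) hg) (G.inv_mem (hG.tu_mem _))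
  rcases (by decide : ∀ d : ZMod 3, d = 0 ∨ d = 1 ∨ d = 2) d with rfl | rfl | rfl
  · simpa using hf
  · exact step f hf
  · have := step _ (step f hf)
    convert this using 2 with k
    rw [sub_sub, one_add_one_eq_two]

/-- Quadratic characters on the blocks. -/
theorem blocks_quad (hG : Over hw G) (a b c : ZMod 3) :
    (fun k => sc (Units.mk0 (ch w (a + b * k + c * (k * k))) (ch_ne_zero hw _))) ∈ blocks G := by
  have h1 : (fun k => sc (Units.mk0 (ch w k) (ch_ne_zero hw _))) ∈ blocks G := by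
    show blk _ ∈ G
    convert hG.tu_mem px using 1
    refine Units.ext ?_
    rw [blk_coe, tu_coe, tm_px]
    simp only [sc_coe]
    rfl
  have h2 : (fun k => sc (Units.mk0 (ch w (1 - k * k)) (ch_ne_zero hw _))) ∈ blocks G := by
    obtain ⟨u, hu, he⟩ := hG.b0
    show blk _ ∈ G
    convert hu using 1
    refine Units.ext ?_
    rw [he, hom0, one_kron_diagonal, blk_coe]
    congr 1
    funext k
    rw [sc_coe]
    show ch w (1 - k * k) • (1 : Matrix I₃ I₃ F) = _
    congr 1
    rcases (by decide : ∀ m : ZMod 3, m = 0 ∨ m = 1 ∨ m = 2) k with rfl | rfl | rfl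
    · rw [if_pos rfl, show (1 : ZMod 3) - 0 * 0 = 1 by decide, ch_one]
    · rw [if_neg (by decide), show (1 : ZMod 3) - 1 * 1 = 0 by decide, ch_zero]
    · rw [if_neg (by decide), show (1 : ZMod 3) - 2 * 2 = 0 by decide, ch_zero]
  have h0 := blocks_sc hG (Units.mk0 (ch w (a + c)) (ch_ne_zero hw _))
  have := (blocks G).mul_mem ((blocks G).mul_mem h0 ((blocks G).pow_mem h1 b.val))
    ((blocks G).pow_mem h2 (-c).val)
  convert this using 1
  funext k
  simp only [Pi.mul_apply, Pi.pow_apply, ← map_pow, ← map_mul]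
  congr 1
  refine Units.ext ?_
  simp only [Units.val_mk0, Units.val_mul, Units.val_pow_eq_pow_val]
  have hp : ∀ (x : ZMod 3) (n : ℕ), ch w x ^ n = ch w (n * x) := by
    intro x n
    induction n with
    | zero => simp [ch_zero]
    | succ n ih => rw [pow_succ, ih, ← ch_add hw]; congr 1; push_cast; ring
  rw [hp, hp, ZMod.natCast_zmod_val, ZMod.natCast_zmod_val, ← ch_add hw, ← ch_add hw]
  congr 1
  ring

/-- An elementary transvection in one block is elementary. -/
theorem blk_single_tvu (k : ZMod 3) (i j : I₃) (h : i ≠ j) (c : F) :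
    ((blk (Pi.mulSingle k (tvu i j h c)) : GL I₉ F) : Matrix I₉ I₉ F) = Matrix.transvection (i, k) (j, k) c := by
  ext ⟨a, m⟩ ⟨b, n⟩
  rw [blk_apply, Matrix.transvection, Matrix.add_apply, Matrix.one_apply, Matrix.single_apply]
  dsimp only
  by_cases hmn : m = n
  · subst hmn
    rw [if_pos rfl]
    by_cases hm : m = k
    · subst hm
      rw [Pi.mulSingle_eq_same, tvu_coe, Matrix.transvection, Matrix.add_apply, Matrix.one_apply,
        Matrix.single_apply]
      simp [Prod.ext_iff]
    · rw [Pi.mulSingle_eq_of_ne hm, Units.val_one, Matrix.one_apply]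
      simp [Prod.ext_iff, Ne.symm hm]
  · rw [if_neg hmn]
    rw [if_neg (by simp [hmn]), if_neg, add_zero]
    rintro ⟨h1, h2⟩
    simp only [Prod.ext_iff] at h1 h2
    exact hmn (h1.2.symm.trans h2.2)

theorem oneRoot_of_single {k : ZMod 3} {i j : I₃} (h : i ≠ j) {c : F} (hc : c ≠ 0)
    (hm : Pi.mulSingle k (tvu i j h c) ∈ blocks G) : OneRoot G :=
  ⟨(i, k), (j, k), c, by simp [h], hc, _, hm, blk_single_tvu k i j h c⟩

end Over

/-- The criterion for three variables. -/
def BaseHyp {w : F} (hw : IsPrimitiveRoot w 3) (h3 : (3 : F) ≠ 0) : Prop :=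
  ∀ L : Subgroup (GL I₃ F), (∀ c, sc c ∈ L) → (∀ e, eu hw e ∈ L) → h0u hw ∈ L → h1u hw h3 ∈ L →
    (∃ g ∈ L, ¬ MemN3 w (g : Matrix I₃ I₃ F)) → ∀ t : SpecialLinearGroup I₃ F, up t ∈ L

end Cfsg.Agent.Lib.ExtraNine17
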