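import Cfsg.Agent.Lib.ExtraNine17.Block

/-!
A block outside the normaliser of the group of order `27` gives an elementary transvection.
-/

set_option autoImplicit false
set_option linter.unusedSectionVars false

namespace Cfsg.Agent.Lib.ExtraNine17

open Matrix
open scoped Kronecker

variable {F : Type*} [Field F] {w : F} {hw : IsPrimitiveRoot w 3} {G : Subgroup (GL I₉ F)}

/-- A diagonal unit of three variables. -/
def dgu (d : I₃ → Fˣ) : GL I₃ F :=
  ⟨diagonal fun i => (d i : F), diagonal fun i => (((d i)⁻¹ : Fˣ) : F),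
    by rw [diagonal_mul_diagonal, ← diagonal_one]; congr 1; funext i; rw [Units.mul_inv],
    by rw [diagonal_mul_diagonal, ← diagonal_one]; congr 1; funext i; rw [Units.inv_mul]⟩

theorem dgu_coe (d : I₃ → Fˣ) : (dgu d : Matrix I₃ I₃ F) = diagonal fun i => (d i : F) := rfl

theorem dgu_conj (d : I₃ → Fˣ) (i j : I₃) (h : i ≠ j) (c : F) :
    dgu d * tvu i j h c * (dgu d)⁻¹ = tvu i j h ((d i : F) * c * ((d j)⁻¹ : Fˣ)) := by
  refine Units.ext ?_
  show (diagonal fun i => (d i : F)) * Matrix.transvection i j c * diagonal (fun i => (((d i)⁻¹ : Fˣ) : F)) =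
    Matrix.transvection i j _
  ext a b
  rw [Matrix.mul_diagonal, Matrix.diagonal_mul, Matrix.transvection, Matrix.transvection, Matrix.add_apply,
    Matrix.add_apply, Matrix.one_apply, Matrix.single_apply, Matrix.single_apply]
  by_cases hab : a = b
  · subst hab
    rw [if_pos rfl, if_neg fun hh => h (hh.1.trans hh.2.symm), if_neg fun hh => h (hh.1.trans hh.2.symm),
      add_zero, mul_one, Units.mul_inv]
  · rw [if_neg hab, zero_add, zero_add]
    by_cases hh : i = a ∧ j = b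
    · rw [if_pos hh, if_pos hh, hh.1, hh.2]
    · rw [if_neg hh, if_neg hh, mul_zero, zero_mul]

theorem tvu_comm (i j k : I₃) (hij : i ≠ j) (hik : i ≠ k) (hkj : k ≠ j) (a b : F) :
    tvu i k hik a * tvu k j hkj b * tvu i k hik (-a) * tvu k j hkj (-b) = tvu i j hij (a * b) := by
  refine Units.ext (Matrix.ext_iff_mulVec.2 fun v => funext fun l => ?_)
  simp only [Units.val_mul, tvu_coe, ← Matrix.mulVec_mulVec, LinGroup.transvection_mulVec_apply]
  by_cases hli : l = i
  · subst hli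
    simp [hij, hik, hij.symm, hik.symm, hkj, hkj.symm]
    ring
  · by_cases hlk : l = k
    · subst hlk
      simp [hij, hik, hij.symm, hik.symm, hkj, hkj.symm]
    · simp [hli, hlk]

/-- The shape of a unipotent matrix twisted by a diagonal homology. -/
theorem root_shape {p : ℕ} [Fact p.Prime] [CharP F p] (h2 : (2 : F) ≠ 0) (hw2 : w ^ 2 ≠ 1) (hw0 : w ≠ 0)
    {i j k : I₃} (hij : i ≠ j) (hik : i ≠ k) (hjk : j ≠ k) {n : ℕ} (hn : (n : F) = w)
    (v : Matrix I₃ I₃ F) (hv : v ^ p = 1)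
    (hk : (diagonal fun l => if l = k then w else 1) * v = v * diagonal fun l => if l = k then w else 1)
    (hi : (diagonal fun l => if l = i then w else 1) * v = v ^ n * diagonal fun l => if l = i then w else 1) :
    ∃ t, v = Matrix.transvection i j t := by
  have huniv : (Finset.univ : Finset I₃) = {i, j, k} :=
    (by decide : ∀ i j k : I₃, i ≠ j → i ≠ k → j ≠ k → (Finset.univ : Finset I₃) = {i, j, k}) i j k hij hik hjk
  obtain ⟨N, rfl⟩ : ∃ N, v = 1 + N := ⟨v - 1, (add_sub_cancel 1 v).symm⟩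
  have hNp : N ^ p = 0 := by
    rw [add_pow_char_of_commute _ (Commute.one_left N), one_pow] at hv
    exact add_eq_left.1 hv
  have hw1 : w - 1 ≠ 0 := fun e => hw2 (by rw [sub_eq_zero.1 e, one_pow])
  have hkk : ∀ a b, (a = k ∧ b ≠ k) ∨ (a ≠ k ∧ b = k) → N a b = 0 := by
    intro a b hab
    have e := congrFun (congrFun hk a) b
    rw [Matrix.diagonal_mul, Matrix.mul_diagonal, Matrix.add_apply] at e
    have hne : a ≠ b := by rcases hab with ⟨rfl, h⟩ | ⟨h, rfl⟩; exacts [Ne.symm h, h]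
    rw [Matrix.one_apply_ne hne, zero_add] at e
    rcases hab with ⟨rfl, h⟩ | ⟨h, rfl⟩
    · rw [if_pos rfl, if_neg h, mul_one] at e
      exact (mul_eq_zero.1 (show (w - 1) * N a b = 0 by rw [sub_mul, one_mul, e, sub_self])).resolve_left hw1
    · rw [if_pos rfl, if_neg h, one_mul] at e
      exact (mul_eq_zero.1 (show (w - 1) * N a b = 0 by rw [sub_mul, one_mul, mul_comm, ← e, sub_self])).resolve_left hw1
  have hki := hkk k i (Or.inl ⟨rfl, hik⟩)
  have hkj := hkk k j (Or.inl ⟨rfl, hjk⟩)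
  have hik' := hkk i k (Or.inr ⟨hik, rfl⟩)
  have hjk' := hkk j k (Or.inr ⟨hjk, rfl⟩)
  have sum3 : ∀ f : I₃ → F, ∑ l, f l = f i + f j + f k := by
    intro f
    rw [huniv, Finset.sum_insert (by simp [hij, hik]), Finset.sum_insert (by simp [hjk]), Finset.sum_singleton,
      ← add_assoc]
  have hkk0 : N k k = 0 := by
    have hm : ∀ m : ℕ, (N ^ m) k k = N k k ^ m := by
      intro m
      induction m with
      | zero => simp
      | succ m ih =>
        rw [pow_succ', Matrix.mul_apply, sum3, hki, hkj, zero_mul, zero_mul, zero_add, zero_add, ih, pow_succ']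
    exact eq_zero_of_pow_eq_zero (n := p) (by rw [← hm, hNp]; rfl)
  have hnil : IsNilpotent N := ⟨p, hNp⟩
  have htr : N i i + N j j = 0 := by
    have h1 := (Matrix.isNilpotent_trace_of_isNilpotent hnil).eq_zero
    rw [Matrix.trace, sum3] at h1
    simpa [hkk0] using h1
  have hdet : N i i * N i i + N i j * N j i = 0 := by
    have h1 := (Matrix.isNilpotent_trace_of_isNilpotent (hnil.pow_of_pos (n := 2) (by norm_num))).eq_zero
    rw [Matrix.trace, sum3] at h1
    simp only [Matrix.diag_apply, pow_two, Matrix.mul_apply, sum3, hki, hkj, hik', hjk', hkk0, mul_zero,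
      zero_mul, add_zero] at h1
    refine (mul_eq_zero.1 (?_ : (2 : F) * (N i i * N i i + N i j * N j i) = 0)).resolve_left h2
    linear_combination h1 + (N i i - N j j) * htr
  have hsq : N * N = 0 := by
    ext a b
    rw [Matrix.mul_apply, sum3, Matrix.zero_apply]
    have hab : ∀ a, a = i ∨ a = j ∨ a = k := fun a => by
      have := Finset.mem_univ a
      rw [huniv] at this
      simpa using this
    have hjj : N j j = -N i i := eq_neg_of_add_eq_zero_right htr
    rcases hab a with rfl | rfl | rfl <;> rcases hab b with rfl | rfl | rfl <;>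
      simp only [hki, hkj, hik', hjk', hkk0, hjj, mul_zero, zero_mul, add_zero] <;>
      first | ring1 | linear_combination hdet
  have hpow : ∀ m : ℕ, (1 + N) ^ m = 1 + (m : F) • N := by
    intro m
    induction m with
    | zero => simp
    | succ m ih =>
      rw [pow_succ, ih, mul_add, add_mul, add_mul, one_mul, one_mul, mul_one, Matrix.smul_mul, hsq, smul_zero,
        add_zero, Nat.cast_succ, add_smul, one_smul, add_assoc]
  rw [hpow, hn] at hi
  have he : ∀ a b, (if a = i then w else 1) * N a b = w * N a b * (if b = i then w else 1) := by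
    intro a b
    have e := congrFun (congrFun hi a) b
    rw [Matrix.diagonal_mul, Matrix.mul_diagonal, Matrix.add_apply, Matrix.add_apply, Matrix.smul_apply,
      smul_eq_mul, Matrix.one_apply] at e
    by_cases hab : a = b
    · subst hab
      rw [if_pos rfl] at e
      linear_combination e
    · rw [if_neg hab] at e
      linear_combination e
  have hii : N i i = 0 := by
    have e := he i i
    rw [if_pos rfl] at e
    refine (mul_eq_zero.1 (?_ : (w * (w - 1)) * N i i = 0)).resolve_left (mul_ne_zero hw0 hw1)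
    linear_combination -e
  have hji : N j i = 0 := by
    have e := he j i
    rw [if_pos rfl, if_neg hij.symm] at e
    refine (mul_eq_zero.1 (?_ : (w ^ 2 - 1) * N j i = 0)).resolve_left (sub_ne_zero.2 hw2)
    linear_combination -e
  have hjj : N j j = 0 := by rwa [hii, zero_add] at htr
  refine ⟨N i j, ?_⟩
  ext a b
  rw [Matrix.transvection, Matrix.add_apply, Matrix.add_apply, Matrix.single_apply]
  congr 1
  have hab : ∀ a, a = i ∨ a = j ∨ a = k := fun a => by
    have := Finset.mem_univ a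
    rw [huniv] at this
    simpa using this
  rcases hab a with rfl | rfl | rfl <;> rcases hab b with rfl | rfl | rfl <;>
    simp [hii, hji, hjj, hki, hkj, hik', hjk', hkk0, hij, hik, hjk, hij.symm, hik.symm, hjk.symm]

section Main

variable {h3 : (3 : F) ≠ 0}

/-- All determinant one blocks occur in each place. -/
theorem proj_top (hG : Over hw G) (hbase : BaseHyp hw h3) {f : ZMod 3 → GL I₃ F} (hf : f ∈ blocks G)
    {k : ZMod 3} (hk : ¬ MemN3 w (f k : Matrix I₃ I₃ F)) (l : ZMod 3) (t : SpecialLinearGroup I₃ F) :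
    ∃ g ∈ blocks G, g l = up t := by
  have := hbase ((blocks G).map (Pi.evalMonoidHom _ l)) (fun c => ⟨_, blocks_sc hG c, rfl⟩)
    (fun e => ⟨_, blocks_em hG e, rfl⟩) ⟨_, blocks_h0 hG, rfl⟩ ⟨_, blocks_h1 hG h3, rfl⟩
    ⟨_, ⟨_, blocks_shift hG hf (l - k), rfl⟩, by simpa using hk⟩ t
  obtain ⟨g, hg, e⟩ := this
  exact ⟨g, hg, e⟩

/-- A non-scalar element in a single block gives a transvection. -/
theorem oneRoot_of_single_block [Finite F] {Q : Subgroup (ZMod 3 → GL I₃ F)} (hQ : Q = blocks G)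
    (hL : ∀ l (t : SpecialLinearGroup I₃ F), ∃ g ∈ Q, g l = up t) {k : ZMod 3} {u : GL I₃ F}
    (hu : ¬ IsSc u) (hm : Pi.mulSingle k u ∈ Q) : OneRoot G := by
  classical
  let K : Subgroup (GL I₃ F) := Q.comap (MonoidHom.mulSingle (fun _ => GL I₃ F) k)
  have hK := sl_le_of_normalised K (fun t v hv => by
    obtain ⟨g, hg, he⟩ := hL k t
    show Pi.mulSingle k (up t * v * (up t)⁻¹) ∈ Q
    have : Pi.mulSingle k (up t * v * (up t)⁻¹) = g * Pi.mulSingle k v * g⁻¹ := by
      funext m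
      by_cases hmk : m = k
      · subst hmk
        simp [he]
      · simp [Pi.mulSingle_eq_of_ne hmk]
    rw [this]
    exact Q.mul_mem (Q.mul_mem hg hv) (Q.inv_mem hg)) ⟨u, hm, hu⟩
    (SpecialLinearGroup.transvection (show (0 : I₃) ≠ 1 by decide) 1)
  subst hQ
  exact oneRoot_of_single (k := k) (i := 0) (j := 1) (by decide) one_ne_zero hK

/-- Without a transvection the scalar blocks are linked. -/
theorem linked [Finite F] (hG : Over hw G) (hL : ∀ l (t : SpecialLinearGroup I₃ F), ∃ g ∈ blocks G, g l = up t)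
    (hno : ¬ OneRoot G) {f : ZMod 3 → GL I₃ F} (hf : f ∈ blocks G) {a b : ZMod 3} (ha : IsSc (f a)) :
    IsSc (f b) := by
  classical
  by_contra hb
  apply hno
  obtain ⟨z, hz⟩ := ha
  have hab : a ≠ b := by
    rintro rfl
    exact hb ⟨z, hz⟩
  obtain ⟨f₁, hf₁, h1a, h1b⟩ : ∃ f₁ ∈ blocks G, f₁ a = 1 ∧ ¬ IsSc (f₁ b) := by
    refine ⟨(fun _ => sc z⁻¹) * f, (blocks G).mul_mem (blocks_sc hG _) hf, ?_, ?_⟩
    · simp [hz, ← map_mul]
    · intro hs
      refine hb ?_
      have := (show IsSc (sc z) from ⟨z, rfl⟩).mul hs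
      simpa [← mul_assoc, ← map_mul] using this
  have hsum : a + b + (-a - b) = 0 := by abel
  set c := -a - b with hc
  have hcases : ∀ m : ZMod 3, m = a ∨ m = b ∨ m = c := by
    rw [hc]
    exact (by decide : ∀ a b : ZMod 3, a ≠ b → ∀ m : ZMod 3, m = a ∨ m = b ∨ m = -a - b) a b hab
  have hca : c ≠ a := by
    rw [hc]; exact (by decide : ∀ a b : ZMod 3, a ≠ b → -a - b ≠ a) a b hab
  have hcb : c ≠ b := by
    rw [hc]; exact (by decide : ∀ a b : ZMod 3, a ≠ b → -a - b ≠ b) a b hab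
  by_cases h1c : IsSc (f₁ c)
  · obtain ⟨t, ht⟩ := exists_comm_not_sc h1b
    obtain ⟨g, hg, he⟩ := hL b t
    refine oneRoot_of_single_block rfl hL (k := b) ht ?_
    have : Pi.mulSingle b (up t * f₁ b * (up t)⁻¹ * (f₁ b)⁻¹) = g * f₁ * g⁻¹ * f₁⁻¹ := by
      funext m
      rcases hcases m with rfl | rfl | rfl
      · simp [Pi.mulSingle_eq_of_ne hab, h1a]
      · simp [he]
      · obtain ⟨s, hs⟩ := h1c
        simp [Pi.mulSingle_eq_of_ne hcb, hs, sc_comm]
    rw [this]
    exact (blocks G).mul_mem ((blocks G).mul_mem ((blocks G).mul_mem hg hf₁) ((blocks G).inv_mem hg))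
      ((blocks G).inv_mem hf₁)
  · let K : Subgroup (GL I₃ F) := ((blocks G) ⊓ (Pi.evalMonoidHom (fun _ : ZMod 3 => GL I₃ F) a).ker).map
      (Pi.evalMonoidHom _ b)
    obtain ⟨t, ht⟩ := exists_comm_not_sc h1c
    obtain ⟨f₂, ⟨hf₂, h2a⟩, h2b⟩ := sl_le_of_normalised K (fun s v ⟨f', ⟨hf', hfa⟩, hv⟩ => by
      obtain ⟨g, hg, he⟩ := hL b s
      refine ⟨g * f' * g⁻¹, ⟨(blocks G).mul_mem ((blocks G).mul_mem hg hf') ((blocks G).inv_mem hg), ?_⟩, ?_⟩
      · have hfa' : f' a = 1 := hfa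
        show g a * f' a * (g a)⁻¹ = 1
        rw [hfa', mul_one, mul_inv_cancel]
      · show g b * f' b * (g b)⁻¹ = _
        rw [he]
        have hv' : f' b = v := hv
        rw [hv']) ⟨f₁ b, ⟨f₁, ⟨hf₁, h1a⟩, rfl⟩, h1b⟩ t
    have h2a' : f₂ a = 1 := h2a
    have h2b' : f₂ b = up t := h2b
    refine oneRoot_of_single_block rfl hL (k := c) ht ?_
    have : Pi.mulSingle c (up t * f₁ c * (up t)⁻¹ * (f₁ c)⁻¹) =
        (fun m => f₂ (m - (b - a))) * f₁ * (fun m => f₂ (m - (b - a)))⁻¹ * f₁⁻¹ := by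
      have e2 : c - (b - a) = b := by
        rw [hc]; exact (by decide : ∀ a b : ZMod 3, a ≠ b → -a - b - (b - a) = b) a b hab
      funext m
      rcases hcases m with rfl | rfl | rfl
      · simp [Pi.mulSingle_eq_of_ne (Ne.symm hca), h1a]
      · simp [Pi.mulSingle_eq_of_ne (Ne.symm hcb), h2a']
      · simp [e2, h2b']
    rw [this]
    exact (blocks G).mul_mem ((blocks G).mul_mem ((blocks G).mul_mem (blocks_shift hG hf₂ _) hf₁)
      ((blocks G).inv_mem (blocks_shift hG hf₂ _))) ((blocks G).inv_mem hf₁)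

variable [Fintype F] {p : ℕ} [Fact p.Prime] [CharP F p]

theorem pow_p_eq (hp : Fintype.card F = p) (x : Fˣ) : x ^ p = x := by
  refine Units.ext ?_
  rw [Units.val_pow_eq_pow_val, ← hp, FiniteField.pow_card]

/-- The exponent killing the scalars and fixing elements of order `p`. -/
theorem exists_exp (hp : Fintype.card F = p) :
    ∃ e : ℕ, (∀ u : GL I₃ F, u ^ p = 1 → u ^ e = u) ∧ ∀ c : Fˣ, c ^ e = 1 := by
  have h2 := (Fact.out : p.Prime).two_le
  refine ⟨(p - 1) * (p - 1), fun u hu => ?_, fun c => ?_⟩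
  · have : (p - 1) * (p - 1) = 1 + p * (p - 2) := by
      obtain ⟨m, rfl⟩ : ∃ m, p = m + 2 := ⟨p - 2, by omega⟩
      simp only [Nat.add_sub_cancel, show m + 2 - 1 = m + 1 by omega]
      ring
    rw [this, pow_add, pow_mul, hu, one_pow, mul_one, pow_one]
  · rw [pow_mul, show c ^ (p - 1) = 1 from ?_, one_pow]
    refine Units.ext ?_
    rw [Units.val_pow_eq_pow_val, ← hp, FiniteField.pow_card_sub_one_eq_one _ c.ne_zero, Units.val_one]

/-- A block outside the normaliser of the group of order `27` gives a transvection. -/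
theorem caseA (hG : Over hw G) (hbase : BaseHyp hw h3) (hp : Fintype.card F = p) (h7 : 7 ≤ p)
    {f : ZMod 3 → GL I₃ F} (hf : f ∈ blocks G) {k : ZMod 3} (hk : ¬ MemN3 w (f k : Matrix I₃ I₃ F)) :
    OneRoot G := by
  classical
  by_contra hno
  have hL := proj_top hG hbase hf hk
  have hlink := fun {g : ZMod 3 → GL I₃ F} (hg : g ∈ blocks G) {a : ZMod 3} (b : ZMod 3) (ha : IsSc (g a)) =>
    linked hG hL hno hg (b := b) ha
  obtain ⟨e, he, hce⟩ := exists_exp (p := p) hp
  have h2 : (2 : F) ≠ 0 := fun hh => by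
    have := Nat.le_of_dvd (by norm_num) ((CharP.cast_eq_zero_iff F p 2).1 (by exact_mod_cast hh))
    omega
  have hw0 : w ≠ 0 := hw.ne_zero (by norm_num)
  have hw2 : w ^ 2 ≠ 1 := hw.pow_ne_one_of_pos_of_lt (by norm_num) (by norm_num)
  have hprop : ∀ g g' : ZMod 3 → GL I₃ F, g ∈ blocks G → g' ∈ blocks G → g 0 = g' 0 →
      ∀ m, ∃ s : Fˣ, g' m = sc s * g m := by
    intro g g' hg hg' h0 m
    obtain ⟨s, hs⟩ := hlink ((blocks G).mul_mem hg' ((blocks G).inv_mem hg)) (a := 0) m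
      ⟨1, by simp [h0]⟩
    refine ⟨s, ?_⟩
    rw [← hs]
    simp
  have hcanon : ∀ g g' : ZMod 3 → GL I₃ F, g ∈ blocks G → g' ∈ blocks G → g 0 = g' 0 →
      ∀ m, (g ^ e) m = (g' ^ e) m := by
    intro g g' hg hg' h0 m
    obtain ⟨s, hs⟩ := hprop g g' hg hg' h0 m
    have hc : Commute (sc s) (g m) := (sc_comm s (g m)).symm
    rw [Pi.pow_apply, Pi.pow_apply, hs, hc.mul_pow, ← map_pow, hce, map_one, one_mul]
  have hordp : ∀ g : ZMod 3 → GL I₃ F, g ∈ blocks G → g 0 ^ p = 1 → ∀ m, (g ^ e) m ^ p = 1 := by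
    intro g hg h0 m
    obtain ⟨s, hs⟩ := hlink ((blocks G).pow_mem hg p) (a := 0) m ⟨1, by simp [h0]⟩
    rw [Pi.pow_apply] at hs
    rw [Pi.pow_apply, ← pow_mul, mul_comm, pow_mul, hs, ← map_pow, hce, map_one]
  have htvp : ∀ (i j : I₃) (h : i ≠ j) (c : F), tvu i j h c ^ p = 1 := by
    intro i j h c
    rw [tvu_pow, CharP.cast_eq_zero, zero_mul]
    refine Units.ext ?_
    simp [tvu_coe]
  have hbij : Function.Bijective (ZMod.castHom dvd_rfl F : ZMod p →+* F) :=
    (Fintype.bijective_iff_injective_and_card _).2 ⟨ZMod.castHom_injective _, by rw [ZMod.card, hp]⟩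
  have hnat : ∀ c : F, ∃ n : ℕ, (n : F) = c := fun c => by
    obtain ⟨z, rfl⟩ := hbij.2 c
    exact ⟨z.val, by rw [← map_natCast (ZMod.castHom dvd_rfl F : ZMod p →+* F), ZMod.natCast_zmod_val]⟩
  obtain ⟨n, hn⟩ := hnat w
  let wu : Fˣ := Units.mk0 w hw0
  have hD : ∀ a : ZMod 3, (fun _ => dgu (fun l => if l = a then wu else 1)) ∈ blocks G := by
    intro a
    have := (blocks G).mul_mem ((blocks G).mul_mem (blocks_em hG (a, 0)) (blocks_h0 hG))
      ((blocks G).inv_mem (blocks_em hG (a, 0)))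
    convert this using 1
    funext m
    show dgu (fun l => if l = a then wu else 1) = eu hw (a, 0) * h0u hw * (eu hw (a, 0))⁻¹
    rw [eq_mul_inv_iff_mul_eq]
    refine Units.ext ?_
    ext x y
    rw [Units.val_mul, Units.val_mul, dgu_coe, h0u_coe, eu_coe, hom0, Matrix.diagonal_mul, Matrix.mul_diagonal,
      em_apply]
    by_cases hxy : x = y + a
    · have : x = a ↔ y = 0 := by rw [hxy]; exact add_eq_right
      by_cases hx : x = a
      · rw [if_pos hxy, if_pos hx, if_pos (this.1 hx), zero_mul, ch_zero, one_mul, mul_one]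
        rfl
      · rw [if_pos hxy, if_neg hx, if_neg fun h => hx (this.2 h), zero_mul, ch_zero, Units.val_one]
    · rw [if_neg hxy, mul_zero, zero_mul]
  -- the second block of the lift of a root element
  have hroot : ∀ (i j l : I₃) (hij : i ≠ j) (hil : i ≠ l) (hjl : j ≠ l),
      ∃ g ∈ blocks G, ∃ t : F, g 0 = tvu i j hij 1 ∧ g 1 = tvu i j hij t := by
    intro i j l hij hil hjl
    obtain ⟨g, hg, hg0⟩ := hL 0 (SpecialLinearGroup.transvection hij 1)
    have hg0' : g 0 = tvu i j hij 1 := hg0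
    have hge0 : (g ^ e) 0 = tvu i j hij 1 := by rw [Pi.pow_apply, hg0', he _ (htvp _ _ _ _)]
    have equiv : ∀ (a : ZMod 3) (m : ℕ),
        (((if i = a then wu else 1 : Fˣ) : F)) * 1 * (((if j = a then wu else 1 : Fˣ)⁻¹ : Fˣ) : F) = m →
        dgu (fun z => if z = a then wu else 1) * (g ^ e) 1 * (dgu fun z => if z = a then wu else 1)⁻¹ =
          ((g ^ e) 1) ^ m := by
      intro a m hm
      set D : ZMod 3 → GL I₃ F := fun _ => dgu (fun z => if z = a then wu else 1) with hDdef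
      have h1 := hcanon (D * g * D⁻¹) (g ^ m)
        ((blocks G).mul_mem ((blocks G).mul_mem (hD a) hg) ((blocks G).inv_mem (hD a)))
        ((blocks G).pow_mem hg m) (by
          show D 0 * g 0 * (D 0)⁻¹ = (g ^ m) 0
          rw [Pi.pow_apply, hg0', hDdef, dgu_conj, hm, tvu_pow, mul_one]) 1
      rw [conj_pow] at h1
      simp only [Pi.mul_apply, Pi.inv_apply, Pi.pow_apply] at h1
      rw [Pi.pow_apply, ← pow_mul, mul_comm e m, pow_mul]
      exact h1
    have e1 := equiv l 1 (by simp [hil, hjl])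
    have e2 := equiv i n (by simp [hij.symm, hn, wu])
    rw [pow_one, mul_inv_eq_iff_eq_mul] at e1
    rw [mul_inv_eq_iff_eq_mul] at e2
    have hdg : ∀ a : ZMod 3, (dgu (fun z => if z = a then wu else 1) : Matrix I₃ I₃ F) =
        diagonal fun z => if z = a then w else 1 := by
      intro a
      rw [dgu_coe]
      congr 1
      funext z
      by_cases hz : z = a <;> simp [hz, wu]
    have c1 := congrArg (Units.val : GL I₃ F → Matrix I₃ I₃ F) e1
    have c2 := congrArg (Units.val : GL I₃ F → Matrix I₃ I₃ F) e2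
    simp only [Units.val_mul, Units.val_pow_eq_pow_val, hdg] at c1 c2
    have hvp := congrArg (Units.val : GL I₃ F → Matrix I₃ I₃ F) (hordp g hg (by rw [hg0', htvp]) 1)
    rw [Units.val_pow_eq_pow_val, Units.val_one] at hvp
    obtain ⟨t, ht⟩ := root_shape (p := p) h2 hw2 hw0 hij hil hjl hn _ hvp c1 c2
    exact ⟨g ^ e, (blocks G).pow_mem hg e, t, hge0, Units.ext ht⟩
  obtain ⟨g01, hg01, a, h01, k01⟩ := hroot 0 1 2 (by decide) (by decide) (by decide)
  obtain ⟨g10, hg10, b, h10, k10⟩ := hroot 1 0 2 (by decide) (by decide) (by decide)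
  have hXc : ∀ (g : ZMod 3 → GL I₃ F) (i j : I₃) (hij : i ≠ j) (s : F) (d : ZMod 3), g ∈ blocks G →
      g 0 = tvu i j hij 1 → g 1 = tvu i j hij s → ∃ g' ∈ blocks G,
        g' 0 = tvu (i + d) (j + d) (by simpa using hij) 1 ∧ g' 1 = tvu (i + d) (j + d) (by simpa using hij) s := by
    intro g i j hij s d hg h0 h1
    refine ⟨(fun _ => eu hw (d, 0)) * g * (fun _ => eu hw (d, 0))⁻¹,
      (blocks G).mul_mem ((blocks G).mul_mem (blocks_em hG _) hg) ((blocks G).inv_mem (blocks_em hG _)), ?_, ?_⟩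
    all_goals
      simp only [Pi.mul_apply, Pi.inv_apply, h0, h1]
      rw [mul_inv_eq_iff_eq_mul]
      refine Units.ext ?_
      ext x y
      rw [Units.val_mul, Units.val_mul, tvu_coe, tvu_coe, eu_coe, Matrix.transvection, Matrix.transvection,
        mul_add, add_mul, mul_one, one_mul, Matrix.add_apply, Matrix.add_apply]
      congr 1
      by_cases hy : y = j
      · subst hy
        rw [Matrix.mul_single_apply_same]
        by_cases hx : x = i + d
        · subst hx
          simp [em_apply, ch_zero]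
        · rw [Matrix.single_mul_apply_of_ne (h := hx), em_apply, if_neg hx, zero_mul]
      · rw [Matrix.mul_single_apply_of_ne (hbj := hy)]
        by_cases hx : x = i + d
        · subst hx
          rw [Matrix.single_mul_apply_same, em_apply, if_neg (fun hh => hy (add_right_cancel hh).symm), mul_zero]
        · rw [Matrix.single_mul_apply_of_ne (h := hx)]
  obtain ⟨g12, hg12, h12, k12⟩ := hXc g01 0 1 (by decide) a 1 hg01 h01 k01
  obtain ⟨g20, hg20, h20, k20⟩ := hXc g01 0 1 (by decide) a 2 hg01 h01 k01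
  obtain ⟨g21, hg21, h21, k21⟩ := hXc g10 1 0 (by decide) b 1 hg10 h10 k10
  obtain ⟨g02, hg02, h02, k02⟩ := hXc g10 1 0 (by decide) b 2 hg10 h10 k10
  have inv_tvu : ∀ (i j : I₃) (h : i ≠ j) (c : F), (tvu i j h c)⁻¹ = tvu i j h (-c) := by
    intro i j h c
    refine inv_eq_of_mul_eq_one_right ?_
    rw [tvu_mul, add_neg_cancel]
    refine Units.ext ?_
    simp [tvu_coe]
  have hrel : ∀ (i j l : I₃) (hij : i ≠ j) (hil : i ≠ l) (hlj : l ≠ j) (g g' g'' : ZMod 3 → GL I₃ F) (x y z : F),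
      g ∈ blocks G → g' ∈ blocks G → g'' ∈ blocks G → g 0 = tvu i l hil 1 → g 1 = tvu i l hil x →
      g' 0 = tvu l j hlj 1 → g' 1 = tvu l j hlj y → g'' 0 = tvu i j hij 1 → g'' 1 = tvu i j hij z →
      x * y = z := by
    intro i j l hij hil hlj g g' g'' x y z hg hg' hg'' a0 a1 b0 b1 c0 c1
    obtain ⟨s, hs⟩ := hprop g'' (g * g' * g⁻¹ * g'⁻¹) hg''
      ((blocks G).mul_mem ((blocks G).mul_mem ((blocks G).mul_mem hg hg') ((blocks G).inv_mem hg))
        ((blocks G).inv_mem hg')) (by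
        simp only [Pi.mul_apply, Pi.inv_apply, a0, b0, c0, inv_tvu]
        rw [tvu_comm i j l hij hil hlj, one_mul]) 1
    simp only [Pi.mul_apply, Pi.inv_apply, a1, b1, c1, inv_tvu] at hs
    rw [tvu_comm i j l hij hil hlj] at hs
    have e1 := congrArg (fun M : GL I₃ F => (M : Matrix I₃ I₃ F) i i) hs
    have e2 := congrArg (fun M : GL I₃ F => (M : Matrix I₃ I₃ F) i j) hs
    simp [tvu_coe, sc_coe, Matrix.transvection, hij, hij.symm] at e1 e2
    rw [← e1, one_mul] at e2
    exact e2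
  have hba : a * a = b := hrel 0 2 1 (by decide) (by decide) (by decide) g01 g12 g02 a a b hg01 hg12 hg02
    h01 k01 h12 k12 h02 k02
  have hab : b * b = a := hrel 0 1 2 (by decide) (by decide) (by decide) g02 g21 g01 b b a hg02 hg21 hg01
    h02 k02 h21 k21 h01 k01
  have ha0 : a ≠ 0 := by
    intro h0
    obtain ⟨s, hs⟩ := hlink hg01 (a := 1) 0 ⟨1, by
      rw [k01, h0, map_one]; refine Units.ext ?_; simp [tvu_coe]⟩
    rw [h01] at hs
    have := congrArg (fun M : GL I₃ F => (M : Matrix I₃ I₃ F) 0 1) hs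
    simp [tvu_coe, sc_coe, Matrix.transvection] at this
  have ha3 : a ^ 3 = 1 := by
    have : a ^ 4 = a := by rw [show a ^ 4 = (a * a) * (a * a) by ring, hba, hab]
    exact mul_left_cancel₀ ha0 (by rw [← pow_succ', this, mul_one])
  let au : Fˣ := Units.mk0 a ha0
  let Δ : GL I₃ F := dgu fun l => if l = 0 then 1 else if l = 1 then au * au else au
  have hau : au * au * au = 1 := Units.ext (by simpa [au, pow_succ] using ha3)
  have hΔ : ∀ (i j : I₃) (hij : i ≠ j), ∃ g ∈ blocks G, g 0 = tvu i j hij 1 ∧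
      g 1 = Δ * tvu i j hij 1 * Δ⁻¹ := by
    intro i j hij
    have hd : ∀ (i j : I₃) (hij : i ≠ j) (g : ZMod 3 → GL I₃ F) (z : F), g ∈ blocks G → g 0 = tvu i j hij 1 →
        g 1 = tvu i j hij z →
        z = (((if i = 0 then 1 else if i = 1 then au * au else au : Fˣ) *
          (if j = 0 then 1 else if j = 1 then au * au else au : Fˣ)⁻¹ : Fˣ) : F) →
        ∃ g ∈ blocks G, g 0 = tvu i j hij 1 ∧ g 1 = Δ * tvu i j hij 1 * Δ⁻¹ := by
      intro i j hij g z hg g0 g1 hz
      refine ⟨g, hg, g0, ?_⟩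
      rw [g1, dgu_conj, hz, Units.val_mul, mul_one]
    have i1 : au⁻¹ = au * au := inv_eq_of_mul_eq_one_right (by rw [← mul_assoc, hau])
    have i2 : (au * au)⁻¹ = au := inv_eq_of_mul_eq_one_right hau
    rcases (by decide : ∀ i j : I₃, i ≠ j → (i = 0 ∧ j = 1) ∨ (i = 1 ∧ j = 2) ∨ (i = 2 ∧ j = 0) ∨
        (i = 1 ∧ j = 0) ∨ (i = 2 ∧ j = 1) ∨ (i = 0 ∧ j = 2)) i j hij with
      ⟨rfl, rfl⟩ | ⟨rfl, rfl⟩ | ⟨rfl, rfl⟩ | ⟨rfl, rfl⟩ | ⟨rfl, rfl⟩ | ⟨rfl, rfl⟩
    · exact hd 0 1 hij g01 a hg01 h01 k01 (by simp [i2, au])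
    · exact hd 1 2 hij g12 a hg12 h12 k12 (by
        simp only [if_pos, one_ne_zero, if_false, show (2 : I₃) ≠ 0 by decide, show (2 : I₃) ≠ 1 by decide]
        rw [mul_inv_cancel_right]; rfl)
    · exact hd 2 0 hij g20 a hg20 h20 k20 (by simp [show (2 : I₃) ≠ 1 by decide, show (2 : I₃) ≠ 0 by decide, au])
    · exact hd 1 0 hij g10 b hg10 h10 k10 (by simp [au, hba])
    · exact hd 2 1 hij g21 b hg21 h21 k21 (by
        simp [show (2 : I₃) ≠ 1 by decide, show (2 : I₃) ≠ 0 by decide, i2, au, hba])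
    · exact hd 0 2 hij g02 b hg02 h02 k02 (by
        simp [show (2 : I₃) ≠ 1 by decide, show (2 : I₃) ≠ 0 by decide, i1, au, hba])
  have hall : ∀ t : SpecialLinearGroup I₃ F, ∃ g ∈ blocks G, ∃ s : Fˣ,
      g 0 = up t ∧ g 1 = sc s * (Δ * up t * Δ⁻¹) := by
    intro t
    refine LinGroup.SL_transvection_induction (fun t => ∃ g ∈ blocks G, ∃ s : Fˣ,
      g 0 = up t ∧ g 1 = sc s * (Δ * up t * Δ⁻¹)) ?_ (fun i j hij c => ?_) (fun A B hA hB => ?_) t
    · exact ⟨1, (blocks G).one_mem, 1, by simp, by simp⟩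
    · obtain ⟨g, hg, g0, g1⟩ := hΔ i j hij
      obtain ⟨m, hm⟩ := hnat c
      refine ⟨g ^ m, (blocks G).pow_mem hg m, 1, ?_, ?_⟩
      · rw [Pi.pow_apply, g0, tvu_pow, mul_one, hm]; rfl
      · rw [Pi.pow_apply, g1, conj_pow, tvu_pow, mul_one, hm, map_one, one_mul]; rfl
    · obtain ⟨gA, hgA, sA, A0, A1⟩ := hA
      obtain ⟨gB, hgB, sB, B0, B1⟩ := hB
      refine ⟨gA * gB, (blocks G).mul_mem hgA hgB, sA * sB, by simp [A0, B0], ?_⟩
      rw [Pi.mul_apply, A1, B1, map_mul sc, map_mul up]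
      rw [show sc sA * (Δ * up A * Δ⁻¹) * (sc sB * (Δ * up B * Δ⁻¹)) =
        sc sA * ((Δ * up A * Δ⁻¹) * sc sB) * (Δ * up B * Δ⁻¹) by group, sc_comm]
      group
  have hM : IsSc ((h1u hw h3)⁻¹ * Δ⁻¹ * h1u hw h3 * Δ) := by
    by_contra hh
    obtain ⟨t, ht⟩ := exists_comm_not_sc hh
    apply ht
    set h := h1u hw h3 with hhdef
    obtain ⟨g, hg, s, g0, g1⟩ := hall t⁻¹
    obtain ⟨u, hu⟩ : ∃ u, up u = h * up t⁻¹ * h⁻¹ := exists_up (by
      rw [Units.val_mul, Units.val_mul, Matrix.det_mul, Matrix.det_mul, up_coe,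
        show (t⁻¹ : SpecialLinearGroup I₃ F).1.det = 1 from (t⁻¹).2,
        mul_one, ← Matrix.det_mul, Units.mul_inv, Matrix.det_one])
    obtain ⟨g', hg', s', g'0, g'1⟩ := hall u
    obtain ⟨r, hr⟩ := hprop g' ((fun _ => h) * g * (fun _ => h)⁻¹) hg'
      ((blocks G).mul_mem ((blocks G).mul_mem (blocks_h1 hG h3) hg) ((blocks G).inv_mem (blocks_h1 hG h3)))
      (by simp [g0, g'0, hu]) 1
    simp only [Pi.mul_apply, Pi.inv_apply, g1, g'1, hu] at hr
    rw [map_inv] at hr
    refine ⟨r * s' * s⁻¹, ?_⟩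
    set T := up t with hT
    have hr' : h * (Δ * T⁻¹ * Δ⁻¹) * h⁻¹ = sc (r * s' * s⁻¹) * (Δ * (h * T⁻¹ * h⁻¹) * Δ⁻¹) := by
      rw [map_mul, map_mul, map_inv]
      calc h * (Δ * T⁻¹ * Δ⁻¹) * h⁻¹ = (sc s)⁻¹ * (h * (sc s * (Δ * T⁻¹ * Δ⁻¹)) * h⁻¹) := by
            rw [← mul_assoc h (sc s), sc_comm]; group
        _ = _ := by rw [hr, ← mul_assoc (sc r), ← map_mul, ← map_inv, ← mul_assoc, ← map_mul, ← map_inv,
            ← map_mul, mul_comm (s⁻¹)]
    calc T * (h⁻¹ * Δ⁻¹ * h * Δ) * T⁻¹ * (h⁻¹ * Δ⁻¹ * h * Δ)⁻¹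
        = T * h⁻¹ * Δ⁻¹ * (h * (Δ * T⁻¹ * Δ⁻¹) * h⁻¹) * Δ * h := by group
      _ = T * h⁻¹ * Δ⁻¹ * (sc (r * s' * s⁻¹) * (Δ * (h * T⁻¹ * h⁻¹) * Δ⁻¹)) * Δ * h := by rw [hr']
      _ = sc (r * s' * s⁻¹) := by
        rw [show T * h⁻¹ * Δ⁻¹ * (sc (r * s' * s⁻¹) * (Δ * (h * T⁻¹ * h⁻¹) * Δ⁻¹)) =
          (T * h⁻¹ * Δ⁻¹ * sc (r * s' * s⁻¹)) * (Δ * (h * T⁻¹ * h⁻¹) * Δ⁻¹) by group, sc_comm]
        group
  have ha1 : a = 1 := by
    obtain ⟨s, hs⟩ := hM
    have hs' : h1u hw h3 * Δ = Δ * h1u hw h3 * sc s := by rw [← hs]; group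
    have hs'' := congrArg (Units.val : GL I₃ F → Matrix I₃ I₃ F) hs'
    simp only [Units.val_mul, h1u_coe, sc_coe, Δ, dgu_coe, Matrix.mul_smul, Matrix.mul_one] at hs''
    have e00 := congrFun (congrFun hs'' 0) 0
    have e01 := congrFun (congrFun hs'' 0) 1
    simp [hom1, Matrix.mul_diagonal, Matrix.diagonal_mul, au] at e00 e01
    have hq : (w - 1) / 3 ≠ 0 := div_ne_zero (sub_ne_zero.2 (hw.ne_one (by norm_num))) h3
    have hq1 : 1 + (w - 1) / 3 ≠ 0 := by
      intro hh
      have h2w : w = -2 := by field_simp at hh; linear_combination hh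
      have := hw.pow_eq_one
      rw [h2w] at this
      exact h3 ((mul_self_eq_zero).1 (by linear_combination -this : (3 : F) * 3 = 0))
    have hs1 : (s : F) = 1 := mul_right_cancel₀ hq1 (by linear_combination -e00)
    rw [hs1, one_mul] at e01
    have ha2 : a * a = 1 := mul_left_cancel₀ hq (by linear_combination e01)
    linear_combination ha3 - a * ha2
  have hΔ1 : Δ = 1 := by
    refine Units.ext ?_
    rw [dgu_coe, Units.val_one, ← diagonal_one]
    congr 1
    funext l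
    split_ifs <;> simp [au, ha1]
  have hconst : ∀ t : SpecialLinearGroup I₃ F, (fun _ => up t) ∈ blocks G := by
    intro t
    let C : ZMod 3 → SpecialLinearGroup I₃ F → Prop := fun _ t => (fun _ => up t) ∈ blocks G
    refine LinGroup.SL_transvection_induction (C 0) ?_ (fun i j hij c => ?_) (fun A B hA hB => ?_) t
    · show (fun _ => up 1) ∈ blocks G
      rw [map_one]
      exact (blocks G).one_mem
    · obtain ⟨g, hg, g0, g1⟩ := hΔ i j hij
      rw [hΔ1, one_mul, inv_one, mul_one] at g1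
      have hg' : (fun _ => tvu i j hij 1) ∈ blocks G := by
        have hge0 : (g ^ e) 0 = tvu i j hij 1 := by rw [Pi.pow_apply, g0, he _ (htvp _ _ _ _)]
        have hge1 : (g ^ e) 1 = tvu i j hij 1 := by rw [Pi.pow_apply, g1, he _ (htvp _ _ _ _)]
        have hp2 := hordp g hg (by rw [g0, htvp]) 2
        obtain ⟨u, hu⟩ : ∃ u, up u = (g ^ e) 2 := exists_up (by
          have h1 := congrArg (fun M : GL I₃ F => Matrix.GeneralLinearGroup.det M) hp2
          simp only [map_pow, map_one] at h1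
          rw [pow_p_eq hp] at h1
          rw [← GeneralLinearGroup.val_det_apply, h1, Units.val_one])
        obtain ⟨g', hg', s, q0, q1⟩ := hall u
        obtain ⟨r, hr⟩ := hprop g' (fun m => (g ^ e) (m - 1)) hg' (blocks_shift hG ((blocks G).pow_mem hg e) 1)
          (by rw [q0, hu]; exact congrArg (g ^ e) (by decide)) 1
        rw [q1, hΔ1, one_mul, inv_one, mul_one, hu, sub_self, hge0, ← mul_assoc, ← map_mul] at hr
        have hrp : tvu i j hij 1 ^ p = (sc (r * s) * (g ^ e) 2) ^ p := by rw [hr]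
        rw [htvp, (show Commute (sc (r * s)) ((g ^ e) 2) from (sc_comm _ _).symm).mul_pow, hp2, mul_one,
          ← map_pow, pow_p_eq hp] at hrp
        rw [← hrp, one_mul] at hr
        convert (blocks G).pow_mem hg e using 1
        funext m
        rcases (by decide : ∀ m : ZMod 3, m = 0 ∨ m = 1 ∨ m = 2) m with rfl | rfl | rfl
        exacts [hge0.symm, hge1.symm, hr]
      obtain ⟨m, hm⟩ := hnat c
      show (fun _ => up _) ∈ blocks G
      convert (blocks G).pow_mem hg' m using 1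
      funext _
      rw [Pi.pow_apply, tvu_pow, mul_one, hm]
      rfl
    · show (fun _ => up (A * B)) ∈ blocks G
      convert (blocks G).mul_mem hA hB using 1
      funext _
      exact map_mul up A B
  -- a torus element
  let sg : Bool → Fˣ := fun x => if x then -1 else 1
  have hperm : ∀ {m : Matrix I₉ I₉ F} {π : I₉ → I₉}, (∀ i j, m i j = if i = π j then 1 else 0) →
      (∃ u ∈ G, (u : Matrix I₉ I₉ F) = m) → ∀ d d' : I₉ → Bool, (∀ j, d' (π j) = d j) →
      (∃ u ∈ G, (u : Matrix I₉ I₉ F) = diagonal fun x => (sg (d x) : F)) →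
      ∃ u ∈ G, (u : Matrix I₉ I₉ F) = diagonal fun x => (sg (d' x) : F) := by
    rintro m π hm ⟨n, hn, hnm⟩ d d' hdd ⟨u, hu, hum⟩
    refine ⟨n * u * n⁻¹, G.mul_mem (G.mul_mem hn hu) (G.inv_mem hn), ?_⟩
    have h : (n : Matrix I₉ I₉ F) * u = (diagonal fun x => (sg (d' x) : F)) * n := by
      ext x y
      rw [hnm, hum, Matrix.mul_diagonal, Matrix.diagonal_mul, hm]
      by_cases hxy : x = π y
      · rw [if_pos hxy, hxy, hdd, one_mul, mul_one]
      · rw [if_neg hxy, zero_mul, mul_zero]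
    rw [Units.val_mul, Units.val_mul, h, Matrix.mul_assoc, Units.mul_inv, Matrix.mul_one]
  have hphi : ∀ a b : I₃, a ≠ b →
      ∃ u ∈ G, (u : Matrix I₉ I₉ F) = diagonal fun x : I₉ => (sg (decide (x.1 = a ∨ x.1 = b)) : F) := by
    intro a b hab
    obtain ⟨u, hu⟩ := exists_up (g := dgu fun l => sg (decide (l = a ∨ l = b))) (by
      rw [dgu_coe, Matrix.det_diagonal]
      have h3' : ∀ f : I₃ → F, ∏ l, f l = f 0 * f 1 * f 2 := fun f => by
        rw [show (Finset.univ : Finset I₃) = {0, 1, 2} by decide, Finset.prod_insert (by decide),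
          Finset.prod_insert (by decide), Finset.prod_singleton, mul_assoc]
      rw [h3']
      rcases (by decide : ∀ i j : I₃, i ≠ j → (i = 0 ∧ j = 1) ∨ (i = 1 ∧ j = 2) ∨ (i = 2 ∧ j = 0) ∨
          (i = 1 ∧ j = 0) ∨ (i = 2 ∧ j = 1) ∨ (i = 0 ∧ j = 2)) a b hab with
        ⟨rfl, rfl⟩ | ⟨rfl, rfl⟩ | ⟨rfl, rfl⟩ | ⟨rfl, rfl⟩ | ⟨rfl, rfl⟩ | ⟨rfl, rfl⟩ <;>
        simp (config := { decide := true }) [sg])
    refine ⟨_, hconst u, ?_⟩
    rw [blk_coe]
    simp only [hu, dgu_coe]
    exact Matrix.blockDiagonal_diagonal _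
  have e1 := hphi 0 1 (by decide)
  have e2 := hperm swapM_apply hG.sw _ (fun x : I₉ => decide (x.2 = 0 ∨ x.2 = 1)) (fun j => rfl) e1
  have e3a := hperm shear_apply hG.sh (fun x : I₉ => decide (x.1 = 0 ∨ x.1 = 2))
    (fun x : I₉ => decide (x.1 - x.2 = 0 ∨ x.1 - x.2 = 2)) (by decide) (hphi 0 2 (by decide))
  have e3 := hperm shear_apply hG.sh (fun x : I₉ => decide (x.1 - x.2 = 0 ∨ x.1 - x.2 = 2))
    (fun x : I₉ => decide (x.1 + x.2 = 0 ∨ x.1 + x.2 = 2)) (by decide) e3a
  obtain ⟨u1, hu1, v1⟩ := e1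
  obtain ⟨u2, hu2, v2⟩ := e2
  obtain ⟨u3, hu3, v3⟩ := e3
  let D : ZMod 3 → GL I₃ F := fun k => dgu fun l => sg (decide ((l = 0 ∧ k = 0) ∨ (l = 1 ∧ k = 1)))
  have hDmem : D ∈ blocks G := by
    show blk D ∈ G
    convert G.mul_mem (G.mul_mem hu1 hu2) hu3 using 1
    refine Units.ext ?_
    rw [Units.val_mul, Units.val_mul, v1, v2, v3, diagonal_mul_diagonal, diagonal_mul_diagonal, blk_coe]
    simp only [D, dgu_coe]
    rw [Matrix.blockDiagonal_diagonal]
    congr 1
    funext x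
    have hb : ∀ x : I₉, decide ((x.1 = 0 ∧ x.2 = 0) ∨ (x.1 = 1 ∧ x.2 = 1)) =
        xor (xor (decide (x.1 = 0 ∨ x.1 = 1)) (decide (x.2 = 0 ∨ x.2 = 1)))
          (decide (x.1 + x.2 = 0 ∨ x.1 + x.2 = 2)) := by decide
    rw [hb]
    generalize decide (x.1 = 0 ∨ x.1 = 1) = A
    generalize decide (x.2 = 0 ∨ x.2 = 1) = B
    generalize decide (x.1 + x.2 = 0 ∨ x.1 + x.2 = 2) = C
    cases A <;> cases B <;> cases C <;> simp [sg]
  have hT : (fun _ => tvu 0 2 (by decide) 1) ∈ blocks G := hconst (SpecialLinearGroup.transvection (by decide) 1)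
  refine hno (oneRoot_of_single (k := 0) (i := 0) (j := 2) (by decide) (c := (-2 : F)) (neg_ne_zero.2 h2) ?_)
  convert (blocks G).mul_mem ((blocks G).mul_mem ((blocks G).mul_mem hDmem hT) ((blocks G).inv_mem hDmem))
    ((blocks G).inv_mem hT) using 1
  funext m
  simp only [Pi.mul_apply, Pi.inv_apply, D, dgu_conj, inv_tvu, tvu_mul]
  rcases (by decide : ∀ m : ZMod 3, m = 0 ∨ m = 1 ∨ m = 2) m with rfl | rfl | rfl
  · rw [Pi.mulSingle_eq_same]
    congr 1
    simp (config := { decide := true }) [sg]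
    norm_num
  · rw [Pi.mulSingle_eq_of_ne (by decide)]
    refine Units.ext ?_
    simp (config := { decide := true }) [sg, tvu_coe]
  · rw [Pi.mulSingle_eq_of_ne (by decide)]
    refine Units.ext ?_
    simp (config := { decide := true }) [sg, tvu_coe]

end Main

end Cfsg.Agent.Lib.ExtraNine17
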