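import Cfsg.Agent.Lib.ExtraNine17.Three

/-!
The action of the normaliser of the group of order `27` on the plane of its points.
-/

set_option autoImplicit false
set_option linter.unusedSectionVars false

namespace Cfsg.Agent.Lib.ExtraNine17

open Matrix

variable {F : Type*} [Field F] {w : F}

/-- Linear maps of the plane, as four entries. -/
abbrev M2 : Type := (ZMod 3 × ZMod 3) × (ZMod 3 × ZMod 3)

/-- The action of a linear map of the plane. -/
def app (M : M2) (e : ZMod 3 × ZMod 3) : ZMod 3 × ZMod 3 :=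
  (M.1.1 * e.1 + M.1.2 * e.2, M.2.1 * e.1 + M.2.2 * e.2)

/-- Determinant one. -/
def DetOne (M : M2) : Prop := M.1.1 * M.2.2 - M.1.2 * M.2.1 = 1

instance (M : M2) : Decidable (DetOne M) := inferInstanceAs (Decidable (_ = _))

/-- The adjugate. -/
def adj2 (M : M2) : M2 := ((M.2.2, -M.1.2), (-M.2.1, M.1.1))

theorem app_adj {M : M2} (hM : DetOne M) (e : ZMod 3 × ZMod 3) : app (adj2 M) (app M e) = e := by
  have h : M.1.1 * M.2.2 - M.1.2 * M.2.1 = 1 := hM
  refine Prod.ext ?_ ?_
  · show M.2.2 * (M.1.1 * e.1 + M.1.2 * e.2) + -M.1.2 * (M.2.1 * e.1 + M.2.2 * e.2) = e.1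
    linear_combination e.1 * h
  · show -M.2.1 * (M.1.1 * e.1 + M.1.2 * e.2) + M.1.1 * (M.2.1 * e.1 + M.2.2 * e.2) = e.2
    linear_combination e.2 * h

/-- The matrix of `su`. -/
def mu : M2 := ((1, 0), (1, 1))

/-- The matrix of `sv`. -/
def mv : M2 := ((1, 2), (0, 1))

theorem app_mu : app mu = su := by funext e; revert e; decide

theorem app_mv : app mv = sv := by funext e; revert e; decide

theorem em_ne_zero (hw : IsPrimitiveRoot w 3) (e : ZMod 3 × ZMod 3) : em w e ≠ 0 := by
  rw [← eu_coe hw e]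
  exact (eu hw e).ne_zero

/-- The point of an element of the group of order `27` is determined up to scalars. -/
theorem em_inj (hw : IsPrimitiveRoot w 3) {e f : ZMod 3 × ZMod 3} {c : F} (h : em w e = c • em w f) : e = f := by
  have := tm_inj hw (v := (e, 0)) (u := (f, 0)) (c := c) (by
    rw [tm, tm, h, Matrix.smul_kronecker])
  exact congrArg Prod.fst this

theorem Rel3.mul {g h : Matrix I₃ I₃ F} {σ τ : ZMod 3 × ZMod 3 → ZMod 3 × ZMod 3} (hg : Rel3 w g σ)
    (hh : Rel3 w h τ) : Rel3 w (g * h) (σ ∘ τ) := fun v => by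
  obtain ⟨c, hc⟩ := hh v
  obtain ⟨d, hd⟩ := hg (τ v)
  refine ⟨c * d, ?_⟩
  rw [Matrix.mul_assoc, hc, Matrix.mul_smul, ← Matrix.mul_assoc, hd, Matrix.smul_mul, smul_smul,
    Matrix.mul_assoc, Function.comp_apply]

theorem rel3_em (hw : IsPrimitiveRoot w 3) (d : ZMod 3 × ZMod 3) : Rel3 w (em w d) id := fun e =>
  ⟨ch w (d.2 * e.1 - e.2 * d.1), by
    rw [id, em_mul hw, em_mul hw, smul_smul, ← ch_add hw, sub_add_cancel, add_comm]⟩

theorem rel3_sc (c : Fˣ) : Rel3 w (sc c : Matrix I₃ I₃ F) id := fun e =>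
  ⟨1, by rw [sc_coe, one_smul, Matrix.smul_mul, Matrix.mul_smul, Matrix.one_mul, Matrix.mul_one, id]⟩

/-- The map induced on the points is linear of determinant one. -/
theorem Rel3.exists_m2 (hw : IsPrimitiveRoot w 3) {g : GL I₃ F} {σ : ZMod 3 × ZMod 3 → ZMod 3 × ZMod 3}
    (hg : Rel3 w (g : Matrix I₃ I₃ F) σ) : ∃ M : M2, DetOne M ∧ ∀ e, σ e = app M e := by
  have hmul : ∀ e f, ∀ a b : F, (g : Matrix I₃ I₃ F) * em w e = a • (em w (σ e) * g) →
      (g : Matrix I₃ I₃ F) * em w f = b • (em w (σ f) * g) →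
      ((g : Matrix I₃ I₃ F) * em w (e + f) * ((g⁻¹ : GL I₃ F) : Matrix I₃ I₃ F)) =
        ((ch w (e.2 * f.1))⁻¹ * (a * b * ch w ((σ e).2 * (σ f).1))) • em w (σ e + σ f) := by
    intro e f a b ha hb
    have h1 : (g : Matrix I₃ I₃ F) * em w e * em w f =
        (a * b * ch w ((σ e).2 * (σ f).1)) • (em w (σ e + σ f) * g) := by
      rw [ha, Matrix.smul_mul, Matrix.mul_assoc, hb, Matrix.mul_smul, ← Matrix.mul_assoc, em_mul hw,
        Matrix.smul_mul, smul_smul, smul_smul]
    rw [Matrix.mul_assoc, em_mul hw, Matrix.mul_smul] at h1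
    have h2 := congrArg (fun X => (ch w (e.2 * f.1))⁻¹ • (X * ((g⁻¹ : GL I₃ F) : Matrix I₃ I₃ F))) h1
    simp only [Matrix.smul_mul, smul_smul, inv_mul_cancel₀ (ch_ne_zero hw _), one_smul, Matrix.mul_assoc,
      Units.mul_inv, Matrix.mul_one] at h2
    rw [← Matrix.mul_assoc] at h2
    exact h2
  choose a ha using hg
  have ha0 : ∀ e, a e ≠ 0 := by
    intro e he
    have h1 := ha e
    rw [he, zero_smul, ← eu_coe hw e, ← Units.val_mul] at h1
    exact (g * eu hw e).ne_zero h1
  have hconj : ∀ e, (g : Matrix I₃ I₃ F) * em w e * ((g⁻¹ : GL I₃ F) : Matrix I₃ I₃ F) = a e • em w (σ e) := by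
    intro e
    rw [ha e, Matrix.smul_mul, Matrix.mul_assoc, Units.mul_inv, Matrix.mul_one]
  have hadd : ∀ e f, σ (e + f) = σ e + σ f := by
    intro e f
    have h := hmul e f _ _ (ha e) (ha f)
    rw [hconj] at h
    refine em_inj hw (c := (a (e + f))⁻¹ * ((ch w (e.2 * f.1))⁻¹ * (a e * a f * ch w ((σ e).2 * (σ f).1)))) ?_
    rw [← smul_smul, ← h, smul_smul, inv_mul_cancel₀ (ha0 _), one_smul]
  have hsymp : ∀ e f, e.2 * f.1 - f.2 * e.1 = (σ e).2 * (σ f).1 - (σ f).2 * (σ e).1 := by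
    intro e f
    have h1 := hmul e f _ _ (ha e) (ha f)
    have h2 := hmul f e _ _ (ha f) (ha e)
    rw [add_comm f e, add_comm (σ f) (σ e), h1, mul_comm (a f) (a e)] at h2
    have h3 := smul_left_injective F (em_ne_zero hw _) h2
    have h4 : ch w (f.2 * e.1 + (σ e).2 * (σ f).1) = ch w (e.2 * f.1 + (σ f).2 * (σ e).1) := by
      rw [ch_add hw, ch_add hw]
      have e1 := ch_ne_zero hw (e.2 * f.1)
      have e2 := ch_ne_zero hw (f.2 * e.1)
      field_simp at h3
      refine mul_left_cancel₀ (mul_ne_zero (ha0 e) (ha0 f)) ?_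
      linear_combination h3
    have h5 := ch_inj hw h4
    linear_combination -h5
  refine ⟨(((σ (1, 0)).1, (σ (0, 1)).1), ((σ (1, 0)).2, (σ (0, 1)).2)), ?_, fun e => ?_⟩
  · show (σ (1, 0)).1 * (σ (0, 1)).2 - (σ (0, 1)).1 * (σ (1, 0)).2 = 1
    have := hsymp (0, 1) (1, 0)
    simp only [one_mul, mul_zero, sub_zero, mul_one, zero_mul] at this
    linear_combination -this
  · have h0 : σ 0 = 0 := by have := hadd 0 0; simpa using this
    have hn : ∀ (n : ℕ) (f : ZMod 3 × ZMod 3), σ (n • f) = n • σ f := by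
      intro n f
      induction n with
      | zero => simp [h0]
      | succ n ih => rw [succ_nsmul, succ_nsmul, hadd, ih]
    have he : e = e.1.val • ((1, 0) : ZMod 3 × ZMod 3) + e.2.val • ((0, 1) : ZMod 3 × ZMod 3) := by
      refine Prod.ext ?_ ?_ <;> simp
    conv_lhs => rw [he, hadd, hn, hn]
    refine Prod.ext ?_ ?_ <;> simp [app, mul_comm]

/-- An element fixing every point is a multiple of an element of the group of order `27`. -/
theorem eq_sc_mul_eu (hw : IsPrimitiveRoot w 3) {g : GL I₃ F} (hg : Rel3 w (g : Matrix I₃ I₃ F) id) :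
    ∃ (c : Fˣ) (d : ZMod 3 × ZMod 3), g = sc c * eu hw d := by
  obtain ⟨a, ha⟩ := hg (1, 0)
  obtain ⟨b, hb⟩ := hg (0, 1)
  simp only [id] at ha hb
  have root : ∀ (e : ZMod 3 × ZMod 3) (c : F), (g : Matrix I₃ I₃ F) * em w e = c • (em w e * g) →
      e.1 * e.2 = 0 → ∃ i, c = ch w i := by
    intro e c hc he
    have h2 : em w e * em w e = em w (e + e) := by
      rw [em_mul hw, mul_comm e.2, he, ch_zero, one_smul]
    have h3 : em w e * em w e * em w e = 1 := by
      rw [h2, em_mul hw, (by decide : ∀ e : ZMod 3 × ZMod 3, e + e + e = 0) e, em_zero, Prod.snd_add, add_mul,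
        mul_comm e.2, he, add_zero, ch_zero, one_smul]
    have h4 : (g : Matrix I₃ I₃ F) * (em w e * em w e * em w e) = (c * c * c) • (em w e * em w e * em w e * g) := by
      simp only [Matrix.mul_assoc]
      rw [← Matrix.mul_assoc (g : Matrix I₃ I₃ F), hc, Matrix.smul_mul, Matrix.mul_assoc,
        ← Matrix.mul_assoc (g : Matrix I₃ I₃ F), hc, Matrix.smul_mul, Matrix.mul_assoc, hc]
      simp only [Matrix.mul_smul, smul_smul, Matrix.mul_assoc, mul_assoc]
    rw [h3, Matrix.mul_one, Matrix.one_mul] at h4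
    have h5 : (c * c * c) • (g : Matrix I₃ I₃ F) = (1 : F) • (g : Matrix I₃ I₃ F) := by rw [← h4, one_smul]
    exact exists_ch hw (by
      rw [pow_succ, pow_two]
      exact smul_left_injective F g.ne_zero h5)
  obtain ⟨i, rfl⟩ := root _ _ ha (by decide)
  obtain ⟨j, rfl⟩ := root _ _ hb (by decide)
  set d : ZMod 3 × ZMod 3 := (-j, i) with hd
  have hX : em w d * em w (1, 0) = ch w i • (em w (1, 0) * em w d) := by
    rw [em_mul hw, em_mul hw, smul_smul, ← ch_add hw, add_comm (1, 0) d, hd]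
    simp
  have hZ : em w d * em w (0, 1) = ch w j • (em w (0, 1) * em w d) := by
    rw [em_mul hw, em_mul hw, smul_smul, ← ch_add hw, add_comm (0, 1) d, hd]
    simp [ch_zero]
  set u := g * (eu hw d)⁻¹ with hu
  have hcomm : ∀ (e : ZMod 3 × ZMod 3) (c : F), (g : Matrix I₃ I₃ F) * em w e = c • (em w e * g) →
      em w d * em w e = c • (em w e * em w d) → (u : Matrix I₃ I₃ F) * em w e = em w e * u := by
    intro e c h1 h2
    have hdu : (eu hw d : Matrix I₃ I₃ F) = em w d := rfl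
    have hc : c ≠ 0 := by
      intro h0
      rw [h0, zero_smul, ← hdu, ← eu_coe hw e, ← Units.val_mul] at h2
      exact (eu hw d * eu hw e).ne_zero h2
    have h3 : ((eu hw d)⁻¹ : GL I₃ F).val * em w e = c⁻¹ • (em w e * ((eu hw d)⁻¹ : GL I₃ F).val) := by
      rw [eq_inv_smul_iff₀ hc]
      have := congrArg (fun X => ((eu hw d)⁻¹ : GL I₃ F).val * X * ((eu hw d)⁻¹ : GL I₃ F).val) h2
      simp only [← hdu, Matrix.mul_smul, Matrix.smul_mul, ← Matrix.mul_assoc, Units.inv_mul, Matrix.one_mul] at this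
      simp only [Matrix.mul_assoc, Units.mul_inv, Matrix.mul_one] at this
      exact this.symm
    rw [hu, Units.val_mul, Matrix.mul_assoc, h3, Matrix.mul_smul, ← Matrix.mul_assoc, h1, Matrix.smul_mul,
      smul_smul, inv_mul_cancel₀ hc, one_smul, Matrix.mul_assoc]
  have cX := hcomm _ _ ha hX
  have cZ := hcomm _ _ hb hZ
  have hdiag : ∀ x y, x ≠ y → (u : Matrix I₃ I₃ F) x y = 0 := by
    intro x y hxy
    have e := congrFun (congrFun cZ x) y
    have hz : em w (0, 1) = diagonal fun l => ch w l := by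
      ext a b
      rw [em_apply, diagonal_apply, add_zero, one_mul]
      by_cases h : a = b <;> simp [h]
    rw [hz, Matrix.mul_diagonal, Matrix.diagonal_mul, mul_comm] at e
    rcases mul_eq_mul_right_iff.1 e with e | e
    · exact absurd (ch_inj hw e) (Ne.symm hxy)
    · exact e
  have hshift : ∀ x : ZMod 3, (u : Matrix I₃ I₃ F) (x + 1) (x + 1) = (u : Matrix I₃ I₃ F) x x := by
    intro x
    have e := congrFun (congrFun cX (x + 1)) x
    rw [Matrix.mul_apply, Matrix.mul_apply, Finset.sum_eq_single (x + 1) ?_ (fun h => absurd (Finset.mem_univ _) h),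
      Finset.sum_eq_single x ?_ (fun h => absurd (Finset.mem_univ _) h), em_apply, if_pos rfl, zero_mul, ch_zero,
      mul_one, one_mul] at e
    · exact e
    · intro z _ hz; rw [hdiag z x hz, mul_zero]
    · intro z _ hz; rw [hdiag (x + 1) z (Ne.symm hz), zero_mul]
  have hsc : (u : Matrix I₃ I₃ F) = (u : Matrix I₃ I₃ F) 0 0 • 1 := by
    ext x y
    rw [Matrix.smul_apply, Matrix.one_apply, smul_eq_mul]
    by_cases hxy : x = y
    · subst hxy
      rw [if_pos rfl, mul_one]
      rcases (by decide : ∀ m : ZMod 3, m = 0 ∨ m = 1 ∨ m = 2) x with rfl | rfl | rfl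
      · rfl
      · have := hshift 0; rwa [zero_add] at this
      · have h1 := hshift 0; have h2 := hshift 1
        rw [zero_add] at h1; rw [one_add_one_eq_two, h1] at h2; exact h2
    · rw [if_neg hxy, mul_zero, hdiag x y hxy]
  have h00 : (u : Matrix I₃ I₃ F) 0 0 ≠ 0 := fun h => u.ne_zero (by rw [hsc, h, zero_smul])
  refine ⟨Units.mk0 _ h00, d, ?_⟩
  rw [show sc (Units.mk0 _ h00) = u from Units.ext (by rw [sc_coe]; exact hsc.symm), hu, inv_mul_cancel_right]

set_option synthInstance.maxSize 1024 in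
/-- The plane lemma: affine families of symplectic maps with affine commutators are constant. -/
theorem affine_const : ∀ A B : M2, DetOne A → DetOne B → (∀ e, e + app A e + app B e = 0) →
    (∀ h : M2, h = mu ∨ h = mv → ∀ e,
      e + app h (app A (app (adj2 h) (app (adj2 A) e))) + app h (app B (app (adj2 h) (app (adj2 B) e))) = 0) →
    A = ((1, 0), (0, 1)) ∧ B = ((1, 0), (0, 1)) := by
  have key : ∀ A : M2, DetOne A → DetOne ((-1 - A.1.1, -A.1.2), (-A.2.1, -1 - A.2.2)) →
      ((∀ e, e + app mu (app A (app (adj2 mu) (app (adj2 A) e))) +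
          app mu (app ((-1 - A.1.1, -A.1.2), (-A.2.1, -1 - A.2.2)) (app (adj2 mu)
            (app (adj2 ((-1 - A.1.1, -A.1.2), (-A.2.1, -1 - A.2.2))) e))) = 0) ∧
        (∀ e, e + app mv (app A (app (adj2 mv) (app (adj2 A) e))) +
          app mv (app ((-1 - A.1.1, -A.1.2), (-A.2.1, -1 - A.2.2)) (app (adj2 mv)
            (app (adj2 ((-1 - A.1.1, -A.1.2), (-A.2.1, -1 - A.2.2))) e))) = 0)) →
      A = ((1, 0), (0, 1)) ∧ ((-1 - A.1.1, -A.1.2), (-A.2.1, -1 - A.2.2)) = (((1, 0), (0, 1)) : M2) := by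
    decide +kernel
  intro A B hA hB h1 h2
  have hBe : B = ((-1 - A.1.1, -A.1.2), (-A.2.1, -1 - A.2.2)) := by
    have a := h1 (1, 0)
    have b := h1 (0, 1)
    simp [app, Prod.ext_iff] at a b
    refine Prod.ext (Prod.ext ?_ ?_) (Prod.ext ?_ ?_) <;> dsimp
    · linear_combination a.1
    · linear_combination b.1
    · linear_combination a.2
    · linear_combination b.2
  subst hBe
  exact key A hA hB ⟨h2 mu (Or.inl rfl), h2 mv (Or.inr rfl)⟩

end Cfsg.Agent.Lib.ExtraNine17
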