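import Cfsg.Agent.Lib.ExtraNine17.Block
import Cfsg.Agent.Lib.ExtraNine17.Plane

/-!
An element centralising the lift of one point, all blocks normalising the group of order `27`,
normalises the standard group or gives a translation in a single block.
-/

set_option autoImplicit false
set_option linter.unusedSectionVars false

namespace Cfsg.Agent.Lib.ExtraNine17

open Matrix
open scoped Kronecker

variable {F : Type*} [Field F] {w : F} {hw : IsPrimitiveRoot w 3} {G : Subgroup (GL I₉ F)}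

theorem norm9_tu [Finite F] (hw : IsPrimitiveRoot w 3) (v : Pt) : tu hw v ∈ nrm w :=
  ⟨id, acts_tm hw v⟩

/-- Intersecting with the normaliser keeps the generators. -/
theorem over_inf [Finite F] (hG : Over hw G) (h3 : (3 : F) ≠ 0) : Over hw (G ⊓ nrm w) := by
  refine ⟨fun g hg => ⟨hG.scal hg, ?_⟩, fun v => ⟨hG.tu_mem v, norm9_tu hw v⟩, ?_, ?_, ?_, ?_, ?_, ?_⟩
  · obtain ⟨c, hc⟩ := (Cfsg.Geo.mem_scalars_iff _).1 hg
    exact ⟨id, by rw [hc]; exact acts_scalar _⟩
  all_goals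
    first
      | obtain ⟨u, hu, he⟩ := hG.a0; exact ⟨u, ⟨hu, _, he ▸ (rel3_hom0 hw).kron_left⟩, he⟩
      | obtain ⟨u, hu, he⟩ := hG.a1; exact ⟨u, ⟨hu, _, he ▸ (rel3_hom1 hw h3).kron_left⟩, he⟩
      | obtain ⟨u, hu, he⟩ := hG.b0; exact ⟨u, ⟨hu, _, he ▸ (rel3_hom0 hw).kron_right⟩, he⟩
      | obtain ⟨u, hu, he⟩ := hG.b1; exact ⟨u, ⟨hu, _, he ▸ (rel3_hom1 hw h3).kron_right⟩, he⟩
      | obtain ⟨u, hu, he⟩ := hG.sh; exact ⟨u, ⟨hu, _, he ▸ acts_shear hw⟩, he⟩
      | obtain ⟨u, hu, he⟩ := hG.sw; exact ⟨u, ⟨hu, _, he ▸ acts_swap⟩, he⟩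

theorem blk_const_coe (M : GL I₃ F) :
    (blk (fun _ => M) : Matrix I₉ I₉ F) = (M : Matrix I₃ I₃ F) ⊗ₖ (1 : Matrix I₃ I₃ F) := by
  rw [blk_coe, kron_one_eq]

theorem Rel3.inv (hw : IsPrimitiveRoot w 3) {g : GL I₃ F} {M : M2} (hM : DetOne M)
    (h : Rel3 w (g : Matrix I₃ I₃ F) (app M)) : Rel3 w ((g⁻¹ : GL I₃ F) : Matrix I₃ I₃ F) (app (adj2 M)) := by
  intro e
  have hM' : DetOne (adj2 M) := by
    show M.2.2 * M.1.1 - -M.1.2 * -M.2.1 = 1
    have h' : M.1.1 * M.2.2 - M.1.2 * M.2.1 = 1 := hM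
    linear_combination h'
  obtain ⟨c, hc⟩ := h (app (adj2 M) e)
  have he : app M (app (adj2 M) e) = e := by
    have := app_adj hM' e
    rwa [show adj2 (adj2 M) = M by simp [adj2]] at this
  rw [he] at hc
  have hc0 : c ≠ 0 := by
    intro h0
    rw [h0, zero_smul, ← eu_coe hw, ← Units.val_mul] at hc
    exact (g * eu hw _).ne_zero hc
  refine ⟨c⁻¹, ?_⟩
  rw [eq_inv_smul_iff₀ hc0]
  have := congrArg (fun X => ((g⁻¹ : GL I₃ F) : Matrix I₃ I₃ F) * X * ((g⁻¹ : GL I₃ F) : Matrix I₃ I₃ F)) hc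
  simp only [Matrix.mul_smul, Matrix.smul_mul, ← Matrix.mul_assoc, Units.inv_mul, Matrix.one_mul] at this
  simp only [Matrix.mul_assoc, Units.mul_inv, Matrix.mul_one] at this
  exact this.symm

theorem rel3_unique (hw : IsPrimitiveRoot w 3) {g : GL I₃ F} {σ τ : ZMod 3 × ZMod 3 → ZMod 3 × ZMod 3}
    (h1 : Rel3 w (g : Matrix I₃ I₃ F) σ) (h2 : Rel3 w (g : Matrix I₃ I₃ F) τ) (e : ZMod 3 × ZMod 3) :
    σ e = τ e := by
  obtain ⟨a, ha⟩ := h1 e
  obtain ⟨b, hb⟩ := h2 e
  have ha0 : a ≠ 0 := by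
    intro h0
    rw [h0, zero_smul, ← eu_coe hw, ← Units.val_mul] at ha
    exact (g * eu hw _).ne_zero ha
  rw [ha] at hb
  have := congrArg (fun X => X * ((g⁻¹ : GL I₃ F) : Matrix I₃ I₃ F)) hb
  simp only [Matrix.smul_mul, Matrix.mul_assoc, Units.mul_inv, Matrix.mul_one] at this
  refine em_inj hw (c := a⁻¹ * b) ?_
  rw [← smul_smul, ← this, smul_smul, inv_mul_cancel₀ ha0, one_smul]

theorem em_cube (hw : IsPrimitiveRoot w 3) (e : ZMod 3 × ZMod 3) : em w e * em w e * em w e = 1 := by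
  rw [em_mul hw, Matrix.smul_mul, em_mul hw, smul_smul, ← ch_add hw,
    (by decide : ∀ e : ZMod 3 × ZMod 3, e + e + e = 0) e, em_zero,
    (by decide : ∀ e : ZMod 3 × ZMod 3, e.2 * e.1 + (e + e).2 * e.1 = 0) e, ch_zero, one_smul]

/-- The scalars in a relation are cube roots of one. -/
theorem rel_root (hw : IsPrimitiveRoot w 3) {g : GL I₃ F} {e f : ZMod 3 × ZMod 3} {c : F}
    (h : (g : Matrix I₃ I₃ F) * em w e = c • (em w f * g)) : ∃ a, c = ch w a := by
  have h1 : (g : Matrix I₃ I₃ F) * (em w e * em w e * em w e) = (c * c * c) • (em w f * em w f * em w f * g) := by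
    simp only [Matrix.mul_assoc]
    rw [← Matrix.mul_assoc (g : Matrix I₃ I₃ F), h, Matrix.smul_mul, Matrix.mul_assoc,
      ← Matrix.mul_assoc (g : Matrix I₃ I₃ F), h, Matrix.smul_mul, Matrix.mul_assoc, h]
    simp only [Matrix.mul_smul, smul_smul, Matrix.mul_assoc, mul_assoc]
  rw [em_cube hw, em_cube hw, Matrix.mul_one, Matrix.one_mul] at h1
  have h2 : (c * c * c) • (g : Matrix I₃ I₃ F) = (1 : F) • (g : Matrix I₃ I₃ F) := by rw [← h1, one_smul]
  exact exists_ch hw (by rw [pow_succ, pow_two]; exact smul_left_injective F g.ne_zero h2)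

theorem eu_add (hw : IsPrimitiveRoot w 3) {d e : ZMod 3 × ZMod 3} (h : d.2 * e.1 = 0) :
    eu hw d * eu hw e = eu hw (d + e) :=
  Units.ext (by rw [Units.val_mul, eu_coe, eu_coe, eu_coe, em_mul hw, h, ch_zero, one_smul])

theorem eu_zero (hw : IsPrimitiveRoot w 3) : eu hw 0 = 1 := Units.ext (by rw [eu_coe, em_zero]; rfl)

theorem eu_mul_sc (hw : IsPrimitiveRoot w 3) (d e : ZMod 3 × ZMod 3) :
    eu hw d * eu hw e = sc (Units.mk0 (ch w (d.2 * e.1)) (ch_ne_zero hw _)) * eu hw (d + e) :=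
  Units.ext (by
    rw [Units.val_mul, Units.val_mul, eu_coe, eu_coe, eu_coe, em_mul hw, sc_coe, Units.val_mk0, Matrix.smul_mul,
      Matrix.one_mul])

/-- A conjugate of a translation. -/
theorem conj_eu (hw : IsPrimitiveRoot w 3) {g : GL I₃ F} {σ : ZMod 3 × ZMod 3 → ZMod 3 × ZMod 3}
    (h : Rel3 w (g : Matrix I₃ I₃ F) σ) (d : ZMod 3 × ZMod 3) :
    ∃ a, g * eu hw d * g⁻¹ = sc (Units.mk0 (ch w a) (ch_ne_zero hw _)) * eu hw (σ d) := by
  obtain ⟨c, hc⟩ := h d
  obtain ⟨a, rfl⟩ := rel_root hw hc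
  refine ⟨a, ?_⟩
  rw [mul_inv_eq_iff_eq_mul]
  refine Units.ext ?_
  rw [Units.val_mul, Units.val_mul, Units.val_mul, sc_coe, Units.val_mk0, eu_coe, eu_coe, hc, Matrix.smul_mul,
    Matrix.one_mul, Matrix.smul_mul]

section Over

variable [Finite F] {h3 : (3 : F) ≠ 0}

set_option synthInstance.maxSize 1024 in
/-- Every map of determinant one is induced by a constant block element. -/
theorem exists_const (hG : Over hw G) (h3 : (3 : F) ≠ 0) {M : M2} (hM : DetOne M) :
    ∃ u, (fun _ => u) ∈ blocks G ∧ Rel3 w (u : Matrix I₃ I₃ F) (app M) := by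
  let S : Set M2 := {M | ∃ u, (fun _ => u) ∈ blocks G ∧ Rel3 w (u : Matrix I₃ I₃ F) (app M)}
  let mul2 : M2 → M2 → M2 := fun A B =>
    ((A.1.1 * B.1.1 + A.1.2 * B.2.1, A.1.1 * B.1.2 + A.1.2 * B.2.2),
      (A.2.1 * B.1.1 + A.2.2 * B.2.1, A.2.1 * B.1.2 + A.2.2 * B.2.2))
  have happ : ∀ A B, app (mul2 A B) = app A ∘ app B := by
    intro A B
    funext e
    simp only [app, mul2, Function.comp_apply]
    refine Prod.ext ?_ ?_ <;> dsimp <;> ring
  have hmu : mu ∈ S := ⟨h0u hw, blocks_h0 hG, by rw [app_mu, h0u_coe]; exact rel3_hom0 hw⟩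
  have hmv : mv ∈ S := ⟨h1u hw h3, blocks_h1 hG h3, by rw [app_mv, h1u_coe]; exact rel3_hom1 hw h3⟩
  have hmul : ∀ A B, A ∈ S → B ∈ S → mul2 A B ∈ S := by
    rintro A B ⟨u, hu, hA⟩ ⟨v, hv, hB⟩
    exact ⟨u * v, (blocks G).mul_mem hu hv, by rw [happ, Units.val_mul]; exact hA.mul hB⟩
  have hone : ((1, 0), (0, 1)) ∈ S := by
    refine ⟨1, (blocks G).one_mem, ?_⟩
    have : app ((1, 0), (0, 1)) = id := by funext e; simp [app]
    rw [this]
    simpa using rel3_sc (w := w) (1 : Fˣ)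
  show M ∈ S
  let col : M2 → ZMod 3 × ZMod 3 := fun A => (A.1.2, A.2.2)
  have hcol : (M.1.2, M.2.2) ≠ 0 := by
    intro h0
    simp only [Prod.ext_iff, Prod.fst_zero, Prod.snd_zero] at h0
    have h' : M.1.1 * M.2.2 - M.1.2 * M.2.1 = 1 := hM
    rw [h0.1, h0.2, mul_zero, zero_mul, sub_zero] at h'
    exact zero_ne_one h'
  obtain ⟨A, hA, hAd, hAc⟩ : col M ∈ {v | ∃ A, A ∈ S ∧ DetOne A ∧ col A = v} := by
    refine plane_orbit (S := {v | ∃ A, A ∈ S ∧ DetOne A ∧ col A = v}) ⟨_, hone, by decide, rfl⟩ ?_ ?_ hcol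
    · rintro e ⟨A, hA, hd, rfl⟩
      refine ⟨mul2 mu A, hmul _ _ hmu hA, ?_, ?_⟩
      · have hd' : A.1.1 * A.2.2 - A.1.2 * A.2.1 = 1 := hd
        show _ - _ = (1 : ZMod 3)
        simp only [mul2, mu]
        linear_combination hd'
      · refine Prod.ext ?_ ?_ <;> simp [col, mul2, mu, su, add_comm]
    · rintro e ⟨A, hA, hd, rfl⟩
      refine ⟨mul2 mv A, hmul _ _ hmv hA, ?_, ?_⟩
      · have hd' : A.1.1 * A.2.2 - A.1.2 * A.2.1 = 1 := hd
        show _ - _ = (1 : ZMod 3)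
        simp only [mul2, mv]
        linear_combination hd'
      · refine Prod.ext ?_ ?_
        · simp only [col, mul2, mv, sv, one_mul]
          rw [show (2 : ZMod 3) = -1 by decide, neg_one_mul, sub_eq_add_neg]
        · simp [col, mul2, mv, sv]
  have key : ∀ A M : M2, DetOne A → DetOne M → col A = col M →
      M = A ∨ M = mul2 A mu ∨ M = mul2 (mul2 A mu) mu := by decide +kernel
  rcases key A M hAd hM hAc with rfl | rfl | rfl
  · exact hA
  · exact hmul _ _ hA hmu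
  · exact hmul _ _ (hmul _ _ hA hmu) hmu

/-- The linear translations. -/
theorem blocks_lin (hG : Over hw G) : (fun k => eu hw (0, k)) ∈ blocks G := by
  obtain ⟨n, hn, hnm⟩ := hG.sh
  let d : ZMod 3 → GL I₃ F := fun k => eu hw (k, 0) * h0u hw * (eu hw (k, 0))⁻¹
  have hdc : ∀ k : ZMod 3, (d k : Matrix I₃ I₃ F) = diagonal fun l => ch w (1 - (l - k) * (l - k)) := by
    intro k
    have e1 : eu hw (k, 0) * h0u hw = (⟨diagonal fun l => ch w (1 - (l - k) * (l - k)),
        diagonal fun l => ch w (-(1 - (l - k) * (l - k))),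
        by rw [diagonal_mul_diagonal, ← diagonal_one]; congr 1; funext l; exact ch_mul_neg hw _,
        by rw [diagonal_mul_diagonal, ← diagonal_one]; congr 1; funext l; rw [mul_comm]; exact ch_mul_neg hw _⟩ :
          GL I₃ F) * eu hw (k, 0) := by
      refine Units.ext ?_
      ext x y
      rw [Units.val_mul, Units.val_mul, h0u_coe, eu_coe, hom0, Matrix.mul_diagonal, Matrix.diagonal_mul, em_apply]
      by_cases hxy : x = y + k
      · rw [if_pos hxy, hxy, add_sub_cancel_right, zero_mul, ch_zero, one_mul, mul_one]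
        rcases (by decide : ∀ m : ZMod 3, m = 0 ∨ m = 1 ∨ m = 2) y with rfl | rfl | rfl
        · rw [if_pos rfl, show (1 : ZMod 3) - 0 * 0 = 1 by decide, ch_one]
        · rw [if_neg (by decide), show (1 : ZMod 3) - 1 * 1 = 0 by decide, ch_zero]
        · rw [if_neg (by decide), show (1 : ZMod 3) - 2 * 2 = 0 by decide, ch_zero]
      · rw [if_neg hxy, mul_zero, zero_mul]
    show ((eu hw (k, 0) * h0u hw * (eu hw (k, 0))⁻¹ : GL I₃ F) : Matrix I₃ I₃ F) = _
    rw [e1, mul_inv_cancel_right]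
  have hd : d ∈ blocks G := by
    show blk d ∈ G
    have e : blk d = n * blk (fun _ => h0u hw) * n⁻¹ := by
      rw [eq_mul_inv_iff_mul_eq]
      refine Units.ext ?_
      ext x y
      rw [Units.val_mul, Units.val_mul, hnm, blk_coe, blk_coe]
      simp only [hdc, h0u_coe, hom0]
      rw [Matrix.blockDiagonal_diagonal, Matrix.blockDiagonal_diagonal, Matrix.mul_diagonal,
        Matrix.diagonal_mul, shear_apply]
      by_cases hxy : x = (y.1 + y.2, y.2)
      · rw [if_pos hxy, hxy, one_mul, mul_one]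
        dsimp only
        rw [add_sub_cancel_right]
        rcases (by decide : ∀ m : ZMod 3, m = 0 ∨ m = 1 ∨ m = 2) y.1 with h | h | h <;> rw [h]
        · rw [if_pos rfl, show (1 : ZMod 3) - 0 * 0 = 1 by decide, ch_one]
        · rw [if_neg (by decide), show (1 : ZMod 3) - 1 * 1 = 0 by decide, ch_zero]
        · rw [if_neg (by decide), show (1 : ZMod 3) - 2 * 2 = 0 by decide, ch_zero]
      · rw [if_neg hxy, mul_zero, zero_mul]
    rw [e]
    exact G.mul_mem (G.mul_mem hn (blocks_h0 hG)) (G.inv_mem hn)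
  have hq := blocks_quad hG 0 0 1
  have := (blocks G).mul_mem ((blocks G).mul_mem hd ((blocks G).inv_mem (blocks_h0 hG))) hq
  have := (blocks G).pow_mem this 2
  convert this using 1
  funext k
  simp only [Pi.pow_apply, Pi.mul_apply, Pi.inv_apply]
  refine Units.ext ?_
  rw [Units.val_pow_eq_pow_val, Units.val_mul, Units.val_mul, hdc, eu_coe, em_diag, sc_coe, Units.val_mk0,
    Matrix.mul_smul, Matrix.mul_one,
    show ((h0u hw)⁻¹ : GL I₃ F).val = diagonal fun l => if l = 0 then w⁻¹ else 1 from rfl,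
    diagonal_mul_diagonal, ← diagonal_smul, diagonal_pow]
  congr 1
  funext l
  simp only [Pi.pow_apply, Pi.smul_apply, smul_eq_mul]
  have hi : (if l = 0 then w⁻¹ else 1) = ch w (-(1 - l * l)) := by
    rcases (by decide : ∀ m : ZMod 3, m = 0 ∨ m = 1 ∨ m = 2) l with rfl | rfl | rfl
    · rw [if_pos rfl, show -((1 : ZMod 3) - 0 * 0) = -1 by decide]
      exact inv_eq_of_mul_eq_one_right (by have := ch_mul_neg hw 1; rwa [ch_one] at this)
    · rw [if_neg (by decide), show -((1 : ZMod 3) - 1 * 1) = 0 by decide, ch_zero]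
    · rw [if_neg (by decide), show -((1 : ZMod 3) - 2 * 2) = 0 by decide, ch_zero]
  rw [hi, ← ch_add hw, ← ch_add hw, pow_two, ← ch_add hw]
  congr 1
  have h3' : (3 : ZMod 3) = 0 := by decide
  linear_combination (-(k * l)) * h3'

/-- Scalar blocks given by any function to the cube roots of one. -/
theorem blocks_ch (hG : Over hw G) (a : ZMod 3 → ZMod 3) :
    (fun k => sc (Units.mk0 (ch w (a k)) (ch_ne_zero hw _))) ∈ blocks G := by
  convert blocks_quad hG (a 0) (2 * a 1 + a 2) (2 * a 1 + 2 * a 2 + 2 * a 0) using 1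
  funext k
  congr 1
  refine Units.ext ?_
  simp only [Units.val_mk0]
  congr 1
  have key : ∀ x y z k : ZMod 3, (if k = 0 then x else if k = 1 then y else z) =
      x + (2 * y + z) * k + (2 * y + 2 * z + 2 * x) * (k * k) := by decide
  rw [← key]
  rcases (by decide : ∀ m : ZMod 3, m = 0 ∨ m = 1 ∨ m = 2) k with rfl | rfl | rfl <;>
    simp (config := { decide := true })

/-- Translations with non-affine points give a translation in a single block. -/
theorem single_of_nonaffine (hG : Over hw G) (h3 : (3 : F) ≠ 0) {f : ZMod 3 → GL I₃ F} (hf : f ∈ blocks G)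
    {d : ZMod 3 → ZMod 3 × ZMod 3} (hd : ∀ k, ∃ c : Fˣ, f k = sc c * eu hw (d k)) (hne : d 0 + d 1 + d 2 ≠ 0) :
    Pi.mulSingle 0 (eu hw (0, 1)) ∈ blocks G := by
  obtain ⟨h, hh, τ, hrel, π, hπ, hπne, hπadd⟩ :
      ∃ h, (fun _ => h) ∈ blocks G ∧ ∃ τ, Rel3 w (h : Matrix I₃ I₃ F) τ ∧
        ∃ π : ZMod 3 × ZMod 3 → ZMod 3 × ZMod 3, (∀ e, τ e - e = π e) ∧ π (d 0 + d 1 + d 2) ≠ 0 ∧
        (∀ a b, π (a + b) = π a + π b) ∧ ((∀ e, (π e).1 = 0) ∨ ∀ e, (π e).2 = 0) := by
    by_cases h1 : (d 0 + d 1 + d 2).1 = 0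
    · refine ⟨h1u hw h3, blocks_h1 hG h3, sv, by rw [h1u_coe]; exact rel3_hom1 hw h3,
        fun e => (-e.2, 0), fun e => (by decide : ∀ e : ZMod 3 × ZMod 3, sv e - e = (-e.2, 0)) e, fun h0 => hne ?_, fun a b => by
          refine Prod.ext ?_ ?_ <;> simp [add_comm], Or.inr fun _ => rfl⟩
      exact Prod.ext h1 (neg_eq_zero.1 (congrArg Prod.fst h0))
    · exact ⟨h0u hw, blocks_h0 hG, su, by rw [h0u_coe]; exact rel3_hom0 hw,
        fun e => (0, e.1), fun e => (by decide : ∀ e : ZMod 3 × ZMod 3, su e - e = (0, e.1)) e, fun h0 => h1 (congrArg Prod.snd h0), fun a b => by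
          refine Prod.ext ?_ ?_ <;> simp, Or.inl fun _ => rfl⟩
  obtain ⟨hπadd, hshape⟩ := hπadd
  have ht : ∀ k, ∃ a, ((fun _ => h) * f * (fun _ => h)⁻¹ * f⁻¹ : ZMod 3 → GL I₃ F) k =
      sc (Units.mk0 (ch w a) (ch_ne_zero hw _)) * eu hw (π (d k)) := by
    intro k
    obtain ⟨c, hc⟩ := hd k
    obtain ⟨a, ha⟩ := conj_eu hw hrel (d k)
    refine ⟨a - (π (d k)).2 * (d k).1, ?_⟩
    simp only [Pi.mul_apply, Pi.inv_apply, hc]
    rw [mul_inv_eq_iff_eq_mul]
    calc h * (sc c * eu hw (d k)) * h⁻¹ = sc c * (h * eu hw (d k) * h⁻¹) := by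
          rw [← mul_assoc h, sc_comm]; group
      _ = sc c * (sc (Units.mk0 (ch w a) (ch_ne_zero hw _)) * eu hw (τ (d k))) := by rw [ha]
      _ = _ := by
        have e1 : τ (d k) = π (d k) + d k := by rw [← hπ, sub_add_cancel]
        refine Units.ext ?_
        simp only [Units.val_mul, sc_coe, Units.val_mk0, eu_coe, Matrix.smul_mul, Matrix.mul_smul, Matrix.one_mul,
          Matrix.mul_one, em_mul hw, smul_smul, e1]
        congr 1
        have hch : ch w (a - (π (d k)).2 * (d k).1) * ch w ((π (d k)).2 * (d k).1) = ch w a := by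
          rw [← ch_add hw, sub_add_cancel]
        rw [← hch]
        ring
  choose a ha using ht
  have hT : (fun k => eu hw (π (d k))) ∈ blocks G := by
    have := (blocks G).mul_mem ((blocks G).inv_mem (blocks_ch hG a))
      ((blocks G).mul_mem ((blocks G).mul_mem ((blocks G).mul_mem hh hf) ((blocks G).inv_mem hh)) ((blocks G).inv_mem hf))
    convert this using 1
    funext k
    show _ = (sc _)⁻¹ * (((fun _ => h) * f * (fun _ => h)⁻¹ * f⁻¹ : ZMod 3 → GL I₃ F) k)
    rw [ha k, inv_mul_cancel_left]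
  -- rotate the translation to the diagonal ones
  have hπform : π (d 0) + π (d 1) + π (d 2) ≠ 0 := by rw [← hπadd, ← hπadd]; exact hπne
  obtain ⟨s, hs, hsz⟩ : ∃ s : ZMod 3 → ZMod 3, ((fun k => eu hw (0, s k)) ∈ blocks G) ∧ s 0 + s 1 + s 2 ≠ 0 := by
    rcases hshape with h0 | h0
    · refine ⟨fun k => (π (d k)).2, ?_, ?_⟩
      · convert hT using 2 with k
        exact congrArg _ (Prod.ext (h0 _).symm rfl)
      · intro hz
        exact hπform (Prod.ext (by simp [h0]) (by simpa using hz))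
    · obtain ⟨u, hu, hur⟩ := exists_const hG h3 (M := ((0, 2), (1, 0))) (by decide)
      have hc : ∀ k, ∃ b, u * eu hw (π (d k)) * u⁻¹ =
          sc (Units.mk0 (ch w b) (ch_ne_zero hw _)) * eu hw (0, (π (d k)).1) := by
        intro k
        obtain ⟨b, hb⟩ := conj_eu hw hur (π (d k))
        refine ⟨b, ?_⟩
        rw [hb]
        congr 2
        refine Prod.ext ?_ ?_ <;> simp [app, h0]
      choose b hb using hc
      refine ⟨fun k => (π (d k)).1, ?_, ?_⟩
      · have := (blocks G).mul_mem ((blocks G).inv_mem (blocks_ch hG b))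
          ((blocks G).mul_mem ((blocks G).mul_mem hu hT) ((blocks G).inv_mem hu))
        convert this using 1
        funext k
        show _ = (sc _)⁻¹ * (u * eu hw (π (d k)) * u⁻¹)
        rw [hb k, inv_mul_cancel_left]
      · intro hz
        exact hπform (Prod.ext (by simpa using hz) (by simp [h0]))
  -- the second difference
  have := (blocks G).pow_mem ((blocks G).mul_mem hs
    ((blocks G).mul_mem (blocks_shift hG hs 1) (blocks_shift hG hs 2))) 1
  have hpw : ∀ (t : ZMod 3) (n : ℕ), eu hw (0, t) ^ n = eu hw (0, n * t) := by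
    intro t n
    induction n with
    | zero => simp [Prod.mk_zero_zero, eu_zero]
    | succ n ih =>
      rw [pow_succ, ih, eu_add hw (by simp)]
      congr 1
      refine Prod.ext (by simp) ?_
      simp [add_mul]
  have key : ∀ x y z : ZMod 3, ∀ k : ZMod 3, x + y + z ≠ 0 →
      (x + y + z) * ((if k = 0 then x else if k = 1 then y else z) - x - k * (2 * y + z)) + 1 =
        if k = 0 then 1 else 0 := by decide
  have hfin := (blocks G).mul_mem
    ((blocks G).pow_mem ((blocks G).mul_mem ((blocks G).mul_mem hs ((blocks G).inv_mem (blocks_em hG (0, s 0))))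
      ((blocks G).inv_mem ((blocks G).pow_mem (blocks_lin hG) (2 * s 1 + s 2).val))) (s 0 + s 1 + s 2).val)
    (blocks_em hG (0, 1))
  convert hfin using 1
  funext k
  simp only [Pi.mul_apply, Pi.pow_apply, Pi.inv_apply]
  rw [hpw]
  have hinv : ∀ t, (eu hw (0, t))⁻¹ = eu hw (0, -t) := fun t => inv_eq_of_mul_eq_one_right (by
    rw [eu_add hw (by simp), Prod.mk_add_mk, zero_add, add_neg_cancel, Prod.mk_zero_zero, eu_zero])
  rw [hinv, hinv, mul_assoc, eu_add hw (by simp), eu_add hw (by simp)]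
  simp only [Prod.mk_add_mk, zero_add]
  rw [hpw, eu_add hw (by simp)]
  simp only [Prod.mk_add_mk, zero_add, ZMod.natCast_zmod_val, ← sub_eq_add_neg]
  have hk := key (s 0) (s 1) (s 2) k hsz
  have hif : (if k = 0 then s 0 else if k = 1 then s 1 else s 2) = s k := by
    rcases (by decide : ∀ m : ZMod 3, m = 0 ∨ m = 1 ∨ m = 2) k with rfl | rfl | rfl <;>
      simp (config := { decide := true })
  rw [hif] at hk
  rw [mul_comm k] at hk
  rw [show s k + (-s 0 - (2 * s 1 + s 2) * k) = s k - s 0 - (2 * s 1 + s 2) * k by ring, hk]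
  by_cases hk0 : k = 0
  · subst hk0; rw [Pi.mulSingle_eq_same, if_pos rfl]
  · rw [Pi.mulSingle_eq_of_ne hk0, if_neg hk0, Prod.mk_zero_zero, eu_zero]

/-- Affine condition on the induced maps of the blocks, or a translation in a single block. -/
theorem single_or_affine (hG : Over hw G) (h3 : (3 : F) ≠ 0) {f : ZMod 3 → GL I₃ F} (hf : f ∈ blocks G)
    {σ : ZMod 3 → ZMod 3 × ZMod 3 → ZMod 3 × ZMod 3} (hσ : ∀ k, Rel3 w (f k : Matrix I₃ I₃ F) (σ k))
    (h0 : ∀ e, σ 0 e = e) :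
    Pi.mulSingle 0 (eu hw (0, 1)) ∈ blocks G ∨ ∀ e, e + σ 1 e + σ 2 e = 0 := by
  by_cases h : ∀ e, e + σ 1 e + σ 2 e = 0
  · exact Or.inr h
  left
  push Not at h
  obtain ⟨e, he⟩ := h
  refine single_of_nonaffine hG h3 (d := fun k => σ k e - e)
    ((blocks G).mul_mem ((blocks G).mul_mem ((blocks G).mul_mem hf (blocks_em hG e)) ((blocks G).inv_mem hf))
      ((blocks G).inv_mem (blocks_em hG e))) (fun k => ?_) ?_
  · obtain ⟨a, ha⟩ := conj_eu hw (hσ k) e
    refine ⟨Units.mk0 (ch w (a - (σ k e - e).2 * e.1)) (ch_ne_zero hw _), ?_⟩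
    show f k * eu hw e * (f k)⁻¹ * (eu hw e)⁻¹ = _
    rw [ha, mul_inv_eq_iff_eq_mul, mul_assoc, eu_mul_sc, ← mul_assoc, ← map_mul, sub_add_cancel]
    congr 2
    refine Units.ext ?_
    simp only [Units.val_mul, Units.val_mk0]
    rw [← ch_add hw, sub_add_cancel]
  · have key : ∀ a b c : ZMod 3 × ZMod 3, c + a + b ≠ 0 → c - c + (a - c) + (b - c) ≠ 0 := by decide +kernel
    simpa [h0] using key _ _ _ he

/-- Block elements with all blocks in the normaliser: normalising, or a translation in a single block. -/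
theorem single_or_nrm (hG : Over hw G) (h3 : (3 : F) ≠ 0)
    (hN : ∀ f ∈ blocks G, ∀ k, MemN3 w ((f k : GL I₃ F) : Matrix I₃ I₃ F)) {f : ZMod 3 → GL I₃ F}
    (hf : f ∈ blocks G) : Pi.mulSingle 0 (eu hw (0, 1)) ∈ blocks G ∨ blk f ∈ nrm w := by
  classical
  by_contra hcon
  push Not at hcon
  obtain ⟨hno, hfn⟩ := hcon
  have hG' := over_inf hG h3
  have hle : blocks (G ⊓ nrm w) ≤ blocks G := fun x hx => hx.1
  have hm2 : ∀ g ∈ blocks G, ∀ k, ∃ M, DetOne M ∧ Rel3 w ((g k : GL I₃ F) : Matrix I₃ I₃ F) (app M) := by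
    intro g hg k
    choose c e' hc using hN g hg k
    obtain ⟨M, hM, hMe⟩ := Rel3.exists_m2 hw (g := g k) (σ := e') (fun e => ⟨c e, hc e⟩)
    exact ⟨M, hM, fun e => ⟨c e, by rw [← hMe]; exact hc e⟩⟩
  obtain ⟨M0, hM0, hR0⟩ := hm2 f hf 0
  obtain ⟨u, hu, hur⟩ := exists_const hG' h3 hM0
  set g := (fun _ => u)⁻¹ * f with hg
  have hgm : g ∈ blocks G := (blocks G).mul_mem ((blocks G).inv_mem (hle hu)) hf
  choose M hMd hMr using fun k => hm2 g hgm k
  have hid : ∀ e, app (M 0) e = e := by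
    intro e
    have := rel3_unique hw (hMr 0) (g := g 0) (τ := app (adj2 M0) ∘ app M0) (by
      show Rel3 w ((u⁻¹ * f 0 : GL I₃ F) : Matrix I₃ I₃ F) _
      rw [Units.val_mul]
      exact (hur.inv hw hM0).mul hR0) e
    rw [this]
    exact app_adj hM0 e
  have haff := (single_or_affine hG h3 hgm hMr hid).resolve_left hno
  have hcomm : ∀ h : M2, h = mu ∨ h = mv → ∀ e,
      e + app h (app (M 1) (app (adj2 h) (app (adj2 (M 1)) e))) +
        app h (app (M 2) (app (adj2 h) (app (adj2 (M 2)) e))) = 0 := by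
    intro h hh
    have hd : DetOne h := by rcases hh with rfl | rfl <;> decide
    obtain ⟨v, hv, hvr⟩ := exists_const hG h3 hd
    refine (single_or_affine hG h3
      ((blocks G).mul_mem ((blocks G).mul_mem ((blocks G).mul_mem hv hgm) ((blocks G).inv_mem hv))
        ((blocks G).inv_mem hgm)) (σ := fun k => app h ∘ app (M k) ∘ app (adj2 h) ∘ app (adj2 (M k)))
      (fun k => ?_) (fun e => ?_)).resolve_left hno
    · show Rel3 w ((v * g k * v⁻¹ * (g k)⁻¹ : GL I₃ F) : Matrix I₃ I₃ F) _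
      rw [Units.val_mul, Units.val_mul, Units.val_mul]
      exact ((hvr.mul (hMr k)).mul (hvr.inv hw hd)).mul ((hMr k).inv hw (hMd k))
    · show app h (app (M 0) (app (adj2 h) (app (adj2 (M 0)) e))) = e
      have e0 : app (adj2 (M 0)) e = e := by
        conv_lhs => rw [← hid e]
        exact app_adj (hMd 0) e
      rw [e0, hid]
      have hd' : DetOne (adj2 h) := by rcases hh with rfl | rfl <;> decide
      have := app_adj hd' e
      rwa [show adj2 (adj2 h) = h by simp [adj2]] at this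
  obtain ⟨h1, h2⟩ := affine_const (M 1) (M 2) (hMd 1) (hMd 2) haff hcomm
  have hall : ∀ k, Rel3 w ((g k : GL I₃ F) : Matrix I₃ I₃ F) id := by
    intro k e
    obtain ⟨c, hc⟩ := hMr k e
    refine ⟨c, ?_⟩
    have : app (M k) e = e := by
      rcases (by decide : ∀ m : ZMod 3, m = 0 ∨ m = 1 ∨ m = 2) k with rfl | rfl | rfl
      · exact hid e
      · rw [h1]; simp [app]
      · rw [h2]; simp [app]
    rwa [this] at hc
  choose c d hcd using fun k => eq_sc_mul_eu hw (hall k)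
  have hsum : d 0 + d 1 + d 2 = 0 := by
    by_contra hs
    exact hno (single_of_nonaffine hG h3 hgm (fun k => ⟨c k, hcd k⟩) hs)
  -- the linear translation with slope `d 1 - d 0`
  obtain ⟨ℓ, hℓ, b, hb⟩ : ∃ ℓ ∈ blocks (G ⊓ nrm w), ∃ b : ZMod 3 → Fˣ,
      ∀ k, ℓ k = sc (b k) * eu hw (k * (d 1 - d 0).1, k * (d 1 - d 0).2) := by
    by_cases hβ : d 1 - d 0 = 0
    · refine ⟨1, (blocks _).one_mem, fun _ => 1, fun k => ?_⟩
      simp [hβ, Prod.mk_zero_zero, eu_zero]
    · obtain ⟨N, hN', hNd⟩ : ∃ N : M2, DetOne N ∧ app N (0, 1) = d 1 - d 0 := by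
        revert hβ
        generalize d 1 - d 0 = β
        revert β
        decide +kernel
      obtain ⟨v, hv, hvr⟩ := exists_const hG' h3 hN'
      have hc : ∀ k : ZMod 3, ∃ b : Fˣ, v * eu hw (0, k) * v⁻¹ =
          sc b * eu hw (k * (d 1 - d 0).1, k * (d 1 - d 0).2) := by
        intro k
        obtain ⟨a, ha⟩ := conj_eu hw hvr (0, k)
        refine ⟨Units.mk0 (ch w a) (ch_ne_zero hw _), ha.trans ?_⟩
        congr 2
        rw [← hNd]
        refine Prod.ext ?_ ?_ <;> simp [app, mul_comm]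
      choose b hb using hc
      exact ⟨_, (blocks _).mul_mem ((blocks _).mul_mem hv (blocks_lin hG')) ((blocks _).inv_mem hv), b, hb⟩
  -- what remains is scalar in every block
  set f3 := ℓ⁻¹ * ((fun _ => eu hw (d 0))⁻¹ * g) with hf3
  have hf3m : f3 ∈ blocks G :=
    (blocks G).mul_mem ((blocks G).inv_mem (hle hℓ))
      ((blocks G).mul_mem ((blocks G).inv_mem (blocks_em hG _)) hgm)
  have hsc : ∀ k, IsSc (f3 k) := by
    intro k
    have hk : d k = d 0 + (k * (d 1 - d 0).1, k * (d 1 - d 0).2) := by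
      have key : ∀ (x y : ZMod 3 × ZMod 3) (k : ZMod 3), (if k = 0 then x else if k = 1 then y else -(x + y)) =
          x + (k * (y - x).1, k * (y - x).2) := by decide +kernel
      rw [← key]
      rcases (by decide : ∀ m : ZMod 3, m = 0 ∨ m = 1 ∨ m = 2) k with rfl | rfl | rfl <;>
        simp (config := { decide := true })
      exact (neg_eq_of_add_eq_zero_right hsum).symm.trans (by rw [neg_add, add_comm])
    show IsSc ((ℓ k)⁻¹ * ((eu hw (d 0))⁻¹ * g k))
    rw [hb, hcd, hk]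
    set D := (k * (d 1 - d 0).1, k * (d 1 - d 0).2)
    have e1 : eu hw (d 0 + D) = (sc (Units.mk0 (ch w ((d 0).2 * D.1)) (ch_ne_zero hw _)))⁻¹ * (eu hw (d 0) * eu hw D) := by
      rw [eu_mul_sc, inv_mul_cancel_left]
    rw [e1, ← map_inv]
    refine ⟨(b k)⁻¹ * (c k * (Units.mk0 (ch w ((d 0).2 * D.1)) (ch_ne_zero hw _))⁻¹), ?_⟩
    rw [map_mul sc, map_mul sc, _root_.mul_inv_rev, map_inv sc (b k)]
    set C := c k
    set z := (Units.mk0 (ch w ((d 0).2 * D.1)) (ch_ne_zero hw _))⁻¹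
    calc (eu hw D)⁻¹ * (sc (b k))⁻¹ * ((eu hw (d 0))⁻¹ * (sc C * (sc z * (eu hw (d 0) * eu hw D))))
        = (eu hw D)⁻¹ * (sc (b k))⁻¹ * ((eu hw (d 0))⁻¹ * sc (C * z) * eu hw (d 0) * eu hw D) := by
          rw [map_mul sc]; group
      _ = (eu hw D)⁻¹ * ((sc (b k))⁻¹ * sc (C * z)) * eu hw D := by rw [sc_comm]; group
      _ = (sc (b k))⁻¹ * (sc C * sc z) := by
          rw [← map_inv sc, ← map_mul, sc_comm, mul_assoc, inv_mul_cancel, mul_one, map_mul, map_mul, map_inv]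
  choose s hs using hsc
  have hf3n : blk f3 ∈ nrm w := by
    obtain ⟨n, ⟨hnG, hnn⟩, hnm⟩ := hG'.sw
    let t : GL I₃ F := ⟨diagonal fun l => (s l : F), diagonal fun l => (((s l)⁻¹ : Fˣ) : F),
      by rw [diagonal_mul_diagonal, ← diagonal_one]; congr 1; funext i; rw [Units.mul_inv],
      by rw [diagonal_mul_diagonal, ← diagonal_one]; congr 1; funext i; rw [Units.inv_mul]⟩
    have hconj : blk (fun _ => t) = n * blk f3 * n⁻¹ := by
      rw [eq_mul_inv_iff_mul_eq]
      refine Units.ext ?_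
      ext x y
      rw [Units.val_mul, Units.val_mul, hnm, blk_coe, blk_coe]
      simp only [hs, sc_coe, t, Matrix.smul_one_eq_diagonal]
      rw [Matrix.blockDiagonal_diagonal, Matrix.blockDiagonal_diagonal, Matrix.mul_diagonal, Matrix.diagonal_mul,
        swapM_apply]
      by_cases hxy : x = (y.2, y.1)
      · rw [if_pos hxy, hxy]; ring
      · rw [if_neg hxy, mul_zero, zero_mul]
    have ht : (fun _ => t) ∈ blocks G := by
      show blk _ ∈ G
      rw [hconj]
      exact G.mul_mem (G.mul_mem hnG hf3m) (G.inv_mem hnG)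
    choose a e' he' using hN _ ht 0
    have hblk : blk (fun _ => t) ∈ nrm w := ⟨_, by
      rw [blk_const_coe]
      exact Rel3.kron_left (fun e => ⟨a e, he' e⟩)⟩
    rw [hconj] at hblk
    exact (Subgroup.mul_mem_cancel_left _ hnn).1 ((Subgroup.mul_mem_cancel_right _ ((nrm w).inv_mem hnn)).1 hblk)
  refine hfn ?_
  have hfe : f = (fun _ => u) * (fun _ => eu hw (d 0)) * ℓ * f3 := by
    rw [hf3, hg]
    group
  rw [hfe, map_mul, map_mul, map_mul]
  exact (nrm w).mul_mem ((nrm w).mul_mem ((nrm w).mul_mem hu.2 (blocks_em hG' _).2) hℓ.2) hf3n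

end Over

end Cfsg.Agent.Lib.ExtraNine17
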