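import Cfsg.Agent.Lib.ExtraNine17.CaseCKer

/-!
When the centralisers of all lifts normalise, the whole group normalises.
-/

set_option autoImplicit false
set_option linter.unusedSectionVars false

namespace Cfsg.Agent.Lib.ExtraNine17

open Matrix
open scoped Kronecker

variable {F : Type*} [Field F] {w : F} {hw : IsPrimitiveRoot w 3} {G : Subgroup (GL I₉ F)}

namespace CC

/-- A scalar unit. -/
def scu : Fˣ →* GL I₉ F := Units.map (Matrix.scalar I₉ : F →+* Matrix I₉ I₉ F).toMonoidHom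

theorem scu_coe (c : Fˣ) : (scu c : Matrix I₉ I₉ F) = (c : F) • 1 := by
  show Matrix.scalar I₉ (c : F) = _
  rw [Matrix.scalar_apply, Matrix.smul_one_eq_diagonal]

theorem scu_mul_coe (c : Fˣ) (g : GL I₉ F) : ((scu c * g : GL I₉ F) : Matrix I₉ I₉ F) = (c : F) • (g : Matrix I₉ I₉ F) := by
  rw [Units.val_mul, scu_coe, Matrix.smul_mul, Matrix.one_mul]

theorem scu_comm (c : Fˣ) (g : GL I₉ F) : Commute (scu c) g := Units.ext (by
  rw [scu_mul_coe, Units.val_mul, scu_coe, Matrix.mul_smul, Matrix.mul_one])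

/-- Cancelling a scalar in a commutation. -/
theorem commute_of_scu {t x : GL I₉ F} (c : Fˣ) (h : Commute t (scu c * x)) : Commute t x := by
  have := (scu_comm c⁻¹ t).symm.mul_right h
  rwa [← mul_assoc, ← map_mul, inv_mul_cancel, map_one, one_mul] at this

theorem eq_scu_mul {x y : GL I₉ F} {c : F} (h : (x : Matrix I₉ I₉ F) = c • (y : Matrix I₉ I₉ F)) :
    ∃ c : Fˣ, x = scu c * y := by
  have hc : c ≠ 0 := fun h0 => x.ne_zero (by rw [h, h0, zero_smul])
  exact ⟨Units.mk0 c hc, Units.ext (by rw [scu_mul_coe, Units.val_mk0, h])⟩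

theorem tu_zero (hw : IsPrimitiveRoot w 3) : tu hw 0 = 1 := Units.ext (by rw [tu_coe, tm_zero]; rfl)

theorem tu_mul (hw : IsPrimitiveRoot w 3) (v u : Pt) :
    tu hw v * tu hw u = scu (Units.mk0 (ch w (cocy v u)) (ch_ne_zero hw _)) * tu hw (v + u) := Units.ext (by
  rw [scu_mul_coe, Units.val_mul, tu_coe, tu_coe, tu_coe, tm_mul hw, Units.val_mk0])

/-- An element fixing every point and commuting with `s9`. -/
theorem id_comm_s9 (hw : IsPrimitiveRoot w 3) {x : GL I₉ F} (hx : Acts w (x : Matrix I₉ I₉ F) id)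
    (hs : Commute x (s9 F)) : ∃ (c : Fˣ) (b : ZMod 3 × ZMod 3), x = scu c * tu hw ((0, b) : Pt) := by
  obtain ⟨c, u, hu⟩ := acts_id hw hx
  obtain ⟨c, rfl⟩ := eq_scu_mul (x := x) (y := tu hw u) (c := c) (by rw [tu_coe]; exact hu)
  have h1 : Commute (s9 F) (tu hw u) := commute_of_scu c hs.symm
  have h2 := congrArg (Units.val : GL I₉ F → Matrix I₉ I₉ F) h1.eq
  rw [Units.val_mul, Units.val_mul, tu_coe, s9_tm] at h2
  have h3 := congrArg (fun X => X * (s9 F : Matrix I₉ I₉ F)) h2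
  simp only [Matrix.mul_assoc, ← Units.val_mul, s9_sq, Units.val_one, Matrix.mul_one] at h3
  have h4 := tm_inj hw (v := ((-u.1, u.2) : Pt)) (u := u) (c := 1) (by rw [one_smul]; exact h3)
  have h5 : u.1 = 0 := (by decide : ∀ x : ZMod 3 × ZMod 3, -x = x → x = 0) _ (congrArg Prod.fst h4)
  exact ⟨c, u.2, by rw [← h5]⟩

set_option synthInstance.maxSize 1024 in
theorem invol : ∀ A : M2, DetOne A → (∀ e, app A (app A e) = e) →
    (∀ e, app A e = e) ∨ (∀ e, app A e = -e) := by
  decide +kernel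

section Hyp

variable [Finite F] (hG : Over hw G) (h3 : (3 : F) ≠ 0) (h2 : (2 : F) ≠ 0)
  (hC : ∀ v : Pt, v ≠ 0 → ∀ g ∈ G,
    (∃ c : F, (g : Matrix I₉ I₉ F) * tm w v = c • (tm w v * g)) → g ∈ nrm w)
  (hbase : BaseHyp hw h3)

include hG h3 h2 hC hbase in
theorem s9'_le {g : GL I₉ F} (hg : g ∈ G) (hgs : Commute g (s9' F)) : g ∈ nrm w := by
  have h1 : swu F * g * (swu F)⁻¹ ∈ nrm w := by
    refine s9_le hG h3 h2 hC hbase (G.mul_mem (G.mul_mem (swu_mem hG) hg) (G.inv_mem (swu_mem hG))) ?_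
    have := hgs.map (MulAut.conj (swu F)).toMonoidHom
    simpa [MulAut.conj_apply, swu_s9'] using this
  exact (Subgroup.mul_mem_cancel_left _ swu_nrm).1 ((Subgroup.mul_mem_cancel_right _
    ((nrm w).inv_mem swu_nrm)).1 h1)

include hG h3 h2 hC hbase in
/-- A conjugate of `t9` outside the normaliser commutes with a translate of `t9`. -/
theorem comm_translate {h : GL I₉ F} (hh : h ∈ G) (hn : h * t9 F * h⁻¹ ∉ nrm w) :
    ∃ b : ZMod 3 × ZMod 3, Commute (h * t9 F * h⁻¹) (tu hw ((0, b) : Pt) * t9 F) := by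
  classical
  set t1 := h * t9 F * h⁻¹ with ht1
  have ht1G : t1 ∈ G := G.mul_mem (G.mul_mem hh (t9_mem hG h3)) (G.inv_mem hh)
  have ht1sq : t1 * t1 = 1 := by
    rw [ht1, show h * t9 F * h⁻¹ * (h * t9 F * h⁻¹) = h * (t9 F * t9 F) * h⁻¹ by group, t9_sq, mul_one,
      mul_inv_cancel]
  have htr1 : (t1 : Matrix I₉ I₉ F).trace = 1 := by
    rw [ht1, Units.val_mul, Units.val_mul, Matrix.trace_units_conj, trace_t9]
  set s := s9 F with hs
  have hssq : s * s = 1 := s9_sq
  have hsinv : s⁻¹ = s := inv_eq_of_mul_eq_one_right hssq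
  have ht1inv : t1⁻¹ = t1 := inv_eq_of_mul_eq_one_right ht1sq
  set d := t1 * s with hd
  have hdinv : d⁻¹ = s * t1 := by rw [hd, _root_.mul_inv_rev, hsinv, ht1inv]
  have hsd : ∀ k : ℕ, s * d ^ k = (d⁻¹) ^ k * s := fun k => by
    refine (SemiconjBy.pow_right (?_ : SemiconjBy s d d⁻¹) k).eq
    show s * d = d⁻¹ * s
    rw [hdinv]
    exact (mul_assoc _ _ _).symm
  have htd : ∀ k : ℕ, t1 * d ^ k = (d⁻¹) ^ k * t1 := fun k => by
    refine (SemiconjBy.pow_right (?_ : SemiconjBy t1 d d⁻¹) k).eq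
    show t1 * d = d⁻¹ * t1
    rw [hdinv]
    show t1 * (t1 * s) = s * t1 * t1
    rw [mul_assoc s t1 t1, ← mul_assoc t1 t1 s, ht1sq, one_mul, mul_one]
  have hex : ∃ n, 0 < n ∧ ∃ c : Fˣ, d ^ n = scu c :=
    ⟨orderOf d, orderOf_pos d, 1, by rw [pow_orderOf_eq_one, map_one]⟩
  obtain ⟨hNpos, c, hc⟩ := Nat.find_spec hex
  have hmin : ∀ m, 0 < m → m < Nat.find hex → ∀ c : Fˣ, d ^ m ≠ scu c := fun m hm hlt c hc =>
    Nat.find_min hex hlt ⟨hm, c, hc⟩
  set N := Nat.find hex
  have hc2 : c * c = 1 := by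
    have e := htd N
    rw [hc, inv_pow, hc, (scu_comm c t1).eq.symm, ← map_inv] at e
    have e2 := mul_right_cancel e
    have e3 : (c : F) = ((c⁻¹ : Fˣ) : F) := by
      have := congrArg (fun u : GL I₉ F => (u : Matrix I₉ I₉ F) 0 0) e2
      simpa only [scu_coe, Matrix.smul_apply, Matrix.one_apply_eq, smul_eq_mul, mul_one] using this
    calc c * c = c⁻¹ * c := by rw [← show c = c⁻¹ from Units.ext e3]
      _ = 1 := inv_mul_cancel c
  have hcF : (c : F) = 1 ∨ (c : F) = -1 := mul_self_eq_one_iff.1 (by rw [← Units.val_mul, hc2, Units.val_one])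
  have h4 : (4 : F) ≠ 0 := by
    rw [show (4 : F) = 2 * 2 by norm_num]; exact mul_ne_zero h2 h2
  rcases Nat.even_or_odd' N with ⟨m, hm | hm⟩
  swap
  · exfalso
    have e : d ^ (m + 1) * s * (d ^ (m + 1))⁻¹ = scu c * t1 := by
      calc d ^ (m + 1) * s * (d ^ (m + 1))⁻¹ = d ^ (m + 1) * (s * (d ^ (m + 1))⁻¹) := mul_assoc _ _ _
        _ = d ^ (m + 1) * (d ^ (m + 1) * s) := by
          congr 1
          rw [mul_inv_eq_iff_eq_mul, mul_assoc, hsd, ← mul_assoc, inv_pow, mul_inv_cancel, one_mul]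
        _ = d ^ N * (d * s) := by
          rw [← mul_assoc, ← pow_add, show m + 1 + (m + 1) = N + 1 by omega, pow_succ, mul_assoc]
        _ = scu c * t1 := by rw [hc, hd, mul_assoc, hssq, mul_one]
    have e1 := congrArg (fun u : GL I₉ F => (u : Matrix I₉ I₉ F).trace) e
    simp only [scu_mul_coe, Units.val_mul _ ((d ^ (m + 1))⁻¹), Units.val_mul (d ^ (m + 1)) s,
      Matrix.trace_units_conj, Matrix.trace_smul, htr1, smul_eq_mul, mul_one] at e1
    rw [hs, trace_s9] at e1
    rcases hcF with h | h <;> rw [h] at e1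
    · exact h2 (by linear_combination e1)
    · exact h4 (by linear_combination e1)
  · set j := d ^ m with hj
    have hm0 : 0 < m := by omega
    have hjns : ∀ c : Fˣ, j ≠ scu c := hmin m hm0 (by omega)
    have hjj : j * j = scu c := by rw [hj, ← pow_add, ← two_mul, ← hm, hc]
    have hjinv : j⁻¹ = scu c * j := by
      refine inv_eq_of_mul_eq_one_right ?_
      rw [← mul_assoc, (scu_comm c j).eq.symm, mul_assoc, hjj, ← map_mul, hc2, map_one]
    have hjG : j ∈ G := G.pow_mem (G.mul_mem ht1G (s9_mem hG h3)) m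
    have hsj : s * j = scu c * j * s := by rw [← hjinv, hj, hsd, inv_pow]
    have htj : t1 * j = scu c * j * t1 := by rw [← hjinv, hj, htd, inv_pow]
    rcases hcF with hcv | hcv
    swap
    · exfalso
      have e : j⁻¹ * s * j⁻¹⁻¹ = scu c * s := by
        rw [inv_inv, mul_assoc, hsj, ← mul_assoc, ← mul_assoc, ← (scu_comm c j⁻¹).eq, mul_assoc (scu c),
          inv_mul_cancel, mul_one]
      have e1 := congrArg (fun u : GL I₉ F => (u : Matrix I₉ I₉ F).trace) e
      simp only [scu_mul_coe, Units.val_mul _ (j⁻¹⁻¹), Units.val_mul j⁻¹ s, Matrix.trace_units_conj,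
        Matrix.trace_smul, smul_eq_mul] at e1
      rw [hs, trace_s9, hcv] at e1
      exact h3 (mul_left_cancel₀ h2 (by linear_combination e1))
    have hc1 : c = 1 := Units.ext hcv
    rw [hc1, map_one, one_mul] at hsj htj
    rw [hc1, map_one] at hjj
    have hjs : Commute j s := hsj.symm
    have hjt : Commute t1 j := htj
    obtain ⟨σ, hσ⟩ := s9_le hG h3 h2 hC hbase hjG hjs
    obtain ⟨sp2, sp1⟩ := acts_split hw hjs hσ
    have hdec : ∀ v : Pt, σ v = ((σ (v.1, 0)).1, (σ (0, v.2)).2) := by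
      intro v
      have e := hσ.map_add hw (v.1, 0) (0, v.2)
      rw [show ((v.1, 0) : Pt) + (0, v.2) = v from Prod.ext (add_zero _) (zero_add _)] at e
      rw [e]
      refine Prod.ext ?_ ?_
      · rw [Prod.fst_add, sp2, add_zero]
      · rw [Prod.snd_add, sp1, zero_add]
    obtain ⟨A, hA, hAe⟩ := exists_app (τ := fun e => (σ (e, 0)).1)
      (fun e f => by
        show (σ (e + f, 0)).1 = _
        rw [show ((e + f, 0) : Pt) = (e, 0) + (f, 0) from Prod.ext rfl (add_zero _).symm, hσ.map_add hw]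
        rfl)
      (fun e f => by
        have := acts_symp hw hσ (e, 0) (f, 0)
        simp only [sf, cocy, sp1, Prod.fst_zero, Prod.snd_zero, mul_zero, add_zero] at this
        exact this)
    obtain ⟨B, hB, hBe⟩ := exists_app (τ := fun e => (σ (0, e)).2)
      (fun e f => by
        show (σ (0, e + f)).2 = _
        rw [show ((0, e + f) : Pt) = (0, e) + (0, f) from Prod.ext (add_zero _).symm rfl, hσ.map_add hw]
        rfl)
      (fun e f => by
        have := acts_symp hw hσ (0, e) (0, f)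
        simp only [sf, cocy, sp2, Prod.fst_zero, Prod.snd_zero, mul_zero, zero_add] at this
        exact this)
    have hσσ : ∀ v, σ (σ v) = v := acts_unique hw (g := j * j) (σ := σ ∘ σ) (τ := id)
      (by rw [Units.val_mul]; exact hσ.mul hσ) (by rw [hjj]; simpa using acts_scalar (w := w) (1 : F))
    have hσv : ∀ v, σ v = (app A v.1, app B v.2) := fun v => by rw [hdec, hAe, hBe]
    have hAA : ∀ e, app A (app A e) = e := fun e => by
      have := congrArg Prod.fst (hσσ (e, 0)); rwa [hσv, hσv] at this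
    have hBB : ∀ e, app B (app B e) = e := fun e => by
      have := congrArg Prod.snd (hσσ (0, e)); rwa [hσv, hσv] at this
    rcases invol A hA hAA with hA1 | hA1 <;> rcases invol B hB hBB with hB1 | hB1
    · -- trivial
      exfalso
      have hid : Acts w (j : Matrix I₉ I₉ F) id := fun v => by
        obtain ⟨a, ha⟩ := hσ v
        exact ⟨a, by rw [hσv, hA1, hB1] at ha; exact ha⟩
      obtain ⟨a, b, hab⟩ := id_comm_s9 hw hid hjs
      have h1 : tm w ((0, b + b) : Pt) = ((a : F) * (a : F) * ch w (cocy ((0, b) : Pt) (0, b)))⁻¹ • 1 := by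
        have e := congrArg (Units.val : GL I₉ F → Matrix I₉ I₉ F) hjj
        rw [hab, Units.val_mul, scu_mul_coe, tu_coe, Matrix.smul_mul, Matrix.mul_smul, tm_mul hw, smul_smul,
          smul_smul, Units.val_one] at e
        rw [show ((0, b + b) : Pt) = (0, b) + (0, b) from Prod.ext (add_zero _).symm rfl, ← e, smul_smul,
          inv_mul_cancel₀ (mul_ne_zero (mul_ne_zero a.ne_zero a.ne_zero) (ch_ne_zero hw _)), one_smul]
      have hb := (by decide : ∀ x : ZMod 3 × ZMod 3, x + x = 0 → x = 0) _ (congrArg Prod.snd (eq_zero_of_tm hw h1))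
      subst hb
      exact hjns a (by rw [hab, show ((0, 0) : Pt) = 0 from rfl, tu_zero, mul_one])
    · -- as `s9'`
      exfalso
      have hid : Acts w ((j * s9' F : GL I₉ F) : Matrix I₉ I₉ F) id := fun v => by
        obtain ⟨a, ha⟩ := (hσ.mul (acts_s9' (w := w))) v
        refine ⟨a, ?_⟩
        rw [Function.comp_apply, hσv, hA1, hB1, neg_neg] at ha
        rw [Units.val_mul]
        exact ha
      obtain ⟨a, b, hab⟩ := id_comm_s9 hw hid (hjs.mul_left s9_comm_s9'.symm)
      set y := tu hw ((0, b + b) : Pt) with hy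
      obtain ⟨z, hz⟩ : ∃ z : Fˣ, tu hw ((0, b) : Pt) * s9' F * y = scu z * (y * s9' F) := by
        refine eq_scu_mul (c := ch w (cocy ((0, b) : Pt) (0, -(b + b)))) ?_
        rw [Units.val_mul, Units.val_mul, Units.val_mul, hy, tu_coe, tu_coe, Matrix.mul_assoc, s9'_tm,
          ← Matrix.mul_assoc, tm_mul hw, Matrix.smul_mul]
        congr 3
        refine Prod.ext (add_zero _) ?_
        exact (by decide : ∀ x : ZMod 3 × ZMod 3, x + -(x + x) = x + x) b
      have hj' : j = scu (a * z) * (y * s9' F * y⁻¹) := by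
        have h1 : j = scu a * (tu hw ((0, b) : Pt) * s9' F) := by
          rw [← mul_assoc, ← hab, mul_assoc, s9'_sq, mul_one]
        rw [h1, map_mul, mul_assoc, eq_mul_inv_of_mul_eq hz]
        group
      have hc' := commute_of_scu _ (hj' ▸ hjt)
      refine hn ?_
      have hy' : y ∈ nrm w := ⟨id, acts_tm hw _⟩
      have h1 : y⁻¹ * t1 * y⁻¹⁻¹ ∈ nrm w := by
        refine s9'_le hG h3 h2 hC hbase (G.mul_mem (G.mul_mem (G.inv_mem (hG.tu_mem _)) ht1G)
          (G.inv_mem (G.inv_mem (hG.tu_mem _)))) ?_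
        have := hc'.map (MulAut.conj y⁻¹).toMonoidHom
        simpa [MulAut.conj_apply, mul_assoc] using this
      exact (Subgroup.mul_mem_cancel_left _ ((nrm w).inv_mem hy')).1
        ((Subgroup.mul_mem_cancel_right _ ((nrm w).inv_mem ((nrm w).inv_mem hy'))).1 h1)
    · -- as `s9`
      exfalso
      have hid : Acts w ((j * s : GL I₉ F) : Matrix I₉ I₉ F) id := fun v => by
        obtain ⟨a, ha⟩ := (hσ.mul (acts_s9 (w := w))) v
        refine ⟨a, ?_⟩
        rw [Function.comp_apply, hσv, hA1, hB1, neg_neg] at ha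
        rw [Units.val_mul]
        exact ha
      obtain ⟨a, b, hab⟩ := id_comm_s9 hw hid (hjs.mul_left (Commute.refl s))
      have hsq : j * s * (j * s) = 1 := by
        rw [mul_assoc, ← mul_assoc s, ← hjs.eq, mul_assoc, hssq, mul_one, hjj]
      have h1 : tm w ((0, b + b) : Pt) = ((a : F) * (a : F) * ch w (cocy ((0, b) : Pt) (0, b)))⁻¹ • 1 := by
        have e := congrArg (Units.val : GL I₉ F → Matrix I₉ I₉ F) hsq
        rw [hab, Units.val_mul, scu_mul_coe, tu_coe, Matrix.smul_mul, Matrix.mul_smul, tm_mul hw, smul_smul,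
          smul_smul, Units.val_one] at e
        rw [show ((0, b + b) : Pt) = (0, b) + (0, b) from Prod.ext (add_zero _).symm rfl, ← e, smul_smul,
          inv_mul_cancel₀ (mul_ne_zero (mul_ne_zero a.ne_zero a.ne_zero) (ch_ne_zero hw _)), one_smul]
      have hb := (by decide : ∀ x : ZMod 3 × ZMod 3, x + x = 0 → x = 0) _ (congrArg Prod.snd (eq_zero_of_tm hw h1))
      subst hb
      have hja : j = scu a * s := by
        rw [show tu hw ((0, 0) : Pt) = 1 from tu_zero hw, mul_one] at hab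
        rw [← hab, mul_assoc, hssq, mul_one]
      exact hn (s9_le hG h3 h2 hC hbase ht1G (commute_of_scu a (hja ▸ hjt)))
    · -- as `t9`
      have hid : Acts w ((j * t9 F : GL I₉ F) : Matrix I₉ I₉ F) id := fun v => by
        obtain ⟨a, ha⟩ := (hσ.mul (acts_t9 (w := w))) v
        refine ⟨a, ?_⟩
        rw [Function.comp_apply, hσv, hA1, hB1, Prod.fst_neg, Prod.snd_neg, neg_neg, neg_neg] at ha
        rw [Units.val_mul]
        exact ha
      obtain ⟨a, b, hab⟩ := id_comm_s9 hw hid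
        (hjs.mul_left ((Commute.refl s).mul_left s9_comm_s9'.symm))
      refine ⟨b, commute_of_scu a ?_⟩
      rw [← mul_assoc, ← hab, mul_assoc, t9_sq, mul_one]
      exact hjt

include hG h3 h2 hC hbase in
/-- A conjugate of `t9` outside the normaliser commutes with `t9`. -/
theorem comm_t9 {h : GL I₉ F} (hh : h ∈ G) (hn : h * t9 F * h⁻¹ ∉ nrm w) :
    Commute (h * t9 F * h⁻¹) (t9 F) := by
  set t1 := h * t9 F * h⁻¹ with ht1
  obtain ⟨b, hb⟩ := comm_translate hG h3 h2 hC hbase hh hn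
  have hn' : swu F * h * t9 F * (swu F * h)⁻¹ ∉ nrm w := by
    intro hc
    apply hn
    rw [show swu F * h * t9 F * (swu F * h)⁻¹ = swu F * t1 * (swu F)⁻¹ by rw [ht1]; group] at hc
    exact (Subgroup.mul_mem_cancel_left _ swu_nrm).1 ((Subgroup.mul_mem_cancel_right _
      ((nrm w).inv_mem swu_nrm)).1 hc)
  obtain ⟨b', hb'⟩ := comm_translate hG h3 h2 hC hbase (G.mul_mem (swu_mem hG) hh) hn'
  have hb2 : Commute t1 (tu hw ((b', 0) : Pt) * t9 F) := by
    have := hb'.map (MulAut.conj (swu F)).toMonoidHom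
    simp only [MulEquiv.coe_toMonoidHom, MulAut.conj_apply] at this
    have hsi : (swu F)⁻¹ = swu F := inv_eq_of_mul_eq_one_right swu_sq
    have e1 : swu F * (swu F * h * t9 F * (swu F * h)⁻¹) * (swu F)⁻¹ = t1 := by
      rw [ht1, _root_.mul_inv_rev, hsi]
      calc swu F * (swu F * h * t9 F * (h⁻¹ * swu F)) * swu F
          = (swu F * swu F) * (h * t9 F * h⁻¹) * (swu F * swu F) := by group
        _ = _ := by rw [swu_sq, one_mul, mul_one]
    have e2 : swu F * (tu hw ((0, b') : Pt) * t9 F) * (swu F)⁻¹ = tu hw ((b', 0) : Pt) * t9 F := by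
      rw [show swu F * (tu hw ((0, b') : Pt) * t9 F) * (swu F)⁻¹ =
        swu F * tu hw ((0, b') : Pt) * (swu F)⁻¹ * (swu F * t9 F * (swu F)⁻¹) by group, swu_tu, swu_t9]
      rfl
    rwa [e1, e2] at this
  by_cases h0 : b = 0
  · subst h0
    rwa [show ((0, 0) : Pt) = 0 from rfl, tu_zero, one_mul] at hb
  exfalso
  refine hn (hC ((-b', b) : Pt) (fun e => h0 (congrArg Prod.snd e)) _
    (G.mul_mem (G.mul_mem hh (t9_mem hG h3)) (G.inv_mem hh)) ⟨1, ?_⟩)
  obtain ⟨z, hz⟩ : ∃ z : Fˣ, tu hw ((0, b) : Pt) * t9 F * (tu hw ((b', 0) : Pt) * t9 F) =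
      scu z * tu hw ((-b', b) : Pt) := by
    refine eq_scu_mul (c := ch w (cocy ((0, b) : Pt) (-(b', 0)))) ?_
    rw [Units.val_mul, Units.val_mul, Units.val_mul, tu_coe, tu_coe, tu_coe, Matrix.mul_assoc,
      ← Matrix.mul_assoc (t9 F : Matrix I₉ I₉ F), t9_tm, Matrix.mul_assoc, ← Units.val_mul, t9_sq, Units.val_one,
      Matrix.mul_one, tm_mul hw]
    congr 2
    simp
  have := commute_of_scu z (hz ▸ hb.mul_right hb2)
  rw [one_smul]
  exact congrArg (Units.val : GL I₉ F → Matrix I₉ I₉ F) this.eq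

theorem conj_translate (hw : IsPrimitiveRoot w 3) (a : Pt) :
    ∃ z : Fˣ, tu hw a * t9 F * (tu hw a)⁻¹ * t9 F = scu z * tu hw (a + a) := by
  refine eq_scu_mul (c := ch w (cocy a a) * ch w (cocy a a)) ?_
  rw [Units.val_mul, Units.val_mul, Units.val_mul, tu_coe, tu_coe,
    show (((tu hw a)⁻¹ : GL I₉ F) : Matrix I₉ I₉ F) = ch w (cocy a a) • tm w (-a) from rfl,
    Matrix.mul_smul, Matrix.smul_mul, Matrix.mul_assoc (tm w a), t9_tm, neg_neg, Matrix.mul_assoc, Matrix.mul_assoc,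
    ← Units.val_mul, t9_sq, Units.val_one, Matrix.mul_one, tm_mul hw, smul_smul]

theorem scu_nrm (c : Fˣ) : scu c ∈ nrm w := ⟨id, by rw [scu_coe]; exact acts_scalar _⟩

include hG h3 hC in
/-- Some conjugate of `t9` lies outside the normaliser, unless all normalise. -/
theorem le_of_all (hall : ∀ h ∈ G, h * t9 F * h⁻¹ ∈ nrm w) : G ≤ nrm w := by
  intro h hh
  have htu : ∀ v, h * tu hw v * h⁻¹ ∈ nrm w := by
    intro v
    obtain ⟨z, hz⟩ := conj_translate hw (-v)
    rw [(by decide : ∀ x : Pt, -x + -x = x) v] at hz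
    have h1 : (h * tu hw (-v)) * t9 F * (h * tu hw (-v))⁻¹ * (h * t9 F * h⁻¹) ∈ nrm w :=
      (nrm w).mul_mem (hall _ (G.mul_mem hh (hG.tu_mem _))) (hall _ hh)
    rw [show (h * tu hw (-v)) * t9 F * (h * tu hw (-v))⁻¹ * (h * t9 F * h⁻¹) =
      h * (tu hw (-v) * t9 F * (tu hw (-v))⁻¹ * t9 F) * h⁻¹ by group, hz, ← mul_assoc h,
      ← (scu_comm z h).eq, mul_assoc (scu z), mul_assoc (scu z)] at h1
    exact (Subgroup.mul_mem_cancel_left _ (scu_nrm z)).1 h1
  set R : Subgroup (GL I₉ F) := (rstd hw).map (MulAut.conj h).toMonoidHom with hR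
  have hR3 : IsPGroup 3 R := by
    refine IsPGroup.map (fun g => ⟨1, Subtype.ext ?_⟩) _
    obtain ⟨a, v, hv⟩ := mem_rstd.1 g.2
    refine Units.ext ?_
    rw [SubmonoidClass.coe_pow, OneMemClass.coe_one, pow_one, Units.val_pow_eq_pow_val, hv, smul_pow,
      ch_pow_three hw, one_smul, pow_succ, pow_two, tm_cube hw, Units.val_one]
  have hRn : R ≤ nrm w := by
    rintro _ ⟨g, hg, rfl⟩
    obtain ⟨a, v, hv⟩ := mem_rstd.1 hg
    obtain ⟨z, rfl⟩ := eq_scu_mul (x := g) (y := tu hw v) (c := ch w a) (by rw [tu_coe]; exact hv)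
    show h * (scu z * tu hw v) * h⁻¹ ∈ nrm w
    rw [← mul_assoc h, ← (scu_comm z h).eq, mul_assoc (scu z), mul_assoc (scu z)]
    exact (nrm w).mul_mem (scu_nrm z) (htu v)
  choose σ hσ using fun g : R => hRn g.2
  letI : MulAction R Pt :=
    { smul := fun g v => σ g v
      one_smul := fun v => acts_unique hw (g := ((1 : R) : GL I₉ F)) (hσ 1) (τ := id)
        (by rw [OneMemClass.coe_one]; simpa using acts_scalar (w := w) (1 : F)) v
      mul_smul := fun g k v => acts_unique hw (g := ((g * k : R) : GL I₉ F)) (hσ _) (τ := σ g ∘ σ k)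
        (by rw [Subgroup.coe_mul, Units.val_mul]; exact (hσ g).mul (hσ k)) v }
  haveI : Fact (Nat.Prime 3) := ⟨by norm_num⟩
  obtain ⟨b, hb, hb0⟩ := hR3.exists_fixed_point_of_prime_dvd_card_of_fixed_point Pt
    (by rw [Nat.card_eq_fintype_card]; decide) (a := 0) (fun g => by
      show σ g 0 = 0
      have := (hσ g).map_add hw 0 0; simpa using this)
  set y := h⁻¹ * tu hw b * h with hy
  have hyid : Acts w (y : Matrix I₉ I₉ F) id := by
    intro v
    let g : R := ⟨h * tu hw v * h⁻¹, tu hw v, mem_rstd.2 ⟨0, v, by rw [ch_zero, one_smul, tu_coe]⟩, rfl⟩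
    obtain ⟨c, hc⟩ := hσ g b
    rw [show σ g b = b from hb g] at hc
    have hc0 : c ≠ 0 := coef_ne hw hc
    obtain ⟨z, hz⟩ := eq_scu_mul (x := (g : GL I₉ F) * tu hw b) (y := tu hw b * g) (c := c)
      (by rw [Units.val_mul, Units.val_mul, tu_coe]; exact hc)
    refine ⟨((z⁻¹ : Fˣ) : F), ?_⟩
    have e : tu hw v * y = scu z * (y * tu hw v) := by
      calc tu hw v * y = h⁻¹ * ((g : GL I₉ F) * tu hw b) * h := by simp only [hy, g]; group
        _ = h⁻¹ * (scu z * (tu hw b * g)) * h := by rw [hz]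
        _ = _ := by
          rw [← mul_assoc h⁻¹, ← (scu_comm z h⁻¹).eq, mul_assoc (scu z), mul_assoc (scu z)]
          congr 1
          simp only [hy, g]
          group
    have e' : y * tu hw v = scu z⁻¹ * (tu hw v * y) := by
      rw [e, ← mul_assoc, ← map_mul, inv_mul_cancel, map_one, one_mul]
    have e'' := congrArg (Units.val : GL I₉ F → Matrix I₉ I₉ F) e'
    rwa [scu_mul_coe, Units.val_mul, Units.val_mul, tu_coe] at e''
  obtain ⟨c, u, hu⟩ := acts_id hw hyid
  obtain ⟨z, hz⟩ := eq_scu_mul (x := y) (y := tu hw u) (by rw [tu_coe]; exact hu)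
  have hrel : h * tu hw u = scu z⁻¹ * (tu hw b * h) := by
    have : tu hw b * h = h * y := by rw [hy]; group
    rw [this, hz, ← mul_assoc h, ← (scu_comm z h).eq, mul_assoc, ← mul_assoc, ← map_mul, inv_mul_cancel, map_one,
      one_mul]
  have hrel' := congrArg (Units.val : GL I₉ F → Matrix I₉ I₉ F) hrel
  rw [Units.val_mul, scu_mul_coe, Units.val_mul, tu_coe, tu_coe] at hrel'
  refine nrm_of_rel hG h3 hC hh (fun hu0 => ?_) (fun e => hb0 e.symm) hrel'
  subst hu0
  rw [tm_zero, Matrix.mul_one] at hrel'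
  have h' := congrArg (fun X => X * ((h⁻¹ : GL I₉ F) : Matrix I₉ I₉ F)) hrel'
  simp only [Units.mul_inv, Matrix.smul_mul, Matrix.mul_assoc, Matrix.mul_one] at h'
  refine hb0 (eq_zero_of_tm hw (c := ((z : Fˣ) : F)) ?_).symm
  rw [h', smul_smul, show (z : F) * ((z⁻¹ : Fˣ) : F) = 1 from z.mul_inv, one_smul]

include hG h3 h2 hC hbase in
theorem le_nrm : G ≤ nrm w := by
  by_contra hle
  refine hle (le_of_all hG h3 hC fun h hh => ?_)
  by_contra hn
  have h1 := comm_t9 hG h3 h2 hC hbase hh hn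
  set a := tu hw px with ha
  have haN : a ∈ nrm w := ⟨id, acts_tm hw _⟩
  have hn' : a⁻¹ * h * t9 F * (a⁻¹ * h)⁻¹ ∉ nrm w := by
    intro hc
    apply hn
    rw [show a⁻¹ * h * t9 F * (a⁻¹ * h)⁻¹ = a⁻¹ * (h * t9 F * h⁻¹) * a by group] at hc
    exact (Subgroup.mul_mem_cancel_left _ ((nrm w).inv_mem haN)).1 ((Subgroup.mul_mem_cancel_right _ haN).1 hc)
  have h2' := (comm_t9 hG h3 h2 hC hbase (G.mul_mem (G.inv_mem (hG.tu_mem _)) hh) hn').map
    (MulAut.conj a).toMonoidHom
  simp only [MulEquiv.coe_toMonoidHom, MulAut.conj_apply] at h2'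
  rw [show a * (a⁻¹ * h * t9 F * (a⁻¹ * h)⁻¹) * a⁻¹ = h * t9 F * h⁻¹ by group] at h2'
  obtain ⟨z, hz⟩ := conj_translate hw px
  have h3' := commute_of_scu z (hz ▸ h2'.mul_right h1)
  refine hn (hC (px + px) (by decide) _ (G.mul_mem (G.mul_mem hh (t9_mem hG h3)) (G.inv_mem hh)) ⟨1, ?_⟩)
  rw [one_smul]
  exact congrArg (Units.val : GL I₉ F → Matrix I₉ I₉ F) h3'.eq

end Hyp

end CC

/-- When the centralisers of all lifts normalise, the whole group normalises. -/
theorem caseC [Fintype F] {p : ℕ} [Fact p.Prime] [CharP F p] (hp : Fintype.card F = p) (h7 : 7 ≤ p)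
    (hG : Over hw G) (h3 : (3 : F) ≠ 0) (hbase : BaseHyp hw h3)
    (hC : ∀ v : Pt, v ≠ 0 → ∀ g ∈ G,
      (∃ c : F, (g : Matrix I₉ I₉ F) * tm w v = c • (tm w v * g)) → g ∈ nrm w) :
    G ≤ nrm w := by
  have h2 : (2 : F) ≠ 0 := fun hh => by
    have := Nat.le_of_dvd (by norm_num) ((CharP.cast_eq_zero_iff F p 2).1 (by exact_mod_cast hh))
    omega
  exact CC.le_nrm hG h3 h2 hC hbase

end Cfsg.Agent.Lib.ExtraNine17
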