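import Cfsg.Agent.Lib.ExtraNine17.CaseB

/-!
Involutions negating one or both factors, and general facts on elements acting on the points.
-/

set_option autoImplicit false
set_option linter.unusedSectionVars false

namespace Cfsg.Agent.Lib.ExtraNine17.CC

open Matrix
open scoped Kronecker

variable {F : Type*} [Field F] {w : F} {hw : IsPrimitiveRoot w 3} {G : Subgroup (GL I₉ F)}

/-- The reversal of three variables. -/
def t3 (F : Type*) [Field F] : Matrix I₃ I₃ F := Matrix.of fun i j => if i = -j then 1 else 0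

theorem t3_mul_apply {ι : Type*} [Fintype ι] (M : Matrix I₃ ι F) (i : I₃) (j : ι) : (t3 F * M) i j = M (-i) j := by
  rw [Matrix.mul_apply, Finset.sum_eq_single (-i) ?_ (fun h => absurd (Finset.mem_univ _) h)]
  · rw [t3, Matrix.of_apply, if_pos (neg_neg i).symm, one_mul]
  · intro m _ hm
    rw [t3, Matrix.of_apply, if_neg (fun h => hm (by rw [h, neg_neg])), zero_mul]

theorem mul_t3_apply (M : Matrix I₃ I₃ F) (i j : I₃) : (M * t3 F) i j = M i (-j) := by
  rw [Matrix.mul_apply, Finset.sum_eq_single (-j) ?_ (fun h => absurd (Finset.mem_univ _) h)]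
  · rw [t3, Matrix.of_apply, if_pos rfl, mul_one]
  · intro m _ hm
    rw [t3, Matrix.of_apply, if_neg hm, mul_zero]

theorem t3_sq : t3 F * t3 F = 1 := by
  ext i j
  rw [t3_mul_apply, t3, Matrix.of_apply, Matrix.one_apply]
  simp

/-- The reversal as a unit. -/
def t3u (F : Type*) [Field F] : GL I₃ F := ⟨t3 F, t3 F, t3_sq, t3_sq⟩

theorem t3u_coe : (t3u F : Matrix I₃ I₃ F) = t3 F := rfl

theorem t3_em (e : ZMod 3 × ZMod 3) : t3 F * em w e = em w (-e) * t3 F := by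
  ext i j
  rw [t3_mul_apply, mul_t3_apply, em_apply, em_apply, Prod.fst_neg, Prod.snd_neg, neg_mul_neg,
    show -j + -e.1 = -(j + e.1) by ring]
  simp only [neg_eq_iff_eq_neg]

theorem rel3_t3 : Rel3 w (t3 F) fun e => -e := fun e => ⟨1, by rw [one_smul, t3_em]⟩

theorem trace_t3 : (t3 F).trace = 1 := by
  rw [Matrix.trace, show (Finset.univ : Finset I₃) = {0, 1, 2} by decide, Finset.sum_insert (by decide),
    Finset.sum_insert (by decide), Finset.sum_singleton]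
  simp (config := { decide := true }) [t3]

/-- The element negating the first factor. -/
def s9 (F : Type*) [Field F] : GL I₉ F := blk fun _ => t3u F

theorem s9_coe : (s9 F : Matrix I₉ I₉ F) = t3 F ⊗ₖ (1 : Matrix I₃ I₃ F) := by
  rw [s9, blk_const_coe, t3u_coe]

theorem one_kron_mul (A B : Matrix I₃ I₃ F) :
    ((1 : Matrix I₃ I₃ F) ⊗ₖ A) * ((1 : Matrix I₃ I₃ F) ⊗ₖ B) = (1 : Matrix I₃ I₃ F) ⊗ₖ (A * B) := by
  rw [← mul_kronecker_mul, Matrix.one_mul]

/-- The element negating the second factor. -/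
def s9' (F : Type*) [Field F] : GL I₉ F :=
  ⟨(1 : Matrix I₃ I₃ F) ⊗ₖ t3 F, (1 : Matrix I₃ I₃ F) ⊗ₖ t3 F,
    by rw [one_kron_mul, t3_sq, one_kronecker_one], by rw [one_kron_mul, t3_sq, one_kronecker_one]⟩

theorem s9'_coe : (s9' F : Matrix I₉ I₉ F) = (1 : Matrix I₃ I₃ F) ⊗ₖ t3 F := rfl

/-- The element negating both factors. -/
def t9 (F : Type*) [Field F] : GL I₉ F := s9 F * s9' F

theorem t9_coe : (t9 F : Matrix I₉ I₉ F) = t3 F ⊗ₖ t3 F := by
  rw [t9, Units.val_mul, s9_coe, s9'_coe, ← mul_kronecker_mul, Matrix.mul_one, Matrix.one_mul]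

theorem s9_sq : s9 F * s9 F = 1 := Units.ext (by
  rw [Units.val_mul, s9_coe, ← mul_kronecker_mul, t3_sq, Matrix.one_mul, one_kronecker_one]; rfl)

theorem s9'_sq : s9' F * s9' F = 1 := Units.ext (by
  rw [Units.val_mul, s9'_coe, one_kron_mul, t3_sq, one_kronecker_one]; rfl)

theorem s9_comm_s9' : Commute (s9 F) (s9' F) := Units.ext (by
  rw [Units.val_mul, Units.val_mul, s9_coe, s9'_coe, ← mul_kronecker_mul, ← mul_kronecker_mul,
    Matrix.mul_one, Matrix.one_mul])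

theorem t9_sq : t9 F * t9 F = 1 := Units.ext (by
  rw [Units.val_mul, t9_coe, ← mul_kronecker_mul, t3_sq, one_kronecker_one]; rfl)

theorem trace_s9 : (s9 F : Matrix I₉ I₉ F).trace = 3 := by
  rw [s9_coe, Matrix.trace_kronecker, trace_t3, Matrix.trace_one, one_mul, ZMod.card]
  norm_num

theorem trace_t9 : (t9 F : Matrix I₉ I₉ F).trace = 1 := by
  rw [t9_coe, Matrix.trace_kronecker, trace_t3, one_mul]

theorem s9_tm (v : Pt) : (s9 F : Matrix I₉ I₉ F) * tm w v = tm w (-v.1, v.2) * s9 F := by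
  rw [s9_coe, tm, tm, ← mul_kronecker_mul, ← mul_kronecker_mul, t3_em, Matrix.one_mul, Matrix.mul_one]

theorem s9'_tm (v : Pt) : (s9' F : Matrix I₉ I₉ F) * tm w v = tm w (v.1, -v.2) * s9' F := by
  rw [s9'_coe, tm, tm, ← mul_kronecker_mul, ← mul_kronecker_mul, t3_em, Matrix.one_mul, Matrix.mul_one]

theorem t9_tm (v : Pt) : (t9 F : Matrix I₉ I₉ F) * tm w v = tm w (-v) * t9 F := by
  rw [t9_coe, tm, tm, ← mul_kronecker_mul, ← mul_kronecker_mul, t3_em, t3_em]
  rfl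

theorem acts_s9 : Acts w (s9 F : Matrix I₉ I₉ F) fun v => (-v.1, v.2) :=
  fun v => ⟨1, by rw [one_smul, s9_tm]⟩

theorem acts_s9' : Acts w (s9' F : Matrix I₉ I₉ F) fun v => (v.1, -v.2) :=
  fun v => ⟨1, by rw [one_smul, s9'_tm]⟩

theorem acts_t9 : Acts w (t9 F : Matrix I₉ I₉ F) fun v => -v :=
  fun v => ⟨1, by rw [one_smul, t9_tm]⟩

theorem tm_cube (hw : IsPrimitiveRoot w 3) (v : Pt) : tm w v * tm w v * tm w v = 1 := by
  rw [tm, ← mul_kronecker_mul, ← mul_kronecker_mul, em_cube hw, em_cube hw, one_kronecker_one]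

theorem tu_cube (hw : IsPrimitiveRoot w 3) (v : Pt) : tu hw v ^ 3 = 1 := Units.ext (by
  rw [pow_succ, pow_two, Units.val_mul, Units.val_mul, tu_coe, tm_cube hw]; rfl)

theorem coef_ne (hw : IsPrimitiveRoot w 3) {g : GL I₉ F} {v : Pt} {c : F} {X : Matrix I₉ I₉ F}
    (h : (g : Matrix I₉ I₉ F) * tm w v = c • X) : c ≠ 0 := by
  intro h0
  rw [h0, zero_smul, ← tu_coe hw, ← Units.val_mul] at h
  exact (g * tu hw v).ne_zero h

/-- The coefficient in a relation is a cube root of one. -/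
theorem tm_root (hw : IsPrimitiveRoot w 3) {g : GL I₉ F} {v u : Pt} {c : F}
    (h : (g : Matrix I₉ I₉ F) * tm w v = c • (tm w u * g)) : ∃ a, c = ch w a := by
  have h1 : (g : Matrix I₉ I₉ F) * (tm w v * tm w v * tm w v) = (c * c * c) • (tm w u * tm w u * tm w u * g) := by
    simp only [Matrix.mul_assoc]
    rw [← Matrix.mul_assoc (g : Matrix I₉ I₉ F), h, Matrix.smul_mul, Matrix.mul_assoc,
      ← Matrix.mul_assoc (g : Matrix I₉ I₉ F), h, Matrix.smul_mul, Matrix.mul_assoc, h]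
    simp only [Matrix.mul_smul, smul_smul, Matrix.mul_assoc, mul_assoc]
  rw [tm_cube hw, tm_cube hw, Matrix.mul_one, Matrix.one_mul] at h1
  have h2 : (c * c * c) • (g : Matrix I₉ I₉ F) = (1 : F) • (g : Matrix I₉ I₉ F) := by rw [← h1, one_smul]
  exact exists_ch hw (by rw [pow_succ, pow_two]; exact smul_left_injective F g.ne_zero h2)

theorem rel_conj {g : GL I₉ F} {X Y : Matrix I₉ I₉ F} {c : F}
    (h : (g : Matrix I₉ I₉ F) * X = c • (Y * g)) :
    (g : Matrix I₉ I₉ F) * X * ((g⁻¹ : GL I₉ F) : Matrix I₉ I₉ F) = c • Y := by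
  rw [h, Matrix.smul_mul, Matrix.mul_assoc, Units.mul_inv, Matrix.mul_one]

/-- The map induced on the points is unique. -/
theorem acts_unique (hw : IsPrimitiveRoot w 3) {g : GL I₉ F} {σ τ : Pt → Pt}
    (h1 : Acts w (g : Matrix I₉ I₉ F) σ) (h2 : Acts w (g : Matrix I₉ I₉ F) τ) (v : Pt) : σ v = τ v := by
  obtain ⟨a, ha⟩ := h1 v
  obtain ⟨b, hb⟩ := h2 v
  have e := (rel_conj ha).symm.trans (rel_conj hb)
  refine tm_inj hw (c := a⁻¹ * b) ?_
  rw [← smul_smul, ← e, smul_smul, inv_mul_cancel₀ (coef_ne hw ha), one_smul]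

/-- The commutator form. -/
def sf (v u : Pt) : ZMod 3 := cocy v u - cocy u v

theorem tm_swap (hw : IsPrimitiveRoot w 3) (v u : Pt) :
    tm w v * tm w u = ch w (sf v u) • (tm w u * tm w v) := by
  rw [tm_mul hw, tm_mul hw, smul_smul, ← ch_add hw, sf, sub_add_cancel, add_comm u v]

/-- The commutator form is preserved. -/
theorem acts_symp (hw : IsPrimitiveRoot w 3) {g : GL I₉ F} {σ : Pt → Pt}
    (hg : Acts w (g : Matrix I₉ I₉ F) σ) (v u : Pt) : sf (σ v) (σ u) = sf v u := by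
  obtain ⟨a, ha⟩ := hg v
  obtain ⟨b, hb⟩ := hg u
  have key : ∀ (p q : Pt) (x y : F), (g : Matrix I₉ I₉ F) * tm w p = x • (tm w (σ p) * g) →
      (g : Matrix I₉ I₉ F) * tm w q = y • (tm w (σ q) * g) →
      (g : Matrix I₉ I₉ F) * (tm w p * tm w q) = (x * y) • (tm w (σ p) * tm w (σ q) * g) := by
    intro p q x y hp hq
    rw [← Matrix.mul_assoc, hp, Matrix.smul_mul, Matrix.mul_assoc, hq, Matrix.mul_smul, smul_smul,
      ← Matrix.mul_assoc]
  have h1 := key v u a b ha hb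
  have h2 := key u v b a hb ha
  rw [tm_swap hw v u, Matrix.mul_smul, h2, tm_swap hw (σ v), Matrix.smul_mul, smul_smul, smul_smul] at h1
  have hne : tm w (σ u) * tm w (σ v) * (g : Matrix I₉ I₉ F) ≠ 0 := by
    rw [← tu_coe hw, ← tu_coe hw, ← Units.val_mul, ← Units.val_mul]
    exact Units.ne_zero _
  have h3 := smul_left_injective F hne h1
  exact (ch_inj hw (mul_right_cancel₀ (mul_ne_zero (coef_ne hw ha) (coef_ne hw hb))
    (by linear_combination h3))).symm

theorem blk_injective : Function.Injective (blk : (ZMod 3 → GL I₃ F) → GL I₉ F) := by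
  intro f f' h
  funext k
  refine Units.ext ?_
  have := congrArg (Units.val : GL I₉ F → Matrix I₉ I₉ F) h
  rw [blk_coe, blk_coe] at this
  exact congrFun (Matrix.blockDiagonal_injective this) k

theorem kron_one_inj {A B : Matrix I₃ I₃ F} (h : A ⊗ₖ (1 : Matrix I₃ I₃ F) = B ⊗ₖ (1 : Matrix I₃ I₃ F)) :
    A = B := by
  rw [kron_one_eq, kron_one_eq] at h
  exact congrFun (Matrix.blockDiagonal_injective h) 0

/-- Commuting with the lifts of the second factor gives a constant block. -/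
theorem exists_bc (hw : IsPrimitiveRoot w 3) {g : GL I₉ F}
    (h1 : (g : Matrix I₉ I₉ F) * tm w px = tm w px * g) (h2 : (g : Matrix I₉ I₉ F) * tm w py = tm w py * g) :
    ∃ M : GL I₃ F, g = blk fun _ => M := by
  obtain ⟨f, rfl⟩ := exists_blk hw h1
  have h3 : tu hw py * blk f = blk f * tu hw py := Units.ext (by
    rw [Units.val_mul, Units.val_mul, tu_coe, h2])
  rw [blk_shift hw] at h3
  have h4 := blk_injective (mul_right_cancel h3)
  refine ⟨f 0, congrArg blk (funext fun k => ?_)⟩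
  have e : ∀ k, f (k - 1) = f k := fun k => congrFun h4 k
  rcases (by decide : ∀ m : ZMod 3, m = 0 ∨ m = 1 ∨ m = 2) k with rfl | rfl | rfl
  · rfl
  · have := e 1; rw [sub_self] at this; exact this.symm
  · have := e 0; rw [show (0 : ZMod 3) - 1 = 2 by decide] at this; exact this

/-- The map of the plane induced by a constant block. -/
theorem rel3_of_bc (hw : IsPrimitiveRoot w 3) {M : GL I₃ F} {σ : Pt → Pt}
    (h : Acts w ((blk fun _ => M : GL I₉ F) : Matrix I₉ I₉ F) σ) (h0 : ∀ e, (σ (e, 0)).2 = 0) :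
    Rel3 w (M : Matrix I₃ I₃ F) fun e => (σ (e, 0)).1 := fun e => by
  obtain ⟨c, hc⟩ := h (e, 0)
  refine ⟨c, kron_one_inj ?_⟩
  rw [blk_const_coe, tm, tm, h0, em_zero, ← mul_kronecker_mul, ← mul_kronecker_mul, Matrix.one_mul] at hc
  rw [hc, Matrix.smul_kronecker]

theorem comm_div {g U : GL I₉ F} {P : Matrix I₉ I₉ F} {c : F} (hc : c ≠ 0)
    (h1 : (g : Matrix I₉ I₉ F) * P = c • (P * g)) (h2 : (U : Matrix I₉ I₉ F) * P = c • (P * U)) :
    ((U⁻¹ * g : GL I₉ F) : Matrix I₉ I₉ F) * P = P * ((U⁻¹ * g : GL I₉ F) : Matrix I₉ I₉ F) := by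
  have h3 : ((U⁻¹ : GL I₉ F) : Matrix I₉ I₉ F) * P = c⁻¹ • (P * ((U⁻¹ : GL I₉ F) : Matrix I₉ I₉ F)) := by
    rw [eq_inv_smul_iff₀ hc]
    have := congrArg (fun X => ((U⁻¹ : GL I₉ F) : Matrix I₉ I₉ F) * X * ((U⁻¹ : GL I₉ F) : Matrix I₉ I₉ F)) h2
    simp only [Matrix.mul_smul, Matrix.smul_mul, ← Matrix.mul_assoc, Units.inv_mul, Matrix.one_mul] at this
    simp only [Matrix.mul_assoc, Units.mul_inv, Matrix.mul_one] at this
    exact this.symm
  rw [Units.val_mul, Matrix.mul_assoc, h1, Matrix.mul_smul, ← Matrix.mul_assoc, h3, Matrix.smul_mul, smul_smul,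
    mul_inv_cancel₀ hc, one_smul, Matrix.mul_assoc]

/-- An element fixing every point is a multiple of a lift. -/
theorem acts_id (hw : IsPrimitiveRoot w 3) {g : GL I₉ F} (hg : Acts w (g : Matrix I₉ I₉ F) id) :
    ∃ (c : F) (u : Pt), (g : Matrix I₉ I₉ F) = c • tm w u := by
  obtain ⟨x, hx⟩ := hg px
  obtain ⟨y, hy⟩ := hg py
  obtain ⟨a, rfl⟩ := tm_root hw hx
  obtain ⟨b, rfl⟩ := tm_root hw hy
  simp only [id] at hx hy
  set u : Pt := (0, (-a, b)) with hu
  have e1 : sf u px = a := by simp [hu, sf, cocy, px]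
  have e2 : sf u py = b := by simp [hu, sf, cocy, py]
  have c1 := comm_div (U := tu hw u) (ch_ne_zero hw a) hx (by rw [tu_coe, tm_swap hw u px, e1])
  have c2 := comm_div (U := tu hw u) (ch_ne_zero hw b) hy (by rw [tu_coe, tm_swap hw u py, e2])
  obtain ⟨M, hM⟩ := exists_bc hw c1 c2
  have hinv : Acts w (((tu hw u)⁻¹ : GL I₉ F) : Matrix I₉ I₉ F) id := fun v => by
    obtain ⟨c, hc⟩ := (acts_scalar (w := w) (ch w (cocy u u))).mul (acts_tm hw (-u)) v
    refine ⟨c, ?_⟩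
    rw [show (((tu hw u)⁻¹ : GL I₉ F) : Matrix I₉ I₉ F) = ch w (cocy u u) • tm w (-u) from rfl]
    simpa [Matrix.smul_mul] using hc
  have hA : Acts w ((blk fun _ => M : GL I₉ F) : Matrix I₉ I₉ F) id := by
    rw [← hM, Units.val_mul]
    exact hinv.mul hg
  obtain ⟨c, d, hcd⟩ := eq_sc_mul_eu hw (g := M) (rel3_of_bc hw hA fun _ => rfl)
  refine ⟨(c : F) * ch w (cocy u (d, 0)), u + (d, 0), ?_⟩
  have hg' : g = tu hw u * blk fun _ => M := by rw [← hM, mul_inv_cancel_left]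
  rw [hg', Units.val_mul, tu_coe, blk_const_coe, hcd, Units.val_mul, sc_coe, eu_coe, Matrix.smul_mul, Matrix.one_mul,
    Matrix.smul_kronecker, Matrix.mul_smul,
    show em w d ⊗ₖ (1 : Matrix I₃ I₃ F) = tm w (d, 0) by rw [tm, em_zero], tm_mul hw, smul_smul]

/-- An additive map of the plane preserving the form is linear of determinant one. -/
theorem exists_app {τ : ZMod 3 × ZMod 3 → ZMod 3 × ZMod 3} (hadd : ∀ e f, τ (e + f) = τ e + τ f)
    (hform : ∀ e f, (τ e).2 * (τ f).1 - (τ f).2 * (τ e).1 = e.2 * f.1 - f.2 * e.1) :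
    ∃ M : M2, DetOne M ∧ ∀ e, τ e = app M e := by
  refine ⟨(((τ (1, 0)).1, (τ (0, 1)).1), ((τ (1, 0)).2, (τ (0, 1)).2)), ?_, fun e => ?_⟩
  · show (τ (1, 0)).1 * (τ (0, 1)).2 - (τ (0, 1)).1 * (τ (1, 0)).2 = 1
    have := hform (0, 1) (1, 0)
    simp only [one_mul, mul_zero, sub_zero, mul_one, zero_mul] at this
    linear_combination this
  · have h0 : τ 0 = 0 := by have := hadd 0 0; simpa using this
    have hn : ∀ (n : ℕ) (f : ZMod 3 × ZMod 3), τ (n • f) = n • τ f := by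
      intro n f
      induction n with
      | zero => simp [h0]
      | succ n ih => rw [succ_nsmul, succ_nsmul, hadd, ih]
    have he : e = e.1.val • ((1, 0) : ZMod 3 × ZMod 3) + e.2.val • ((0, 1) : ZMod 3 × ZMod 3) := by
      refine Prod.ext ?_ ?_ <;> simp
    conv_lhs => rw [he, hadd, hn, hn]
    refine Prod.ext ?_ ?_ <;> simp [app, mul_comm]

/-- The exchange of the factors as a unit. -/
def swu (F : Type*) [Field F] : GL I₉ F :=
  ⟨swapM F, swapM F,
    by ext i j; rw [Matrix.mul_apply, Finset.sum_eq_single (j.2, j.1) ?_ (fun h => absurd (Finset.mem_univ _) h)]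
       · simp [swapM, Matrix.one_apply]
       · intro m _ hm; rw [swapM, Matrix.of_apply (j := j), if_neg hm, mul_zero],
    by ext i j; rw [Matrix.mul_apply, Finset.sum_eq_single (j.2, j.1) ?_ (fun h => absurd (Finset.mem_univ _) h)]
       · simp [swapM, Matrix.one_apply]
       · intro m _ hm; rw [swapM, Matrix.of_apply (j := j), if_neg hm, mul_zero]⟩

theorem swu_coe : (swu F : Matrix I₉ I₉ F) = swapM F := rfl

theorem swu_sq : swu F * swu F = 1 := Units.ext (swu F).val_inv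

theorem swap_kron (A B : Matrix I₃ I₃ F) : swapM F * (A ⊗ₖ B) = (B ⊗ₖ A) * swapM F := by
  ext i j
  rw [Matrix.mul_apply, Matrix.mul_apply,
    Finset.sum_eq_single (i.2, i.1) ?_ (fun h => absurd (Finset.mem_univ _) h),
    Finset.sum_eq_single (j.2, j.1) ?_ (fun h => absurd (Finset.mem_univ _) h)]
  · simp only [swapM, Matrix.of_apply, kroneckerMap_apply, Prod.mk.eta, if_true, one_mul, mul_one]
    exact mul_comm _ _
  · intro m _ hm
    rw [swapM, Matrix.of_apply, if_neg hm, mul_zero]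
  · intro m _ hm
    rw [swapM, Matrix.of_apply, if_neg ?_, zero_mul]
    intro he
    exact hm (by rw [he])

theorem swu_conj {x y : GL I₉ F} {A B : Matrix I₃ I₃ F} (hx : (x : Matrix I₉ I₉ F) = A ⊗ₖ B)
    (hy : (y : Matrix I₉ I₉ F) = B ⊗ₖ A) : swu F * x * (swu F)⁻¹ = y := by
  rw [mul_inv_eq_iff_eq_mul]
  exact Units.ext (by rw [Units.val_mul, Units.val_mul, swu_coe, hx, hy, swap_kron])

theorem swu_s9 : swu F * s9 F * (swu F)⁻¹ = s9' F := swu_conj s9_coe s9'_coe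

theorem swu_t9 : swu F * t9 F * (swu F)⁻¹ = t9 F := swu_conj t9_coe t9_coe

theorem swu_s9' : swu F * s9' F * (swu F)⁻¹ = s9 F := swu_conj s9'_coe s9_coe

theorem swu_tu (hw : IsPrimitiveRoot w 3) (v : Pt) : swu F * tu hw v * (swu F)⁻¹ = tu hw v.swap :=
  swu_conj (tu_coe hw v) (tu_coe hw v.swap)

section Over

theorem swu_mem (hG : Over hw G) : swu F ∈ G := by
  obtain ⟨u, hu, he⟩ := hG.sw
  rwa [show swu F = u from Units.ext (by rw [swu_coe, he])]

theorem swu_nrm [Finite F] : swu F ∈ nrm w := ⟨Prod.swap, by rw [swu_coe]; exact acts_swap⟩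

theorem t3u_blocks (hG : Over hw G) (h3 : (3 : F) ≠ 0) : (fun _ => t3u F) ∈ blocks G := by
  set n : GL I₃ F := (h0u hw * h1u hw h3) ^ 3 with hn
  have hr : Rel3 w (h0u hw * h1u hw h3 : GL I₃ F).val (su ∘ sv) := by
    rw [Units.val_mul, h0u_coe, h1u_coe]
    exact (rel3_hom0 hw).mul (rel3_hom1 hw h3)
  have hn3 : Rel3 w (n : Matrix I₃ I₃ F) fun e => -e := by
    have e : ((su ∘ sv) ∘ (su ∘ sv)) ∘ (su ∘ sv) = fun e : ZMod 3 × ZMod 3 => -e := by
      funext e; revert e; decide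
    rw [← e, hn, pow_succ, pow_two, Units.val_mul (a := _ * _), Units.val_mul (a := h0u hw * h1u hw h3)]
    exact (hr.mul hr).mul hr
  have hid : Rel3 w ((n * t3u F : GL I₃ F) : Matrix I₃ I₃ F) id := by
    rw [show (id : ZMod 3 × ZMod 3 → ZMod 3 × ZMod 3) = (fun e => -e) ∘ fun e => -e by funext e; simp,
      Units.val_mul, t3u_coe]
    exact hn3.mul rel3_t3
  obtain ⟨c, d, hcd⟩ := eq_sc_mul_eu hw hid
  have hmem : (fun _ => n : ZMod 3 → GL I₃ F) ∈ blocks G :=
    (blocks G).pow_mem ((blocks G).mul_mem (blocks_h0 hG) (blocks_h1 hG h3)) 3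
  have := (blocks G).mul_mem ((blocks G).inv_mem hmem)
    ((blocks G).mul_mem (blocks_sc hG c) (blocks_em hG d))
  convert this using 1
  funext k
  show t3u F = n⁻¹ * (sc c * eu hw d)
  rw [← hcd, inv_mul_cancel_left]

theorem s9_mem (hG : Over hw G) (h3 : (3 : F) ≠ 0) : s9 F ∈ G := t3u_blocks hG h3

theorem s9'_mem (hG : Over hw G) (h3 : (3 : F) ≠ 0) : s9' F ∈ G := by
  rw [← swu_s9]
  exact G.mul_mem (G.mul_mem (swu_mem hG) (s9_mem hG h3)) (G.inv_mem (swu_mem hG))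

theorem t9_mem (hG : Over hw G) (h3 : (3 : F) ≠ 0) : t9 F ∈ G :=
  G.mul_mem (s9_mem hG h3) (s9'_mem hG h3)

variable [Finite F]

/-- An element of `G` moving the lift of a non-zero point to a multiple of another normalises. -/
theorem nrm_of_rel (hG : Over hw G) (h3 : (3 : F) ≠ 0)
    (hC : ∀ v : Pt, v ≠ 0 → ∀ g ∈ G,
      (∃ c : F, (g : Matrix I₉ I₉ F) * tm w v = c • (tm w v * g)) → g ∈ nrm w)
    {g : GL I₉ F} (hg : g ∈ G) {a b : Pt} (ha : a ≠ 0) (hb : b ≠ 0) {c : F}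
    (h : (g : Matrix I₉ I₉ F) * tm w a = c • (tm w b * g)) : g ∈ nrm w := by
  obtain ⟨n, hn, σ, hσ, hσa⟩ := exists_acts h3 hG ha
  obtain ⟨m, hm, τ, hτ, hτb⟩ := exists_acts h3 hG hb
  obtain ⟨d, hd⟩ := hσ ((0, 0), (0, 1))
  obtain ⟨e, he⟩ := hτ ((0, 0), (0, 1))
  rw [hσa] at hd
  rw [hτb] at he
  have he0 := coef_ne hw he
  have hk : ((m⁻¹ * (g * n) : GL I₉ F) : Matrix I₉ I₉ F) * tm w ((0, 0), (0, 1)) =
      (d * c * e⁻¹) • (tm w ((0, 0), (0, 1)) * ((m⁻¹ * (g * n) : GL I₉ F) : Matrix I₉ I₉ F)) := by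
    have hb' : tm w b = e⁻¹ • ((m : Matrix I₉ I₉ F) * tm w ((0, 0), (0, 1)) * ((m⁻¹ : GL I₉ F) : Matrix I₉ I₉ F)) := by
      rw [rel_conj he, smul_smul, inv_mul_cancel₀ he0, one_smul]
    rw [Units.val_mul, Units.val_mul, Matrix.mul_assoc, Matrix.mul_assoc (g : Matrix I₉ I₉ F), hd, Matrix.mul_smul,
      ← Matrix.mul_assoc (g : Matrix I₉ I₉ F), h, Matrix.smul_mul, smul_smul, Matrix.mul_smul, hb']
    simp only [Matrix.smul_mul, Matrix.mul_smul, smul_smul, ← Matrix.mul_assoc, Units.inv_mul, Matrix.one_mul]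
  have hmem := hC _ (by decide) _ (G.mul_mem (G.inv_mem hm) (G.mul_mem hg hn)) ⟨_, hk⟩
  have hn' : n ∈ nrm w := ⟨σ, hσ⟩
  have hm' : m ∈ nrm w := ⟨τ, hτ⟩
  exact (Subgroup.mul_mem_cancel_right _ hn').1 ((Subgroup.mul_mem_cancel_left _ ((nrm w).inv_mem hm')).1 hmem)

end Over

end Cfsg.Agent.Lib.ExtraNine17.CC
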