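import Cfsg.Agent.Lib.Coprime.Generation
import Mathlib.GroupTheory.Transfer

/-!
A group on which an elementary abelian group of order nine acts with all centralisers inside a given
subgroup, its Sylow subgroup at three being of order three and fixed.
-/

set_option autoImplicit false

namespace Cfsg.Agent.Lib.ExtraNine17.CC

open Subgroup

variable {Q : Type*} [Group Q] [Finite Q]

theorem le_of_order_three {K L : Subgroup Q} {s a b : Q}
    (hsK : s ∈ K) (hs3 : orderOf s = 3) (hsa : Commute s a) (hsb : Commute s b)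
    (hab : Commute a b) (ha : a ^ 3 = 1) (hb : b ^ 3 = 1) (hb1 : b ≠ 1) (hab' : a ∉ zpowers b)
    (hA : closure {a, b} ≤ normalizer (K : Set Q)) (hKA : K ⊓ closure {a, b} = ⊥)
    (hfix : ∀ x ∈ closure ({a, b} : Set Q), x ≠ 1 → K ⊓ centralizer {x} ≤ L)
    (hN : ∀ k ∈ K, k * s * k⁻¹ ∈ zpowers s → Commute k s)
    (hS : ∀ k ∈ K, k ∈ L → Commute k s → (∃ m : ℕ, k ^ 3 ^ m = 1) → k ∈ zpowers s) :
    K ≤ L := by
  haveI : Fact (Nat.Prime 3) := ⟨by norm_num⟩
  set A : Subgroup Q := closure {a, b} with hAdef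
  set S : Subgroup Q := zpowers s with hSdef
  have haA : a ∈ A := subset_closure (by simp)
  have hbA : b ∈ A := subset_closure (by simp)
  have hcardS : Nat.card S = 3 := by rw [hSdef, Nat.card_zpowers, hs3]
  have hsS : s ∈ S := mem_zpowers s
  have hSK : S ≤ K := zpowers_le.2 hsK
  have hAs : ∀ y ∈ A, Commute y s := by
    intro y hy
    induction hy using closure_induction with
    | mem y hy => rcases hy with rfl | rfl <;> [exact hsa.symm; exact hsb.symm]
    | one => exact Commute.one_left _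
    | mul _ _ _ _ h1 h2 => exact h1.mul_left h2
    | inv _ _ h => exact h.inv_left
  have hcS : ∀ {y : Q}, Commute y s → ∀ z ∈ S, Commute y z := by
    intro y hy z hz
    obtain ⟨i, rfl⟩ := mem_zpowers_iff.1 hz
    exact hy.zpow_right i
  have hAS : A ≤ normalizer (S : Set Q) := Coprime.le_normalizer_of_conj_mem fun y hy z hz => by
    rw [(hcS (hAs y hy) z hz).eq, mul_inv_cancel_right]
    exact hz
  have hKA1 : ∀ {y : Q}, y ∈ K → y ∈ A → y = 1 := fun hy hy' => by
    have := hKA.le (show _ ∈ K ⊓ A from ⟨hy, hy'⟩)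
    simpa using this
  set E : Subgroup Q := A ⊔ S with hEdef
  have hEmem : ∀ {z : Q}, z ∈ E → ∃ y ∈ A, ∃ σ ∈ S, y * σ = z := by
    intro z hz
    have : z ∈ ((A ⊔ S : Subgroup Q) : Set Q) := hz
    rw [coe_mul_of_left_le_normalizer_right A S hAS] at this
    exact this
  have hEp : IsPGroup 3 E := IsPGroup.to_sup_of_normal_right' (Coprime.isPGroup_closure_pair hab ha hb)
    (IsPGroup.of_card (n := 1) (by rw [pow_one]; exact hcardS)) hAS
  set H : Subgroup Q := (K ⊔ A) ⊓ centralizer {s} with hHdef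
  have hEH : E ≤ H := sup_le (le_inf le_sup_right fun y hy => mem_centralizer_singleton_iff.2 (hAs y hy).eq)
    (le_inf (hSK.trans le_sup_left) (zpowers_le.2 (mem_centralizer_singleton_iff.2 rfl)))
  obtain ⟨P, hP⟩ := (hEp.of_equiv (subgroupOfEquivOfLe hEH).symm).exists_le_sylow
  set T : Subgroup Q := (P : Subgroup H).map H.subtype with hTdef
  have hTp : IsPGroup 3 T := P.2.map _
  have hET : E ≤ T := fun z hz => ⟨⟨z, hEH hz⟩, hP hz, rfl⟩
  have hTH : T ≤ H := map_subtype_le _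
  have hTE : T ≤ E := by
    by_contra hne
    haveI := hTp.isNilpotent
    have hlt : E.subgroupOf T < ⊤ := lt_top_iff_ne_top.2 fun h => hne (subgroupOf_eq_top.1 h)
    obtain ⟨x, hxn, hxE⟩ := SetLike.exists_of_lt ((normalizerCondition_of_isNilpotent (G := T)) _ hlt)
    have hconj : ∀ z ∈ E, (x : Q) * z * (x : Q)⁻¹ ∈ E := fun z hz => by
      have := (mem_normalizer_iff.1 hxn ⟨z, hET hz⟩).1 hz
      simpa [mem_subgroupOf] using this
    have hxKA : (x : Q) ∈ ((K ⊔ A : Subgroup Q) : Set Q) := (hTH x.2).1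
    rw [coe_mul_of_right_le_normalizer_left K A hA] at hxKA
    obtain ⟨k, hk, y₀, hy₀, hxe⟩ := hxKA
    have hy₀E : y₀ ∈ E := le_sup_left (b := S) hy₀
    have hxe' : k = (x : Q) * y₀⁻¹ := by rw [← hxe, mul_inv_cancel_right]
    have hkT : k ∈ T := hxe' ▸ T.mul_mem x.2 (T.inv_mem (hET hy₀E))
    have hks : Commute k s := mem_centralizer_singleton_iff.1 (hTH hkT).2
    have hkE : k ∉ E := fun h => hxE (by
      rw [mem_subgroupOf, ← hxe]
      exact E.mul_mem h hy₀E)
    have hno : ∀ y ∈ A, y ≠ 1 → ¬ Commute k y := by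
      intro y hy hy1 hc
      refine hkE (le_sup_right (a := A) (hS k hk (hfix y hy hy1 ⟨hk, mem_centralizer_singleton_iff.2 hc.eq⟩) hks ?_))
      obtain ⟨m, hm⟩ := hTp ⟨k, hkT⟩
      exact ⟨m, congrArg Subtype.val hm⟩
    have hf : ∀ y ∈ A, k * y * k⁻¹ * y⁻¹ ∈ S := by
      intro y hy
      obtain ⟨y', hy', σ, hσ, he⟩ := hEmem (z := k * y * k⁻¹) (by
        rw [hxe', _root_.mul_inv_rev, inv_inv]
        have := hconj (y₀⁻¹ * y * y₀) (E.mul_mem (E.mul_mem (E.inv_mem hy₀E) (le_sup_left (b := S) hy)) hy₀E)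
        simpa [mul_assoc] using this)
      have hK1 : k * y * k⁻¹ * y⁻¹ ∈ K := by
        rw [show k * y * k⁻¹ * y⁻¹ = k * (y * k⁻¹ * y⁻¹) by group]
        exact K.mul_mem hk ((mem_normalizer_iff.1 (hA hy) _).1 (K.inv_mem hk))
      rw [← he, mul_assoc y', ← (hcS (hAs _ (A.inv_mem hy)) σ hσ).eq, ← mul_assoc] at hK1
      rw [← he, mul_assoc y', ← (hcS (hAs _ (A.inv_mem hy)) σ hσ).eq, ← mul_assoc,
        hKA1 ((K.mul_mem_cancel_right (hSK hσ)).1 hK1) (A.mul_mem hy' (A.inv_mem hy)), one_mul]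
      exact hσ
    let f : A →* S := MonoidHom.mk' (fun y => ⟨_, hf y y.2⟩) fun y z => Subtype.ext (by
      have h1 : Commute (y : Q)⁻¹ (k * z * k⁻¹ * (z : Q)⁻¹) := hcS (hAs _ (A.inv_mem y.2)) _ (hf z z.2)
      show k * ((y : Q) * z) * k⁻¹ * ((y : Q) * z)⁻¹ = k * y * k⁻¹ * (y : Q)⁻¹ * (k * z * k⁻¹ * (z : Q)⁻¹)
      rw [mul_assoc (k * y * k⁻¹), h1.eq]
      group)
    have hinj : ∀ y : A, f y = 1 → y = 1 := by
      intro y hy
      by_contra hy1
      refine hno y y.2 (fun h => hy1 (Subtype.ext h)) ?_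
      have := congrArg Subtype.val hy
      exact mul_inv_eq_iff_eq_mul.1 (mul_inv_eq_one.1 this)
    have hfb : f ⟨b, hbA⟩ ≠ 1 := fun h => hb1 (congrArg Subtype.val (hinj _ h))
    obtain ⟨i, hi⟩ := mem_zpowers_iff.1
      (mem_zpowers_of_prime_card hcardS hfb (g' := f ⟨a, haA⟩))
    rw [← map_zpow, eq_comm, ← mul_inv_eq_one, ← map_inv, ← map_mul] at hi
    have he := congrArg Subtype.val (hinj _ hi)
    simp only [Subgroup.coe_mul, Subgroup.coe_inv, SubgroupClass.coe_zpow, OneMemClass.coe_one,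
      mul_inv_eq_one] at he
    exact hab' (mem_zpowers_iff.2 ⟨i, he.symm⟩)
  have key : ∀ k ∈ K, Commute k s → (∃ m : ℕ, k ^ 3 ^ m = 1) → k ∈ S := by
    intro k hk hks hm
    have hkH : k ∈ H := ⟨le_sup_left (b := A) hk, mem_centralizer_singleton_iff.2 hks.eq⟩
    have hkp : IsPGroup 3 (zpowers (⟨k, hkH⟩ : H)) := by
      obtain ⟨m, hm⟩ := hm
      obtain ⟨i, -, hi⟩ := (Nat.dvd_prime_pow (by norm_num : Nat.Prime 3)).1
        (orderOf_dvd_of_pow_eq_one (x := (⟨k, hkH⟩ : H)) (Subtype.ext (by simpa using hm)))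
      exact IsPGroup.of_card (n := i) (by rw [Nat.card_zpowers, hi])
    obtain ⟨P', hP'⟩ := hkp.exists_le_sylow
    obtain ⟨c, hc⟩ := MulAction.exists_smul_eq H P P'
    have hmem : (⟨k, hkH⟩ : H) ∈ ((c • P : Sylow 3 H) : Subgroup H) := hc ▸ hP' (mem_zpowers _)
    rw [Sylow.coe_subgroup_smul, mem_pointwise_smul_iff_inv_smul_mem, MulAut.smul_def, ← map_inv,
      MulAut.conj_apply, inv_inv] at hmem
    have hz : (c : Q)⁻¹ * k * c ∈ T := ⟨_, hmem, rfl⟩
    obtain ⟨y, hy, σ, hσ, he⟩ := hEmem (hTE hz)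
    have hzK : (c : Q)⁻¹ * k * c ∈ K := by
      have hcn : (c : Q)⁻¹ ∈ normalizer (K : Set Q) := Subgroup.inv_mem _ ((sup_le le_normalizer hA) c.2.1)
      have := (mem_normalizer_iff.1 hcn k).1 hk
      simpa using this
    rw [← he] at hzK
    rw [hKA1 ((K.mul_mem_cancel_right (hSK hσ)).1 hzK) hy, one_mul] at he
    have hcσ : Commute (c : Q) σ := hcS (mem_centralizer_singleton_iff.1 c.2.2) σ hσ
    have : k = σ := by
      rw [he] at hcσ
      calc k = (c : Q) * ((c : Q)⁻¹ * k * c) * (c : Q)⁻¹ := by group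
        _ = _ := by rw [hcσ.eq, mul_inv_cancel_right, he]
    exact this ▸ hσ
  -- the Sylow subgroup at three of `K`
  have hS' : IsPGroup 3 (S.subgroupOf K) :=
    (IsPGroup.of_card (G := S) (n := 1) (by rw [pow_one]; exact hcardS)).of_equiv (subgroupOfEquivOfLe hSK).symm
  obtain ⟨R, hR⟩ := hS'.exists_le_sylow
  have hRS : (R : Subgroup K) ≤ S.subgroupOf K := by
    by_contra hne
    haveI := R.2.isNilpotent
    have hlt : (S.subgroupOf K).subgroupOf (R : Subgroup K) < ⊤ :=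
      lt_top_iff_ne_top.2 fun h => hne (subgroupOf_eq_top.1 h)
    obtain ⟨x, hxn, hxS⟩ :=
      SetLike.exists_of_lt ((normalizerCondition_of_isNilpotent (G := (R : Subgroup K))) _ hlt)
    refine hxS ?_
    rw [mem_subgroupOf, mem_subgroupOf]
    refine key _ (x : K).2 (hN _ (x : K).2 ?_) ?_
    · have := (mem_normalizer_iff.1 hxn ⟨⟨s, hsK⟩, hR hsS⟩).1 hsS
      simpa [mem_subgroupOf] using this
    · obtain ⟨m, hm⟩ := R.2 x
      exact ⟨m, congrArg (fun z : K => (z : Q)) (congrArg Subtype.val hm)⟩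
  have hRe : (R : Subgroup K) = S.subgroupOf K := le_antisymm hRS hR
  have hnc : normalizer ((R : Subgroup K) : Set K) ≤ centralizer ((R : Subgroup K) : Set K) := by
    intro x hx
    rw [hRe] at hx ⊢
    have hxs : Commute (x : Q) s := hN _ x.2 (by
      have := (mem_normalizer_iff.1 hx ⟨s, hsK⟩).1 hsS
      simpa [mem_subgroupOf] using this)
    exact mem_centralizer_iff.2 fun z hz => Subtype.ext (hcS hxs _ hz).eq.symm
  set τ := MonoidHom.transferSylow R hnc with hτ
  set O : Subgroup Q := τ.ker.map K.subtype with hO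
  have hOK : O ≤ K := map_subtype_le _
  have hcop : (3 : ℕ).Coprime (Nat.card τ.ker) :=
    (Nat.Prime.coprime_iff_not_dvd (by norm_num)).2 (MonoidHom.not_dvd_card_ker_transferSylow R hnc)
  have hOcard : Nat.card O = Nat.card τ.ker := card_map_of_injective K.subtype_injective
  have hOA : A ≤ normalizer (O : Set Q) := Coprime.le_normalizer_of_conj_mem fun y hy z hz => by
    obtain ⟨u, hu, rfl⟩ := hz
    refine ⟨⟨y * u * y⁻¹, (mem_normalizer_iff.1 (hA hy) _).1 u.2⟩, ?_, rfl⟩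
    rw [SetLike.mem_coe, MonoidHom.mem_ker]
    have h1 : (⟨y * u * y⁻¹, (mem_normalizer_iff.1 (hA hy) _).1 u.2⟩ : K) ^ Nat.card τ.ker = 1 := by
      refine Subtype.ext ?_
      have hu' : u ^ Nat.card τ.ker = 1 :=
        congrArg Subtype.val (pow_card_eq_one' (x := (⟨u, hu⟩ : τ.ker)))
      simp only [SubmonoidClass.coe_pow, conj_pow]
      rw [← SubmonoidClass.coe_pow, hu', OneMemClass.coe_one, mul_one, mul_inv_cancel]
    have hR3 : Nat.card R = 3 := by
      show Nat.card (R : Subgroup K) = 3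
      rw [hRe, Nat.card_congr (subgroupOfEquivOfLe hSK).toEquiv, hcardS]
    set v := τ ⟨y * u * y⁻¹, (mem_normalizer_iff.1 (hA hy) _).1 u.2⟩ with hv
    have h2 : v ^ Nat.card τ.ker = 1 := by rw [hv, ← map_pow, h1, map_one]
    have h3 : v ^ 3 = 1 := by
      have := pow_card_eq_one' (x := v)
      rwa [hR3] at this
    have := pow_gcd_eq_one.2 ⟨h3, h2⟩
    rwa [Nat.Coprime.gcd_eq_one hcop, pow_one] at this
  have hOL : O ≤ L := Coprime.le_of_pair (p := 3) (by norm_num) (hOcard.symm ▸ hcop) hOA hab ha hb hb1 hab'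
    fun x hx hx1 => (inf_le_inf_right _ hOK).trans (hfix x hx hx1)
  have hsL : S ≤ L := zpowers_le.2 (hfix b hbA hb1 ⟨hsK, mem_centralizer_singleton_iff.2 hsb.eq⟩)
  have htop := (MonoidHom.ker_transferSylow_isComplement' R hnc).sup_eq_top
  calc K = (⊤ : Subgroup K).map K.subtype := by rw [← MonoidHom.range_eq_map, range_subtype]
    _ = O ⊔ S := by
      have e : (R : Subgroup K).map K.subtype = S := by
        rw [hRe, subgroupOf_map_subtype, inf_eq_left.2 hSK]
      rw [← htop, Subgroup.map_sup, e]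
    _ ≤ L := sup_le hOL hsL

end Cfsg.Agent.Lib.ExtraNine17.CC
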