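import Cfsg.Agent.Lib.ExtraNine17.CaseCBasic
import Cfsg.Agent.Lib.ExtraNine17.CaseCGroup

/-!
The centraliser of the element negating the first factor normalises the standard group.
-/

set_option autoImplicit false
set_option linter.unusedSectionVars false

namespace Cfsg.Agent.Lib.ExtraNine17.CC

open Matrix
open scoped Kronecker

variable {F : Type*} [Field F] {w : F} {hw : IsPrimitiveRoot w 3} {G : Subgroup (GL I₉ F)}

/-- The vector negated by the reversal. -/
def zv (F : Type*) [Field F] : I₃ → F := fun i => if i = 1 then 1 else if i = 2 then -1 else 0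

theorem zv_one : zv F 1 = 1 := if_pos rfl

theorem zv_neg (i : I₃) : zv F (-i) = -zv F i := by
  rcases (by decide : ∀ m : ZMod 3, m = 0 ∨ m = 1 ∨ m = 2) i with rfl | rfl | rfl <;>
    simp (config := { decide := true }) [zv]

/-- The part negated by `s9`, as columns. -/
def Zm (F : Type*) [Field F] : Matrix I₉ I₃ F := Matrix.of fun i m => if i.2 = m then zv F i.1 else 0

/-- A left inverse of `Zm`. -/
def Zl (F : Type*) [Field F] : Matrix I₃ I₉ F := Matrix.of fun m i => if i = ((1 : I₃), m) then 1 else 0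

theorem Zl_mul_apply (X : Matrix I₉ I₃ F) (m j : I₃) : (Zl F * X) m j = X (1, m) j := by
  rw [Matrix.mul_apply, Finset.sum_eq_single ((1 : I₃), m) ?_ (fun h => absurd (Finset.mem_univ _) h)]
  · rw [Zl, Matrix.of_apply, if_pos rfl, one_mul]
  · intro x _ hx
    rw [Zl, Matrix.of_apply, if_neg hx, zero_mul]

theorem Zm_mul_apply (B : Matrix I₃ I₃ F) (i k m : I₃) : (Zm F * B) (i, k) m = zv F i * B k m := by
  rw [Matrix.mul_apply, Finset.sum_eq_single k ?_ (fun h => absurd (Finset.mem_univ _) h)]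
  · rw [Zm, Matrix.of_apply, if_pos rfl]
  · intro x _ hx
    rw [Zm, Matrix.of_apply, if_neg (Ne.symm hx), zero_mul]

theorem Zl_Zm_mul (B : Matrix I₃ I₃ F) : Zl F * (Zm F * B) = B := by
  ext m j
  rw [Zl_mul_apply, Zm_mul_apply, zv_one, one_mul]

theorem Zl_Zm : Zl F * Zm F = 1 := by
  have := Zl_Zm_mul (1 : Matrix I₃ I₃ F)
  rwa [Matrix.mul_one] at this

theorem kron_Zm (A B : Matrix I₃ I₃ F) (i k m : I₃) :
    ((A ⊗ₖ B) * Zm F) (i, k) m = (A *ᵥ zv F) i * B k m := by
  rw [Matrix.mul_apply, Fintype.sum_prod_type, Matrix.mulVec, dotProduct, Finset.sum_mul]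
  refine Finset.sum_congr rfl fun a _ => ?_
  rw [Finset.sum_eq_single m ?_ (fun h => absurd (Finset.mem_univ _) h)]
  · rw [kroneckerMap_apply, Zm, Matrix.of_apply, if_pos rfl]; ring
  · intro x _ hx
    rw [Zm, Matrix.of_apply, if_neg hx, mul_zero]

theorem one_kron_Zm (B : Matrix I₃ I₃ F) : ((1 : Matrix I₃ I₃ F) ⊗ₖ B) * Zm F = Zm F * B := by
  ext ⟨i, k⟩ m
  rw [kron_Zm, Zm_mul_apply, Matrix.one_mulVec]

theorem tm_Zm (f : ZMod 3 × ZMod 3) : tm w ((0, f) : Pt) * Zm F = Zm F * em w f := by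
  rw [tm, em_zero, one_kron_Zm]

theorem s9_Zm : (s9 F : Matrix I₉ I₉ F) * Zm F = -Zm F := by
  ext ⟨i, k⟩ m
  rw [s9_coe, kron_Zm, Matrix.neg_apply, Zm, Matrix.of_apply]
  have : (t3 F *ᵥ zv F) i = -zv F i := by
    rw [Matrix.mulVec, dotProduct, Finset.sum_eq_single (-i) ?_ (fun h => absurd (Finset.mem_univ _) h)]
    · rw [t3, Matrix.of_apply, if_pos (neg_neg i).symm, one_mul, zv_neg]
    · intro x _ hx
      rw [t3, Matrix.of_apply, if_neg (fun h => hx (by rw [h, neg_neg])), zero_mul]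
  rw [this, Matrix.one_apply]
  by_cases h : k = m <;> simp [h]

/-- An element commuting with `s9` preserves its negated part. -/
theorem comm_Zm (h2 : (2 : F) ≠ 0) {g : GL I₉ F} (hg : Commute g (s9 F)) :
    (g : Matrix I₉ I₉ F) * Zm F = Zm F * (Zl F * ((g : Matrix I₉ I₉ F) * Zm F)) := by
  set X := (g : Matrix I₉ I₉ F) * Zm F with hX
  have hs : (s9 F : Matrix I₉ I₉ F) * X = -X := by
    rw [hX, ← Matrix.mul_assoc, ← Units.val_mul, ← hg.eq, Units.val_mul, Matrix.mul_assoc, s9_Zm, Matrix.mul_neg]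
  have hs' : ∀ i k m, X (-i, k) m = -X (i, k) m := by
    intro i k m
    have e := congrFun (congrFun hs (i, k)) m
    rw [Matrix.neg_apply, s9_coe, Matrix.mul_apply,
      Finset.sum_eq_single (-i, k) ?_ (fun h => absurd (Finset.mem_univ _) h)] at e
    · rwa [kroneckerMap_apply, t3, Matrix.of_apply, if_pos (neg_neg i).symm, Matrix.one_apply_eq, one_mul,
        one_mul] at e
    · rintro ⟨a, b⟩ _ hab
      rw [kroneckerMap_apply, t3, Matrix.of_apply]
      by_cases ha : i = -a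
      · have hb : k ≠ b := fun hb => hab (by rw [ha, neg_neg, hb])
        rw [Matrix.one_apply_ne hb, mul_zero, zero_mul]
      · rw [if_neg ha, zero_mul, zero_mul]
  ext ⟨i, k⟩ m
  rw [Zm_mul_apply, Zl_mul_apply]
  rcases (by decide : ∀ m : ZMod 3, m = 0 ∨ m = 1 ∨ m = 2) i with rfl | rfl | rfl
  · have e := hs' 0 k m
    rw [neg_zero] at e
    rw [show zv F 0 = 0 by simp (config := { decide := true }) [zv], zero_mul]
    exact (mul_eq_zero.1 (by linear_combination e : (2 : F) * X (0, k) m = 0)).resolve_left h2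
  · rw [zv_one, one_mul]
  · have e := hs' 1 k m
    rw [show (-1 : ZMod 3) = 2 by decide] at e
    rw [e, show zv F 2 = -1 by simp (config := { decide := true }) [zv], neg_one_mul]

theorem comm_Zm_mul (h2 : (2 : F) ≠ 0) {g h : GL I₉ F} (hh : Commute h (s9 F)) :
    Zl F * (((g * h : GL I₉ F) : Matrix I₉ I₉ F) * Zm F) =
      Zl F * ((g : Matrix I₉ I₉ F) * Zm F) * (Zl F * ((h : Matrix I₉ I₉ F) * Zm F)) := by
  rw [Units.val_mul, Matrix.mul_assoc (g : Matrix I₉ I₉ F), comm_Zm h2 hh, Matrix.mul_assoc (Zl F),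
    Matrix.mul_assoc (g : Matrix I₉ I₉ F) (Zm F), Zl_Zm_mul]

/-- The action on the negated part. -/
def psi (h2 : (2 : F) ≠ 0) : Subgroup.centralizer ({s9 F} : Set (GL I₉ F)) →* GL I₃ F :=
  ({ toFun := fun g => Zl F * (((g : GL I₉ F) : Matrix I₉ I₉ F) * Zm F)
     map_one' := by rw [OneMemClass.coe_one, Units.val_one, Matrix.one_mul, Zl_Zm]
     map_mul' := fun g h => by
       rw [Subgroup.coe_mul, comm_Zm_mul h2 (Subgroup.mem_centralizer_singleton_iff.1 h.2)] } :
    Subgroup.centralizer ({s9 F} : Set (GL I₉ F)) →* Matrix I₃ I₃ F).toHomUnits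

theorem psi_coe (h2 : (2 : F) ≠ 0) (g : Subgroup.centralizer ({s9 F} : Set (GL I₉ F))) :
    (psi h2 g : Matrix I₃ I₃ F) = Zl F * (((g : GL I₉ F) : Matrix I₉ I₉ F) * Zm F) := rfl

theorem psi_Zm (h2 : (2 : F) ≠ 0) (g : Subgroup.centralizer ({s9 F} : Set (GL I₉ F))) :
    ((g : GL I₉ F) : Matrix I₉ I₉ F) * Zm F = Zm F * (psi h2 g : Matrix I₃ I₃ F) := by
  rw [psi_coe]
  exact comm_Zm h2 (Subgroup.mem_centralizer_singleton_iff.1 g.2)

theorem commute_tu (hw : IsPrimitiveRoot w 3) (f : ZMod 3 × ZMod 3) : Commute (tu hw ((0, f) : Pt)) (s9 F) :=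
  Units.ext (by rw [Units.val_mul, Units.val_mul, tu_coe, s9_tm, neg_zero])

theorem acts_commute (hw : IsPrimitiveRoot w 3) {g : GL I₉ F} (hg : Commute g (s9 F)) {σ : Pt → Pt}
    (hσ : Acts w (g : Matrix I₉ I₉ F) σ) (v : Pt) : σ (-v.1, v.2) = (-(σ v).1, (σ v).2) :=
  acts_unique hw (g := g * s9 F) (σ := σ ∘ fun v : Pt => ((-v.1, v.2) : Pt))
    (τ := (fun v : Pt => ((-v.1, v.2) : Pt)) ∘ σ)
    (by rw [Units.val_mul]; exact hσ.mul acts_s9) (by rw [hg.eq, Units.val_mul]; exact acts_s9.mul hσ) v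

theorem acts_split (hw : IsPrimitiveRoot w 3) {g : GL I₉ F} (hg : Commute g (s9 F)) {σ : Pt → Pt}
    (hσ : Acts w (g : Matrix I₉ I₉ F) σ) :
    (∀ f, (σ (0, f)).1 = 0) ∧ ∀ e, (σ (e, 0)).2 = 0 := by
  have hfix : ∀ x : ZMod 3 × ZMod 3, x = -x → x = 0 := by decide
  refine ⟨fun f => hfix _ ?_, fun e => hfix _ ?_⟩
  · have := acts_commute hw hg hσ (0, f)
    rw [neg_zero] at this
    exact congrArg Prod.fst this
  · have h1 := acts_commute hw hg hσ (e, 0)
    have h2 := hσ.map_add hw (e, 0) (-e, 0)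
    have h0 : σ 0 = 0 := by have := hσ.map_add hw 0 0; simpa using this
    rw [show ((e, 0) : Pt) + (-e, 0) = 0 by simp, h0, h1] at h2
    have h3 := congrArg Prod.snd h2
    rw [Prod.snd_zero, Prod.snd_add] at h3
    exact eq_neg_of_add_eq_zero_left h3.symm

/-- Commuting with the reversal and fixing its negated vector. -/
def Fix3 (u : GL I₃ F) : Prop := Commute u (t3u F) ∧ (u : Matrix I₃ I₃ F) *ᵥ zv F = zv F

theorem Fix3.mul {u v : GL I₃ F} (hu : Fix3 u) (hv : Fix3 v) : Fix3 (u * v) :=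
  ⟨hu.1.mul_left hv.1, by rw [Units.val_mul, ← Matrix.mulVec_mulVec, hv.2, hu.2]⟩

theorem Fix3.inv {u : GL I₃ F} (hu : Fix3 u) : Fix3 u⁻¹ :=
  ⟨hu.1.inv_left, by conv_lhs => rw [← hu.2, Matrix.mulVec_mulVec, Units.inv_mul, Matrix.one_mulVec]⟩

theorem fix3_one : Fix3 (1 : GL I₃ F) := ⟨Commute.one_left _, by rw [Units.val_one, Matrix.one_mulVec]⟩

theorem fix3_h0 (hw : IsPrimitiveRoot w 3) : Fix3 (h0u hw) := by
  refine ⟨Units.ext ?_, ?_⟩
  · ext i j
    rw [Units.val_mul, Units.val_mul, h0u_coe, t3u_coe, t3_mul_apply, mul_t3_apply, hom0, diagonal_apply,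
      diagonal_apply]
    rcases (by decide : ∀ m : ZMod 3, m = 0 ∨ m = 1 ∨ m = 2) i with rfl | rfl | rfl <;>
      rcases (by decide : ∀ m : ZMod 3, m = 0 ∨ m = 1 ∨ m = 2) j with rfl | rfl | rfl <;>
      simp (config := { decide := true })
  · rw [h0u_coe, hom0]
    funext i
    rw [Matrix.mulVec_diagonal]
    by_cases h : i = 0
    · subst h; simp (config := { decide := true }) [zv]
    · rw [if_neg h, one_mul]

theorem fix3_h1 (hw : IsPrimitiveRoot w 3) (h3 : (3 : F) ≠ 0) : Fix3 (h1u hw h3) := by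
  refine ⟨Units.ext ?_, ?_⟩
  · rw [Units.val_mul, Units.val_mul, h1u_coe, t3u_coe]
    ext i j
    rw [t3_mul_apply, mul_t3_apply]
    simp only [hom1, Matrix.add_apply, Matrix.smul_apply, Matrix.of_apply, Matrix.one_apply, neg_eq_iff_eq_neg]
  · rw [h1u_coe, hom1, Matrix.add_mulVec, Matrix.one_mulVec, Matrix.smul_mulVec]
    rw [show (Matrix.of fun _ _ => (1 : F) : Matrix I₃ I₃ F) *ᵥ zv F = 0 from ?_, smul_zero, add_zero]
    funext i
    rw [Matrix.mulVec, dotProduct, show (Finset.univ : Finset I₃) = {0, 1, 2} by decide,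
      Finset.sum_insert (by decide), Finset.sum_insert (by decide), Finset.sum_singleton]
    simp (config := { decide := true }) [zv]

/-- An element of the small group is determined by its map of the plane. -/
theorem Fix3.rigid (hw : IsPrimitiveRoot w 3) {u v : GL I₃ F} (hu : Fix3 u) (hv : Fix3 v) {A : M2}
    (hA : DetOne A) (h1 : Rel3 w (u : Matrix I₃ I₃ F) (app A)) (h2 : Rel3 w (v : Matrix I₃ I₃ F) (app A)) :
    u = v := by
  have hid : Rel3 w ((u⁻¹ * v : GL I₃ F) : Matrix I₃ I₃ F) id := by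
    rw [Units.val_mul, show (id : ZMod 3 × ZMod 3 → ZMod 3 × ZMod 3) = app (adj2 A) ∘ app A from
      (funext fun e => app_adj hA e).symm]
    exact (h1.inv hw hA).mul h2
  obtain ⟨c, d, hcd⟩ := eq_sc_mul_eu hw hid
  obtain ⟨hc1, hc2⟩ := hu.inv.mul hv
  rw [hcd] at hc1 hc2
  have hd : d = 0 := by
    have e := congrArg (Units.val : GL I₃ F → Matrix I₃ I₃ F) hc1.eq
    simp only [Units.val_mul, sc_coe, eu_coe, t3u_coe, Matrix.smul_mul, Matrix.one_mul,
      Matrix.mul_smul, t3_em] at e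
    have e' := congrArg (fun X => X * t3 F) (smul_right_injective _ c.ne_zero e)
    simp only [Matrix.mul_assoc, t3_sq, Matrix.mul_one] at e'
    exact (by decide : ∀ d : ZMod 3 × ZMod 3, d = -d → d = 0) d
      (em_inj hw (c := 1) (by rw [one_smul]; exact e'))
  subst hd
  rw [Units.val_mul, sc_coe, eu_coe, em_zero, Matrix.mul_one, Matrix.smul_mulVec, Matrix.one_mulVec] at hc2
  have hc : c = 1 := by
    have := congrFun hc2 1
    rw [Pi.smul_apply, zv_one, smul_eq_mul, mul_one] at this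
    exact Units.ext this
  rw [hc, map_one sc, one_mul, eu_zero] at hcd
  exact (inv_mul_eq_one.1 hcd)

theorem Rel3_pow (hw : IsPrimitiveRoot w 3) {u : GL I₃ F} {σ : ZMod 3 × ZMod 3 → ZMod 3 × ZMod 3}
    (h : Rel3 w (u : Matrix I₃ I₃ F) σ) (n : ℕ) : Rel3 w ((u ^ n : GL I₃ F) : Matrix I₃ I₃ F) σ^[n] := by
  induction n with
  | zero =>
    rw [pow_zero, Function.iterate_zero]
    simpa using rel3_sc (w := w) (1 : Fˣ)
  | succ n ih =>
    rw [pow_succ, Units.val_mul, Function.iterate_succ]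
    exact ih.mul h

theorem neg_iterate (m : ℕ) (e : ZMod 3 × ZMod 3) :
    (fun x : ZMod 3 × ZMod 3 => -x)^[3 ^ m] e = -e := by
  induction m generalizing e with
  | zero => rfl
  | succ m ih =>
    rw [pow_succ, Function.iterate_mul]
    show (fun x : ZMod 3 × ZMod 3 => -x)^[3 ^ m] ((fun x : ZMod 3 × ZMod 3 => -x)^[3 ^ m]
      ((fun x : ZMod 3 × ZMod 3 => -x)^[3 ^ m] e)) = -e
    rw [ih, ih, ih, neg_neg]

set_option synthInstance.maxSize 1024 in
theorem comm_mu : ∀ A : M2, DetOne A → (∀ e, app A (app mu e) = app mu (app A e)) →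
    (∀ e, app A (app A (app A e)) = -e) ∨ (∀ e, app A e = e) ∨ (∀ e, app A e = app mu e) ∨
      (∀ e, app A e = app mu (app mu e)) := by
  decide +kernel

set_option synthInstance.maxSize 1024 in
theorem comm_mu_mv : ∀ A : M2, DetOne A → (∀ e, app A (app mu e) = app mu (app A e)) →
    (∀ e, app A (app mv e) = app mv (app A e)) → (∀ e, app A (app A (app A e)) = e) → ∀ e, app A e = e := by
  decide +kernel

/-- The kernel of the action on the negated part, inside `G`. -/
def Kz (G : Subgroup (GL I₉ F)) : Subgroup (GL I₉ F) where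
  carrier := {g | g ∈ G ∧ Commute g (s9 F) ∧ (g : Matrix I₉ I₉ F) * Zm F = Zm F}
  one_mem' := ⟨G.one_mem, Commute.one_left _, by rw [Units.val_one, Matrix.one_mul]⟩
  mul_mem' := fun {g h} hg hh => ⟨G.mul_mem hg.1 hh.1, hg.2.1.mul_left hh.2.1, by
    rw [Units.val_mul, Matrix.mul_assoc, hh.2.2, hg.2.2]⟩
  inv_mem' := fun {g} hg => ⟨G.inv_mem hg.1, hg.2.1.inv_left, by
    conv_lhs => rw [← hg.2.2, ← Matrix.mul_assoc, Units.inv_mul, Matrix.one_mul]⟩

/-- The part of the kernel commuting with the lifts of the second factor. -/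
def K0 (hw : IsPrimitiveRoot w 3) (G : Subgroup (GL I₉ F)) : Subgroup (GL I₉ F) :=
  Kz G ⊓ Subgroup.centralizer (Set.range fun f : ZMod 3 × ZMod 3 => tu hw ((0, f) : Pt))

theorem K0_comm {g : GL I₉ F} (hg : g ∈ K0 hw G) (f : ZMod 3 × ZMod 3) : Commute g (tu hw ((0, f) : Pt)) :=
  ((Subgroup.mem_centralizer_iff.1 hg.2) _ ⟨f, rfl⟩).symm

theorem scalar_Kz {g : GL I₉ F} (hg : g ∈ Kz G) (hs : g ∈ Cfsg.Geo.scalars I₉ F) : g = 1 := by
  obtain ⟨c, hc⟩ := (Cfsg.Geo.mem_scalars_iff _).1 hs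
  have h := congrFun (congrFun hg.2.2 ((1 : I₃), (0 : I₃))) 0
  rw [hc, Matrix.smul_mul, Matrix.one_mul, Matrix.smul_apply, Zm, Matrix.of_apply, if_pos rfl, zv_one,
    smul_eq_mul, mul_one] at h
  exact Units.ext (by rw [hc, h, one_smul, Units.val_one])

theorem blk_const_mem {M : GL I₃ F} (hM : (fun _ => M) ∈ blocks G) (hfix : Fix3 M) :
    (blk fun _ => M) ∈ K0 hw G := by
  refine ⟨⟨hM, ?_, ?_⟩, ?_⟩
  · show Commute (blk fun _ => M) (blk fun _ => t3u F)
    exact (Commute.map (show Commute (fun _ : ZMod 3 => M) (fun _ => t3u F) from funext fun _ => hfix.1.eq) blk)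
  · ext ⟨i, k⟩ m
    rw [blk_const_coe, kron_Zm, hfix.2, Zm, Matrix.of_apply, Matrix.one_apply]
    by_cases h : k = m <;> simp [h]
  · refine Subgroup.mem_centralizer_iff.2 ?_
    rintro _ ⟨f, rfl⟩
    refine Units.ext ?_
    rw [Units.val_mul, Units.val_mul, tu_coe, blk_const_coe, tm, em_zero, ← mul_kronecker_mul,
      ← mul_kronecker_mul, Matrix.one_mul, Matrix.mul_one, Matrix.mul_one, Matrix.one_mul]

theorem h0_mem (hG : Over hw G) : (blk fun _ => h0u hw) ∈ K0 hw G :=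
  blk_const_mem (blocks_h0 hG) (fix3_h0 hw)

theorem h1_mem (hG : Over hw G) (h3 : (3 : F) ≠ 0) : (blk fun _ => h1u hw h3) ∈ K0 hw G :=
  blk_const_mem (blocks_h1 hG h3) (fix3_h1 hw h3)

variable [Finite F]

section Hyp

variable (hG : Over hw G) (h3 : (3 : F) ≠ 0) (h2 : (2 : F) ≠ 0)
  (hC : ∀ v : Pt, v ≠ 0 → ∀ g ∈ G,
    (∃ c : F, (g : Matrix I₉ I₉ F) * tm w v = c • (tm w v * g)) → g ∈ nrm w)

include hC in
theorem mem_K0_of_rel {g : GL I₉ F} (hg : g ∈ Kz G) {f : ZMod 3 × ZMod 3} (hf : f ≠ 0) {c : F}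
    (h : (g : Matrix I₉ I₉ F) * tm w ((0, f) : Pt) = c • (tm w ((0, f) : Pt) * g)) : g ∈ K0 hw G := by
  obtain ⟨σ, hσ⟩ := hC _ (fun e => hf (congrArg Prod.snd e)) g hg.1 ⟨c, h⟩
  refine ⟨hg, ?_⟩
  refine Subgroup.mem_centralizer_iff.2 ?_
  rintro _ ⟨f', rfl⟩
  obtain ⟨d, hd⟩ := hσ ((0, f') : Pt)
  obtain ⟨x, hx⟩ : ∃ x, σ (0, f') = ((0, x) : Pt) :=
    ⟨(σ (0, f')).2, Prod.ext ((acts_split hw hg.2.1 hσ).1 f') rfl⟩
  rw [hx] at hd
  have h1 := congrArg (fun X => Zl F * (X * Zm F)) hd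
  simp only [Matrix.smul_mul, Matrix.mul_assoc, tm_Zm, hg.2.2, Matrix.mul_smul] at h1
  rw [← Matrix.mul_assoc (g : Matrix I₉ I₉ F), hg.2.2, Zl_Zm_mul, Zl_Zm_mul] at h1
  have he : f' = x := em_inj hw h1
  subst he
  have hd1 : d = 1 := by
    have : d • em w f' = (1 : F) • em w f' := by rw [one_smul, ← h1]
    exact smul_left_injective F (em_ne_zero hw f') this
  rw [hd1, one_smul] at hd
  exact Units.ext (by rw [Units.val_mul, Units.val_mul, tu_coe, hd])

include hC in
theorem exists_fix3 {g : GL I₉ F} (hg : g ∈ K0 hw G) :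
    ∃ (M : GL I₃ F) (A : M2), g = blk (fun _ => M) ∧ Fix3 M ∧ DetOne A ∧ Rel3 w (M : Matrix I₃ I₃ F) (app A) := by
  have hcomm : ∀ f : ZMod 3 × ZMod 3,
      (g : Matrix I₉ I₉ F) * tm w ((0, f) : Pt) = tm w ((0, f) : Pt) * g := by
    intro f
    have := congrArg (Units.val : GL I₉ F → Matrix I₉ I₉ F) (K0_comm hg f).eq
    rwa [Units.val_mul, Units.val_mul, tu_coe] at this
  obtain ⟨M, rfl⟩ := exists_bc hw (g := g) (hcomm (0, 1)) (hcomm (1, 0))
  obtain ⟨σ, hσ⟩ := hC px (by decide) _ hg.1.1 ⟨1, by rw [one_smul]; exact hcomm (0, 1)⟩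
  have hr := rel3_of_bc hw hσ (acts_split hw hg.1.2.1 hσ).2
  obtain ⟨A, hA, hAe⟩ := Rel3.exists_m2 hw hr
  refine ⟨M, A, rfl, ⟨?_, ?_⟩, hA, fun e => ?_⟩
  · have := hg.1.2.1.eq
    rw [s9, ← map_mul, ← map_mul] at this
    exact congrFun (blk_injective this) 0
  · funext i
    have := congrFun (congrFun hg.1.2.2 (i, (0 : I₃))) 0
    rwa [blk_const_coe, kron_Zm, Matrix.one_apply_eq, mul_one, Zm, Matrix.of_apply, if_pos rfl] at this
  · obtain ⟨c, hc⟩ := hr e
    exact ⟨c, by rw [← hAe]; exact hc⟩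

theorem kz_conj (h2 : (2 : F) ≠ 0) {g k : GL I₉ F} (hg : g ∈ G) (hgs : Commute g (s9 F)) (hk : k ∈ Kz G) :
    g * k * g⁻¹ ∈ Kz G := by
  refine ⟨G.mul_mem (G.mul_mem hg hk.1) (G.inv_mem hg), (hgs.mul_left hk.2.1).mul_left hgs.inv_left, ?_⟩
  have e := comm_Zm h2 hgs.inv_left
  rw [Units.val_mul, Units.val_mul, Matrix.mul_assoc, e, Matrix.mul_assoc, ← Matrix.mul_assoc (k : Matrix I₉ I₉ F),
    hk.2.2, ← e, ← Matrix.mul_assoc, Units.mul_inv, Matrix.one_mul]

include hG h3 h2 hC in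
/-- The whole kernel commutes with the lifts of the second factor. -/
theorem kz_le : Kz G ≤ K0 hw G := by
  haveI := Fintype.ofFinite F
  haveI : Finite (GL I₉ F) := inferInstance
  let π : GL I₉ F →* GL I₉ F ⧸ Cfsg.Geo.scalars I₉ F := QuotientGroup.mk' _
  have hπ : ∀ {x y : GL I₉ F}, π x = π y → ∃ c : Fˣ, (y : Matrix I₉ I₉ F) = (c : F) • (x : Matrix I₉ I₉ F) := by
    intro x y h
    obtain ⟨c, hc⟩ := (Cfsg.Geo.mem_scalars_iff _).1 (QuotientGroup.eq.1 h)
    refine ⟨c, ?_⟩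
    have : y = x * (x⁻¹ * y) := by group
    rw [this, Units.val_mul, hc, Matrix.mul_smul, Matrix.mul_one]
  have hinj : ∀ {x y : GL I₉ F}, x ∈ Kz G → y ∈ Kz G → π x = π y → x = y := fun hx hy h =>
    inv_mul_eq_one.1 (scalar_Kz ((Kz G).mul_mem ((Kz G).inv_mem hx) hy) (QuotientGroup.eq.1 h))
  set s0 : GL I₉ F := blk fun _ => h0u hw with hs0
  have hs0K : s0 ∈ K0 hw G := h0_mem hG
  have hw1 : w ≠ 1 := hw.ne_one (by norm_num)
  have hs03 : s0 ^ 3 = 1 := by
    rw [hs0, ← map_pow, show ((fun _ => h0u hw : ZMod 3 → GL I₃ F) ^ 3) = 1 from ?_, map_one blk]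
    funext k
    refine Units.ext ?_
    rw [Pi.pow_apply, Units.val_pow_eq_pow_val, h0u_coe, hom0, diagonal_pow, Pi.one_apply, Units.val_one,
      ← diagonal_one]
    congr 1
    funext i
    by_cases h : i = 0 <;> simp [h, hw.pow_eq_one]
  have htr : ∀ d : I₃ → F, ((diagonal d) ⊗ₖ (1 : Matrix I₃ I₃ F)).trace = (d 0 + d 1 + d 2) * 3 := by
    intro d
    rw [Matrix.trace_kronecker, Matrix.trace_diagonal, Matrix.trace_one, ZMod.card,
      show (Finset.univ : Finset I₃) = {0, 1, 2} by decide, Finset.sum_insert (by decide),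
      Finset.sum_insert (by decide), Finset.sum_singleton, Nat.cast_ofNat, add_assoc]
  have hs01 : s0 ≠ 1 := by
    intro h
    refine hw1 ?_
    have := congrArg (fun u : GL I₉ F => (u : Matrix I₉ I₉ F) ((0 : I₃), (0 : I₃)) ((0 : I₃), (0 : I₃))) h
    simpa [hs0, blk_const_coe, h0u_coe, hom0] using this
  have hπs0 : orderOf (π s0) = 3 := by
    haveI : Fact (Nat.Prime 3) := ⟨by norm_num⟩
    refine orderOf_eq_prime (by rw [← map_pow, hs03, map_one]) fun h => hs01 ?_
    exact (hinj hs0K.1 (Kz G).one_mem (by rw [h, map_one π]))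
  set a : GL I₉ F := tu hw ((0, (1, 0)) : Pt) with hadef
  set b : GL I₉ F := tu hw ((0, (0, 1)) : Pt) with hbdef
  have hmulW : ∀ e f : ZMod 3 × ZMod 3,
      π (tu hw ((0, e) : Pt)) * π (tu hw ((0, f) : Pt)) = π (tu hw ((0, e + f) : Pt)) := by
    intro e f
    rw [← map_mul]
    refine QuotientGroup.eq.2 ((Cfsg.Geo.mem_scalars_iff _).2
      ⟨(Units.mk0 (ch w (cocy ((0, e) : Pt) (0, f))) (ch_ne_zero hw _))⁻¹, ?_⟩)
    set z := Units.mk0 (ch w (cocy ((0, e) : Pt) (0, f))) (ch_ne_zero hw _)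
    have hsum : tm w ((0, e + f) : Pt) = ((z⁻¹ : Fˣ) : F) • (tm w ((0, e) : Pt) * tm w ((0, f) : Pt)) := by
      rw [tm_mul hw, smul_smul, show ((z⁻¹ : Fˣ) : F) * ch w (cocy ((0, e) : Pt) (0, f)) = 1 from z.inv_mul,
        one_smul]
      simp
    rw [Units.val_mul, tu_coe, hsum, Matrix.mul_smul, ← tu_coe hw, ← tu_coe hw, ← Units.val_mul,
      Units.inv_mul]
  have hW0 : π (tu hw ((0, 0) : Pt)) = 1 := by
    rw [show tu hw ((0, 0) : Pt) = 1 from Units.ext (by rw [tu_coe]; exact tm_zero), map_one]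
  have hclo : ∀ x ∈ Subgroup.closure ({π a, π b} : Set _), ∃ e, x = π (tu hw ((0, e) : Pt)) := by
    intro x hx
    induction hx using Subgroup.closure_induction with
    | mem x hx => rcases hx with rfl | rfl <;> exact ⟨_, rfl⟩
    | one => exact ⟨0, hW0.symm⟩
    | mul x y _ _ hx hy =>
      obtain ⟨e, rfl⟩ := hx; obtain ⟨f, rfl⟩ := hy
      exact ⟨e + f, hmulW e f⟩
    | inv x _ hx =>
      obtain ⟨e, rfl⟩ := hx
      exact ⟨-e, inv_eq_of_mul_eq_one_right (by rw [hmulW, add_neg_cancel, hW0])⟩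
  have hab : Commute (π a) (π b) := by
    show π a * π b = π b * π a
    rw [hadef, hbdef, hmulW, hmulW, add_comm]
  have hpow : ∀ (f : ZMod 3 × ZMod 3) (n : ℕ), π (tu hw ((0, f) : Pt)) ^ n = π (tu hw ((0, n • f) : Pt)) := by
    intro f n
    induction n with
    | zero => rw [pow_zero, zero_smul, hW0]
    | succ n ih => rw [pow_succ, ih, hmulW, succ_nsmul]
  have htriv : ∀ {e : ZMod 3 × ZMod 3} {k : GL I₉ F}, k ∈ Kz G → π k = π (tu hw ((0, e) : Pt)) → e = 0 := by
    intro e k hk h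
    obtain ⟨c, hc⟩ := hπ h
    rw [tu_coe] at hc
    have h1 := congrArg (fun X => Zl F * (X * Zm F)) hc
    simp only [Matrix.smul_mul, Matrix.mul_smul, tm_Zm, hk.2.2, Zl_Zm_mul, Zl_Zm] at h1
    exact em_inj hw (c := (c : F)) (by rw [em_zero]; exact h1)
  set K : Subgroup (GL I₉ F ⧸ Cfsg.Geo.scalars I₉ F) := (Kz G).map π with hK
  have hmain : K ≤ (K0 hw G).map π := by
    refine le_of_order_three (s := π s0) (a := π a) (b := π b) ⟨s0, hs0K.1, rfl⟩ hπs0
      ((K0_comm hs0K _).map π) ((K0_comm hs0K _).map π) hab ?_ ?_ ?_ ?_ ?_ ?_ ?_ ?_ ?_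
    · rw [← map_pow, hadef, tu_cube, map_one]
    · rw [← map_pow, hbdef, tu_cube, map_one]
    · intro h
      exact absurd (htriv (e := (0, 1)) (Kz G).one_mem (by rw [map_one]; exact h.symm)) (by decide)
    · intro h
      classical
      obtain ⟨n, hn⟩ := (mem_zpowers_iff_mem_range_orderOf.1 h) |> Finset.mem_image.1
      have hn' := hn.2
      rw [hbdef, hadef, hpow] at hn'
      have h0 : π 1 = π (tu hw ((0, n • ((0, 1) : ZMod 3 × ZMod 3) + -(1, 0)) : Pt)) := by
        rw [map_one π, ← hmulW, hn', hmulW, add_neg_cancel, hW0]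
      have := htriv (Kz G).one_mem h0
      simpa [Prod.ext_iff] using this
    · refine Coprime.le_normalizer_of_conj_mem fun x hx y hy => ?_
      obtain ⟨e, rfl⟩ := hclo x hx
      obtain ⟨k, hk, rfl⟩ := hy
      exact ⟨_, kz_conj h2 (hG.tu_mem _) (commute_tu hw e) hk, by simp only [map_mul, map_inv]⟩
    · refine le_bot_iff.1 ?_
      rintro x ⟨⟨k, hk, rfl⟩, hx⟩
      obtain ⟨e, he⟩ := hclo _ hx
      rw [Subgroup.mem_bot, he, htriv hk he, hW0]
    · rintro x hx hx1 y ⟨⟨k, hk, rfl⟩, hy⟩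
      obtain ⟨e, rfl⟩ := hclo x hx
      have he : e ≠ 0 := fun h => hx1 (by rw [h, hW0])
      have hy' := Subgroup.mem_centralizer_singleton_iff.1 hy
      rw [← map_mul, ← map_mul] at hy'
      obtain ⟨c, hc⟩ := hπ hy'.symm
      rw [Units.val_mul, Units.val_mul, tu_coe] at hc
      exact ⟨k, mem_K0_of_rel hC hk he hc, rfl⟩
    · rintro x ⟨k, hk, rfl⟩ hx
      obtain ⟨i, hi⟩ := Subgroup.mem_zpowers_iff.1 hx
      rw [← map_zpow, ← map_inv, ← map_mul, ← map_mul] at hi
      have he := hinj ((Kz G).zpow_mem hs0K.1 i)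
        ((Kz G).mul_mem ((Kz G).mul_mem hk hs0K.1) ((Kz G).inv_mem hk)) hi
      have hi3 : s0 ^ i = s0 ^ (i % 3) := by
        conv_lhs => rw [show i = i % 3 + 3 * (i / 3) by omega, _root_.zpow_add, _root_.zpow_mul, zpow_ofNat, hs03, _root_.one_zpow, mul_one]
      rcases (show i % 3 = 0 ∨ i % 3 = 1 ∨ i % 3 = 2 by omega) with h | h | h <;> rw [hi3, h] at he
      · rw [zpow_zero, eq_comm, mul_inv_eq_one] at he
        exact absurd (mul_eq_left.1 he) hs01
      · rw [zpow_one, eq_comm, mul_inv_eq_iff_eq_mul] at he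
        exact (show Commute k s0 from he).map π
      · exfalso
        rw [zpow_ofNat, pow_two] at he
        have e1 := congrArg (fun u : GL I₉ F => (u : Matrix I₉ I₉ F).trace) he
        simp only [Units.val_mul, Matrix.trace_units_conj] at e1
        rw [hs0, blk_const_coe, h0u_coe, hom0, ← mul_kronecker_mul, diagonal_mul_diagonal, Matrix.mul_one, htr,
          htr] at e1
        simp (config := { decide := true }) only [if_true, if_false, mul_one] at e1
        refine hw1 (mul_left_cancel₀ (hw.ne_zero (by norm_num)) ?_)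
        have := mul_right_cancel₀ h3 e1
        rw [mul_one]
        linear_combination this
    · rintro x ⟨k, hk, rfl⟩ ⟨k', hk', he⟩ hcs ⟨m, hm⟩
      obtain rfl := hinj hk'.1 hk he
      rw [← map_pow] at hm
      have hm' : k' ^ 3 ^ m = 1 := hinj ((Kz G).pow_mem hk _) (Kz G).one_mem (by rw [hm, map_one π])
      have hcs' : Commute k' s0 := hinj ((Kz G).mul_mem hk hs0K.1) ((Kz G).mul_mem hs0K.1 hk)
        (by rw [map_mul, map_mul]; exact hcs.eq)
      obtain ⟨M, A, hkM, hfix, hA, hr⟩ := exists_fix3 hC hk'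
      subst hkM
      rw [hs0] at hcs'
      have hMh : M * h0u hw = h0u hw * M := by
        have := hcs'.eq
        rw [← map_mul, ← map_mul] at this
        exact congrFun (blk_injective this) 0
      have hr0 : Rel3 w (h0u hw : Matrix I₃ I₃ F) (app mu) := by rw [app_mu, h0u_coe]; exact rel3_hom0 hw
      have hcomm : ∀ e, app A (app mu e) = app mu (app A e) :=
        rel3_unique hw (g := M * h0u hw) (σ := app A ∘ app mu) (τ := app mu ∘ app A)
          (by rw [Units.val_mul]; exact hr.mul hr0) (by rw [hMh, Units.val_mul]; exact hr0.mul hr)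
      have hMm : M ^ 3 ^ m = 1 := by
        have := hm'
        rw [← map_pow, ← map_one (blk (F := F))] at this
        exact congrFun (blk_injective this) 0
      rcases comm_mu A hA hcomm with h | h | h | h
      · exfalso
        have h1 := rel3_unique hw (g := M ^ 3 ^ (m + 1)) (Rel3_pow hw hr _) (τ := id)
          (by rw [pow_succ, pow_mul, hMm, one_pow]; simpa using rel3_sc (w := w) (1 : Fˣ)) (1, 0)
        rw [pow_succ', Function.iterate_mul,
          show (app A)^[3] = fun e => -e from funext fun e => h e, neg_iterate] at h1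
        exact absurd h1 (by decide)
      · have hd : DetOne ((1, 0), (0, 1)) := by decide
        have he1 : app ((1, 0), (0, 1)) = app A := funext fun e => by rw [h]; simp [app]
        obtain rfl := hfix.rigid hw fix3_one (A := A) hA hr (by
          rw [show app A = id from funext h]; simpa using rel3_sc (w := w) (1 : Fˣ))
        show π (blk fun _ => 1) ∈ _
        rw [show (fun _ => 1 : ZMod 3 → GL I₃ F) = 1 from rfl, map_one blk, map_one π]
        exact Subgroup.one_mem _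
      · obtain rfl := hfix.rigid hw (fix3_h0 hw) (A := A) hA hr (by rw [show app A = app mu from funext h]; exact hr0)
        exact Subgroup.mem_zpowers _
      · obtain rfl := hfix.rigid hw ((fix3_h0 hw).mul (fix3_h0 hw)) (A := A) hA hr (by
          rw [show app A = app mu ∘ app mu from funext h, Units.val_mul]; exact hr0.mul hr0)
        show π (blk ((fun _ => h0u hw) * fun _ => h0u hw)) ∈ _
        rw [map_mul, map_mul]
        exact Subgroup.mul_mem _ (Subgroup.mem_zpowers _) (Subgroup.mem_zpowers _)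
  intro k hk
  obtain ⟨k', hk', he⟩ := hmain ⟨k, hk, rfl⟩
  exact hinj hk'.1 hk he ▸ hk'

include hG h3 h2 hC in
/-- An element respecting one lift on the negated part normalises. -/
theorem nrm_of_psi (g : Subgroup.centralizer ({s9 F} : Set (GL I₉ F))) (hg : (g : GL I₉ F) ∈ G)
    {e e' : ZMod 3 × ZMod 3} (he : e ≠ 0) {c : F}
    (h : (psi h2 g : Matrix I₃ I₃ F) * em w e = c • (em w e' * psi h2 g)) : (g : GL I₉ F) ∈ nrm w := by
  obtain ⟨a, rfl⟩ := rel_root hw h
  obtain ⟨g, hgc⟩ := g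
  have hgs : Commute g (s9 F) := Subgroup.mem_centralizer_singleton_iff.1 hgc
  change g ∈ G at hg
  show g ∈ nrm w
  have hle := kz_le hG h3 h2 hC
  let z : Fˣ := Units.mk0 (ch w a) (ch_ne_zero hw a)
  let zu : GL I₉ F := Units.map (Matrix.scalar I₉ : F →+* Matrix I₉ I₉ F).toMonoidHom z
  have hzu : (zu : Matrix I₉ I₉ F) = ch w a • 1 := by
    show Matrix.scalar I₉ (ch w a) = _
    rw [Matrix.scalar_apply, Matrix.smul_one_eq_diagonal]
  have hzc : ∀ x : GL I₉ F, Commute zu x := fun x => Units.ext (by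
    rw [Units.val_mul, Units.val_mul, hzu, Matrix.smul_mul, Matrix.one_mul, Matrix.mul_smul, Matrix.mul_one])
  have hz3 : zu ^ 3 = 1 := by
    rw [← map_pow, show z ^ 3 = 1 from Units.ext (by simpa [z] using ch_pow_three hw a), map_one]
  have hzG : zu ∈ G := hG.scal ((Cfsg.Geo.mem_scalars_iff _).2 ⟨z, hzu⟩)
  set X := g * tu hw ((0, e) : Pt) * g⁻¹ with hX
  set Y := tu hw ((0, e') : Pt) with hY
  set k := (zu * Y)⁻¹ * X with hk
  have hXz : (X : Matrix I₉ I₉ F) * Zm F = ((zu * Y : GL I₉ F) : Matrix I₉ I₉ F) * Zm F := by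
    have e1 := psi_Zm h2 ⟨g, hgc⟩
    have e2 := psi_Zm h2 (⟨g, hgc⟩⁻¹)
    simp only [InvMemClass.coe_inv] at e1 e2
    rw [hX, Units.val_mul, Units.val_mul, Matrix.mul_assoc, e2, tu_coe, Matrix.mul_assoc,
      ← Matrix.mul_assoc (tm w _), tm_Zm, ← Matrix.mul_assoc (g : Matrix I₉ I₉ F),
      ← Matrix.mul_assoc (g : Matrix I₉ I₉ F), e1, map_inv, Matrix.mul_assoc (Zm F), h, Matrix.mul_smul,
      Matrix.smul_mul, Matrix.mul_assoc, Matrix.mul_assoc, Units.mul_inv, Matrix.mul_one, hY, Units.val_mul,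
      tu_coe, hzu, Matrix.smul_mul, Matrix.one_mul, Matrix.smul_mul, tm_Zm]
  have hkK : k ∈ Kz G := by
    refine ⟨G.mul_mem (G.inv_mem (G.mul_mem hzG (hG.tu_mem _)))
      (G.mul_mem (G.mul_mem hg (hG.tu_mem _)) (G.inv_mem hg)),
      (((hzc _).mul_left (commute_tu hw e')).inv_left).mul_left
        ((hgs.mul_left (commute_tu hw e)).mul_left hgs.inv_left), ?_⟩
    rw [hk, Units.val_mul, Matrix.mul_assoc, hXz, ← Matrix.mul_assoc, Units.inv_mul, Matrix.one_mul]
  have hYc : ∀ x ∈ Kz G, Commute Y x := fun x hx => (K0_comm (hle hx) e').symm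
  have hXc : ∀ x ∈ Kz G, Commute X x := by
    intro x hx
    have hx' : g⁻¹ * x * g⁻¹⁻¹ ∈ Kz G := kz_conj h2 (G.inv_mem hg) hgs.inv_left hx
    have := ((K0_comm (hle hx') e).symm).map (MulAut.conj g).toMonoidHom
    simpa [hX, MulAut.conj_apply, mul_assoc] using this
  have hkc : ∀ x ∈ Kz G, Commute k x := fun x hx =>
    (((hzc x).mul_left (hYc x hx)).inv_left).mul_left (hXc x hx)
  have hX3 : X ^ 3 = 1 := by rw [hX, conj_pow, tu_cube, mul_one, mul_inv_cancel]
  have hk3 : k ^ 3 = 1 := by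
    have hc : Commute (zu * Y) k := (hzc k).mul_left (hYc k hkK)
    have : X = zu * Y * k := by rw [hk, mul_inv_cancel_left]
    rw [this, hc.mul_pow, (hzc Y).mul_pow, hz3, hY, tu_cube, one_mul, one_mul] at hX3
    exact hX3
  have hk1 : k = 1 := by
    have h0 := hkc _ (h0_mem hG).1
    have h1 := hkc _ (h1_mem hG h3).1
    obtain ⟨M, A, hkM, hfix, hA, hr⟩ := exists_fix3 hC (hle hkK)
    rw [hkM] at h0 h1 hk3
    have hc : ∀ (u : GL I₃ F) (B : M2), Commute (blk fun _ => M) (blk fun _ => u) →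
        Rel3 w (u : Matrix I₃ I₃ F) (app B) → ∀ x, app A (app B x) = app B (app A x) := by
      intro u B hu hB
      have := hu.eq
      rw [← map_mul, ← map_mul] at this
      have hMu : M * u = u * M := congrFun (blk_injective this) 0
      exact rel3_unique hw (g := M * u) (σ := app A ∘ app B) (τ := app B ∘ app A)
        (by rw [Units.val_mul]; exact hr.mul hB) (by rw [hMu, Units.val_mul]; exact hB.mul hr)
    have hM3 : M ^ 3 = 1 := by
      rw [← map_pow, ← map_one (blk (F := F))] at hk3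
      exact congrFun (blk_injective hk3) 0
    have hA3 := rel3_unique hw (g := M ^ 3) (Rel3_pow hw hr 3) (τ := id)
      (by rw [hM3]; simpa using rel3_sc (w := w) (1 : Fˣ))
    have hid := comm_mu_mv A hA (hc _ mu h0 (by rw [app_mu, h0u_coe]; exact rel3_hom0 hw))
      (hc _ mv h1 (by rw [app_mv, h1u_coe]; exact rel3_hom1 hw h3)) hA3
    rw [hfix.rigid hw fix3_one hA hr (by
      rw [show app A = id from funext hid]; simpa using rel3_sc (w := w) (1 : Fˣ))] at hkM
    rw [hkM, show (fun _ => 1 : ZMod 3 → GL I₃ F) = 1 from rfl, map_one blk]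
  have hXY : X = zu * Y := by
    have : zu * Y * k = X := by rw [hk, mul_inv_cancel_left]
    rw [← this, hk1, mul_one]
  rw [hX, mul_inv_eq_iff_eq_mul] at hXY
  have hrel := congrArg (Units.val : GL I₉ F → Matrix I₉ I₉ F) hXY
  rw [Units.val_mul, Units.val_mul, Units.val_mul, hY, tu_coe, tu_coe, hzu, Matrix.smul_mul, Matrix.one_mul,
    Matrix.smul_mul] at hrel
  refine nrm_of_rel hG h3 hC hg (fun e0 => he (congrArg Prod.snd e0)) (fun e0 => he ?_) hrel
  rw [e0, tm_zero, Matrix.one_mul] at hrel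
  have h' := congrArg (fun X => ((g⁻¹ : GL I₉ F) : Matrix I₉ I₉ F) * X) hrel
  simp only [← Matrix.mul_assoc, Units.inv_mul, Matrix.one_mul, Matrix.mul_smul] at h'
  exact congrArg Prod.snd (eq_zero_of_tm hw h')

include hG h3 h2 hC in
/-- The centraliser of `s9` normalises. -/
theorem s9_le (hbase : BaseHyp hw h3) {g : GL I₉ F} (hg : g ∈ G) (hgs : Commute g (s9 F)) : g ∈ nrm w := by
  set L : Subgroup (GL I₃ F) :=
    (G.comap (Subgroup.centralizer ({s9 F} : Set (GL I₉ F))).subtype).map (psi h2) with hL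
  by_cases hN : ∀ u ∈ L, MemN3 w (u : Matrix I₃ I₃ F)
  · obtain ⟨c, e', hc⟩ := hN _ ⟨⟨g, Subgroup.mem_centralizer_singleton_iff.2 hgs.eq⟩, hg, rfl⟩ (0, 1)
    exact nrm_of_psi hG h3 h2 hC ⟨g, _⟩ hg (by decide) hc
  exfalso
  push Not at hN
  have hin : ∀ (x : GL I₉ F) (u : GL I₃ F), x ∈ G → Commute x (s9 F) →
      (x : Matrix I₉ I₉ F) * Zm F = Zm F * (u : Matrix I₃ I₃ F) → u ∈ L := by
    intro x u hx hxs he
    refine ⟨⟨x, Subgroup.mem_centralizer_singleton_iff.2 hxs.eq⟩, hx, Units.ext ?_⟩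
    rw [psi_coe, he, Zl_Zm_mul]
  have hright : ∀ (x : GL I₉ F) (B : GL I₃ F), x ∈ G → (x : Matrix I₉ I₉ F) = (1 : Matrix I₃ I₃ F) ⊗ₖ B →
      B ∈ L := fun x B hx he => hin x B hx (Units.ext (by
    rw [Units.val_mul, Units.val_mul, he, s9_coe, ← mul_kronecker_mul, ← mul_kronecker_mul, Matrix.one_mul,
      Matrix.mul_one, Matrix.mul_one, Matrix.one_mul])) (by rw [he, one_kron_Zm])
  obtain ⟨d, hd⟩ := exists_up (g := (⟨diagonal fun i : I₃ => if i = 2 then (1 : F) else -1, diagonal fun i : I₃ => if i = 2 then (1 : F) else -1,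
    by rw [diagonal_mul_diagonal, ← diagonal_one]; congr 1; funext i; split_ifs <;> simp,
    by rw [diagonal_mul_diagonal, ← diagonal_one]; congr 1; funext i; split_ifs <;> simp⟩ : GL I₃ F)) (by
      show (diagonal fun i : I₃ => if i = 2 then (1 : F) else -1).det = 1
      rw [Matrix.det_diagonal, show (Finset.univ : Finset I₃) = {0, 1, 2} by decide,
        Finset.prod_insert (by decide), Finset.prod_insert (by decide), Finset.prod_singleton]
      simp (config := { decide := true }))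
  obtain ⟨⟨x, hxc⟩, hxG, hxd⟩ := hbase L
    (fun c => by
      have hm : (Units.map (Matrix.scalar I₉ : F →+* Matrix I₉ I₉ F).toMonoidHom c) ∈ G := hG.scal ⟨c, rfl⟩
      refine hright _ _ hm ?_
      show Matrix.scalar I₉ (c : F) = _
      rw [sc_coe, kronecker_smul, one_kronecker_one, Matrix.scalar_apply, Matrix.smul_one_eq_diagonal])
    (fun e => hright _ _ (hG.tu_mem ((0, e) : Pt)) (by rw [tu_coe, tm, em_zero, eu_coe]))
    (by obtain ⟨u, hu, hue⟩ := hG.b0; exact hright u _ hu hue)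
    (by obtain ⟨u, hu, hue⟩ := hG.b1; exact hright u _ hu hue) hN d
  have hdm : ((psi h2 ⟨x, hxc⟩ : GL I₃ F) : Matrix I₃ I₃ F) = diagonal fun i : I₃ => if i = 2 then (1 : F) else -1 := by
    rw [hxd, hd]
  have hxs : Commute x (s9 F) := Subgroup.mem_centralizer_singleton_iff.1 hxc
  obtain ⟨σ, hσ⟩ := nrm_of_psi hG h3 h2 hC ⟨x, hxc⟩ hxG (e := (0, 1)) (e' := (0, 1)) (by decide) (c := 1) (by
    rw [one_smul, hdm, em_diag, diagonal_mul_diagonal, diagonal_mul_diagonal]
    congr 1; funext i; exact mul_comm _ _)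
  obtain ⟨c, hc⟩ := hσ ((0, (1, 0)) : Pt)
  obtain ⟨⟨a, b⟩, hab⟩ : ∃ y, σ (0, (1, 0)) = ((0, y) : Pt) :=
    ⟨(σ (0, (1, 0))).2, Prod.ext ((acts_split hw hxs hσ).1 _) rfl⟩
  rw [hab] at hc
  have e1 := psi_Zm h2 ⟨x, hxc⟩
  simp only at e1
  have h1 := congrArg (fun X => Zl F * (X * Zm F)) hc
  simp only [Matrix.smul_mul, Matrix.mul_assoc, tm_Zm, e1, Matrix.mul_smul] at h1
  rw [← Matrix.mul_assoc (x : Matrix I₉ I₉ F), e1, Matrix.mul_assoc (Zm F), Zl_Zm_mul,
    ← Matrix.mul_assoc (tm w _), tm_Zm, Matrix.mul_assoc (Zm F), Zl_Zm_mul, hdm] at h1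
  have e10 := congrFun (congrFun h1 1) 0
  have e21 := congrFun (congrFun h1 2) 1
  rw [Matrix.diagonal_mul, Matrix.smul_apply, Matrix.mul_diagonal, em_apply, em_apply, smul_eq_mul] at e10 e21
  have ha : a = 1 := by
    by_contra ha
    rw [if_neg (c := (1 : I₃) = 0 + (a, b).1) (fun h => ha (by rw [zero_add] at h; exact h.symm))] at e10
    simp (config := { decide := true }) [ch_zero] at e10
  subst ha
  simp (config := { decide := true }) [ch_zero] at e10 e21
  have hc1 : c = 1 := e10.symm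
  have hb : ch w b = -1 := by rw [hc1] at e21; linear_combination e21
  have := ch_pow_three hw b
  rw [hb] at this
  exact h2 (by linear_combination -this)

end Hyp

end Cfsg.Agent.Lib.ExtraNine17.CC
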