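import Cfsg.Agent.Lib.ExtraNine17.CoreBase
import Cfsg.Agent.Lib.ExtraNine17.CaseC

/-!
A group containing the normaliser of the standard group of order `3 ^ 5` and not normalising it
contains all of `SL₉`.
-/

set_option autoImplicit false
set_option linter.unusedSectionVars false

namespace Cfsg.Agent.Lib.ExtraNine17

open Matrix

variable {F : Type*} [Field F] [Fintype F]

theorem core (p : ℕ) (hp : p.Prime) (hF : Fintype.card F = p) (hp3 : p % 3 = 1) {w : F}
    (hw : IsPrimitiveRoot w 3) (G : Subgroup (GL I₉ F)) (hG : Over hw G) (hn : ¬ G ≤ nrm w) :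
    Cfsg.Geo.specialLinear I₉ F ≤ G := by
  haveI := Fact.mk hp
  haveI : CharP F p := charP_of_card_eq_prime hF
  have h7 : 7 ≤ p := by
    by_contra h
    have := hp.two_le
    interval_cases p <;> first | omega | norm_num at hp
  have h3 : (3 : F) ≠ 0 := fun hh => by
    have := Nat.le_of_dvd (by norm_num) ((CharP.cast_eq_zero_iff F p 3).1 (by exact_mod_cast hh))
    omega
  refine sl_le_of_allRoots (allRoots_of_one hG hF ?_)
  by_contra hno
  exact hn (caseC hF h7 hG h3 (baseHyp hw hp hF h7 h3) (centralizer_le_nrm hF h7 h3 hG hno))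

end Cfsg.Agent.Lib.ExtraNine17
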