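import Cfsg.Agent.Lib.ExtraNine17.CaseA

/-!
A translation in a single block gives an elementary transvection.
-/

set_option autoImplicit false
set_option linter.unusedSectionVars false

namespace Cfsg.Agent.Lib.ExtraNine17

open Matrix
open scoped Kronecker

variable {F : Type*} [Field F] {w : F} {hw : IsPrimitiveRoot w 3} {G : Subgroup (GL I₉ F)}

/-- Minus the parity map. -/
def sigM (F : Type*) [Field F] : Matrix I₃ I₃ F := Matrix.of fun i j => if i + j = 0 then -1 else 0

/-- The projection on the even vectors. -/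
def evenP (F : Type*) [Field F] : Matrix I₃ I₃ F :=
  (2 : F)⁻¹ • (1 - sigM F)

theorem sigM_apply (i j : I₃) : sigM F i j = if i + j = 0 then -1 else 0 := rfl

theorem sigM_sq : sigM F * sigM F = 1 := by
  ext i j
  rw [Matrix.mul_apply, Finset.sum_eq_single (-i) ?_ (fun h => absurd (Finset.mem_univ _) h), sigM_apply,
    sigM_apply, if_pos (add_neg_cancel i), Matrix.one_apply]
  · by_cases h : i = j
    · subst h; simp
    · rw [if_neg h, if_neg, mul_zero]
      intro e
      exact h (neg_add_eq_zero.1 e)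
  · intro m _ hm
    rw [sigM_apply, if_neg, zero_mul]
    intro e
    exact hm (eq_neg_of_add_eq_zero_right e)

theorem evenP_sq (h2 : (2 : F) ≠ 0) : evenP F * evenP F = evenP F := by
  rw [evenP, Matrix.smul_mul, Matrix.mul_smul, sub_mul, mul_sub, mul_sub, one_mul, one_mul, mul_one, sigM_sq,
    smul_smul, show (1 : Matrix I₃ I₃ F) - sigM F - (sigM F - 1) = (2 : F) • (1 - sigM F) by rw [two_smul]; abel,
    smul_smul]
  congr 1
  field_simp

theorem w_pows (hw : IsPrimitiveRoot w 3) : w ^ 2 = -w - 1 ∧ w ^ 3 = 1 ∧ w ^ 4 = w := by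
  have h2 := w_rel hw
  have h3 := hw.pow_eq_one
  exact ⟨by linear_combination h2, h3, by linear_combination w * h3⟩

theorem braid (hw : IsPrimitiveRoot w 3) (h3 : (3 : F) ≠ 0) :
    hom0 w * hom1 w * hom0 w = hom1 w * hom0 w * hom1 w := by
  obtain ⟨p2, p3, p4⟩ := w_pows hw
  have hs : ∀ f : I₃ → F, ∑ m, f m = f 0 + f 1 + f 2 := fun f => by
    rw [show (Finset.univ : Finset I₃) = {0, 1, 2} by decide, Finset.sum_insert (by decide),
      Finset.sum_insert (by decide), Finset.sum_singleton, add_assoc]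
  ext i j
  rcases (by decide : ∀ m : I₃, m = 0 ∨ m = 1 ∨ m = 2) i with rfl | rfl | rfl <;>
    rcases (by decide : ∀ m : I₃, m = 0 ∨ m = 1 ∨ m = 2) j with rfl | rfl | rfl <;>
    simp (config := { decide := true }) [Matrix.mul_apply, hs, hom0, hom1, diagonal_apply, Matrix.one_apply] <;>
    field_simp <;> ring_nf <;> simp only [p4, p3, p2] <;> ring1

theorem sigma_first (hw : IsPrimitiveRoot w 3) (h3 : (3 : F) ≠ 0) :
    hom0 w * hom1 (w ^ 2) * hom0 w = sigM F * hom1 w := by
  obtain ⟨p2, p3, p4⟩ := w_pows hw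
  have hs : ∀ f : I₃ → F, ∑ m, f m = f 0 + f 1 + f 2 := fun f => by
    rw [show (Finset.univ : Finset I₃) = {0, 1, 2} by decide, Finset.sum_insert (by decide),
      Finset.sum_insert (by decide), Finset.sum_singleton, add_assoc]
  ext i j
  rcases (by decide : ∀ m : I₃, m = 0 ∨ m = 1 ∨ m = 2) i with rfl | rfl | rfl <;>
    rcases (by decide : ∀ m : I₃, m = 0 ∨ m = 1 ∨ m = 2) j with rfl | rfl | rfl <;>
    simp (config := { decide := true }) [Matrix.mul_apply, hs, hom0, hom1, diagonal_apply, Matrix.one_apply,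
      sigM_apply] <;>
    field_simp <;> ring_nf <;> simp only [p4, p3, p2] <;> ring1

theorem sigma_second (hw : IsPrimitiveRoot w 3) (h3 : (3 : F) ≠ 0) :
    hom0 w * hom0 w * hom1 w * (hom0 w * hom0 w) = sigM F * hom1 (w ^ 2) := by
  obtain ⟨p2, p3, p4⟩ := w_pows hw
  have p5 : w ^ 5 = -w - 1 := by rw [pow_succ, p4, ← p2]; ring
  have hs : ∀ f : I₃ → F, ∑ m, f m = f 0 + f 1 + f 2 := fun f => by
    rw [show (Finset.univ : Finset I₃) = {0, 1, 2} by decide, Finset.sum_insert (by decide),
      Finset.sum_insert (by decide), Finset.sum_singleton, add_assoc]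
  ext i j
  rcases (by decide : ∀ m : I₃, m = 0 ∨ m = 1 ∨ m = 2) i with rfl | rfl | rfl <;>
    rcases (by decide : ∀ m : I₃, m = 0 ∨ m = 1 ∨ m = 2) j with rfl | rfl | rfl <;>
    simp (config := { decide := true }) [Matrix.mul_apply, hs, hom0, hom1, diagonal_apply, Matrix.one_apply,
      sigM_apply] <;>
    field_simp <;> ring_nf <;> simp only [p5, p4, p3, p2] <;> ring1

/-- A translation in a single block gives a transvection. -/
theorem oneRoot_of_translation [Fintype F] {p : ℕ} [Fact p.Prime] [CharP F p] (hp : Fintype.card F = p)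
    (h7 : 7 ≤ p) {h3 : (3 : F) ≠ 0} (hG : Over hw G) (hbase : BaseHyp hw h3)
    (hU : Pi.mulSingle 0 (eu hw (0, 1)) ∈ blocks G) : OneRoot G := by
  classical
  have h2 : (2 : F) ≠ 0 := fun hh => by
    have := Nat.le_of_dvd (by norm_num) ((CharP.cast_eq_zero_iff F p 2).1 (by exact_mod_cast hh))
    omega
  obtain ⟨n, hn, hnm⟩ := hG.sw
  -- powers of one homology
  have hY : (fun k : ZMod 3 => h0u hw ^ k.val) ∈ blocks G := by
    show blk _ ∈ G
    have e : blk (fun k : ZMod 3 => h0u hw ^ k.val) = n * blk (Pi.mulSingle 0 (eu hw (0, 1))) * n⁻¹ := by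
      rw [eq_mul_inv_iff_mul_eq]
      refine Units.ext ?_
      ext x y
      have hb : (blk (Pi.mulSingle 0 (eu hw (0, 1))) : Matrix I₉ I₉ F) =
          diagonal fun z : I₉ => if z.2 = 0 then ch w z.1 else 1 := by
        ext a b
        rw [blk_apply, diagonal_apply]
        by_cases hk : a.2 = 0
        · rw [hk, Pi.mulSingle_eq_same, eu_coe, em_diag, diagonal_apply, one_mul, if_pos rfl]
          by_cases hab : a = b
          · subst hab; simp [hk]
          · rw [if_neg hab]
            by_cases h0 : (0 : ZMod 3) = b.2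
            · rw [if_pos h0, if_neg fun e => hab (Prod.ext e (hk.trans h0))]
            · rw [if_neg h0]
        · rw [Pi.mulSingle_eq_of_ne hk, Units.val_one, Matrix.one_apply, if_neg hk]
          by_cases hab : a = b
          · subst hab; simp
          · rw [if_neg hab]
            by_cases h0 : a.2 = b.2
            · rw [if_pos h0, if_neg fun e => hab (Prod.ext e h0)]
            · rw [if_neg h0]
      have hc : (blk (fun k : ZMod 3 => h0u hw ^ k.val) : Matrix I₉ I₉ F) =
          diagonal fun z : I₉ => if z.1 = 0 then ch w z.2 else 1 := by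
        rw [blk_coe]
        simp only [Units.val_pow_eq_pow_val, h0u_coe, hom0, diagonal_pow]
        rw [Matrix.blockDiagonal_diagonal]
        congr 1
        funext z
        by_cases h : z.1 = 0 <;> simp [h, ch]
      rw [Units.val_mul, Units.val_mul, hnm, hb, hc, Matrix.mul_diagonal, Matrix.diagonal_mul, swapM_apply]
      by_cases hxy : x = (y.2, y.1)
      · rw [if_pos hxy, hxy, one_mul, mul_one]
      · rw [if_neg hxy, mul_zero, zero_mul]
    rw [e]
    exact G.mul_mem (G.mul_mem hn hU) (G.inv_mem hn)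
  set Y : ZMod 3 → GL I₃ F := fun k => h0u hw ^ k.val with hYdef
  set a := h0u hw with ha
  set b := h1u hw h3 with hb
  have hab : (fun _ => a * b) ∈ blocks G := (blocks G).mul_mem (blocks_h0 hG) (blocks_h1 hG h3)
  have hbr : a * b * a = b * a * b := Units.ext (by
    simp only [Units.val_mul, ha, hb, h0u_coe, h1u_coe]; exact braid hw h3)
  have hconj : a * b * a * (a * b)⁻¹ = b := by
    rw [mul_inv_eq_iff_eq_mul, hbr]; group
  set σ : GL I₃ F := ⟨sigM F, sigM F, sigM_sq, sigM_sq⟩ with hσ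
  have hb1 : ((b⁻¹ : GL I₃ F) : Matrix I₃ I₃ F) = hom1 (w ^ 2) := rfl
  have hs1 : a * b⁻¹ * a = σ * b := Units.ext (by
    simp only [Units.val_mul, hb1, ha, hb, hσ, h0u_coe, h1u_coe]; exact sigma_first hw h3)
  have hs2 : a * a * b * (a * a) = σ * b⁻¹ := Units.ext (by
    simp only [Units.val_mul, hb1, ha, hb, hσ, h0u_coe, h1u_coe]; exact sigma_second hw h3)
  have hb3 : (b * b)⁻¹ = b := by
    refine inv_eq_of_mul_eq_one_right ?_
    have h3' : hom1 w * hom1 w * hom1 w = 1 := by
      have e1 : hom1 w * hom1 w = hom1 (w ^ 2) := by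
        rw [hom1, hom1, add_mul, mul_add, mul_add, one_mul, one_mul, mul_one, Matrix.smul_mul, Matrix.mul_smul,
          allOnes_mul, smul_smul, smul_smul, add_assoc, ← add_smul, ← add_smul]
        congr 2
        field_simp
        ring
      rw [e1]
      exact _root_.mul_eq_one_comm.1 (hom1_mul hw h3)
    exact Units.ext (by simp only [Units.val_mul, hb, h1u_coe]; exact h3')
  have hσc : (fun _ => σ) ∈ blocks G := by
    have := (blocks G).mul_mem ((blocks G).mul_mem ((blocks G).mul_mem (blocks_h0 hG)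
      ((blocks G).inv_mem (blocks_h1 hG h3))) (blocks_h0 hG)) ((blocks G).inv_mem (blocks_h1 hG h3))
    convert this using 1
    funext _
    show σ = a * b⁻¹ * a * b⁻¹
    rw [hs1, mul_inv_cancel_right]
  set Y' := (fun _ => a * b) * Y * (fun _ => a * b)⁻¹ with hY'
  have hY'm : Y' ∈ blocks G := (blocks G).mul_mem ((blocks G).mul_mem hab hY) ((blocks G).inv_mem hab)
  have hS : Pi.mulSingle 0 σ ∈ blocks G := by
    have := (blocks G).mul_mem hσc ((blocks G).inv_mem ((blocks G).mul_mem ((blocks G).mul_mem hY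
      ((blocks G).inv_mem hY'm)) ((blocks G).mul_mem hY ((blocks G).inv_mem hY'm))))
    convert this using 1
    funext k
    show (Pi.mulSingle 0 σ : ZMod 3 → GL I₃ F) k = σ * (Y k * (a * b * Y k * (a * b)⁻¹)⁻¹ * (Y k * (a * b * Y k * (a * b)⁻¹)⁻¹))⁻¹
    rcases (by decide : ∀ m : ZMod 3, m = 0 ∨ m = 1 ∨ m = 2) k with rfl | rfl | rfl
    · rw [Pi.mulSingle_eq_same, show Y 0 = 1 from pow_zero a]
      group
    · rw [Pi.mulSingle_eq_of_ne (by decide), show Y 1 = a from pow_one a, hconj]
      rw [show a * b⁻¹ * (a * b⁻¹) = σ by rw [← mul_assoc, hs1, mul_inv_cancel_right], mul_inv_cancel]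
    · rw [Pi.mulSingle_eq_of_ne (by decide), show Y 2 = a * a from pow_two a]
      have e2 : a * b * (a * a) * (a * b)⁻¹ = b * b := by
        rw [show a * b * (a * a) * (a * b)⁻¹ = (a * b * a * (a * b)⁻¹) * (a * b * a * (a * b)⁻¹) by group, hconj]
      rw [e2, hb3, show a * a * b * (a * a * b) = σ by rw [← mul_assoc (a * a * b), hs2, inv_mul_cancel_right],
        mul_inv_cancel]
  -- a single reflection acting on the second factor
  let φ : GL I₃ F →* GL I₉ F := Units.map
    { toFun := fun A => evenP F ⊗ₖ A + (1 - evenP F) ⊗ₖ (1 : Matrix I₃ I₃ F)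
      map_one' := by rw [← add_kronecker, add_sub_cancel, one_kronecker_one]
      map_mul' := fun A B => by
        rw [add_mul, mul_add, mul_add, ← mul_kronecker_mul, ← mul_kronecker_mul, ← mul_kronecker_mul,
          ← mul_kronecker_mul]
        simp only [mul_sub, sub_mul, evenP_sq h2, Matrix.mul_one, Matrix.one_mul, sub_self, zero_kronecker,
          add_zero, zero_add, sub_zero] }
  let κ : GL I₃ F →* GL I₉ F := Units.map
    { toFun := fun A => (1 : Matrix I₃ I₃ F) ⊗ₖ A
      map_one' := one_kronecker_one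
      map_mul' := fun A B => by rw [← mul_kronecker_mul, Matrix.one_mul] }
  have φ_coe : ∀ A : GL I₃ F, (φ A : Matrix I₉ I₉ F) =
      evenP F ⊗ₖ (A : Matrix I₃ I₃ F) + (1 - evenP F) ⊗ₖ (1 : Matrix I₃ I₃ F) := fun A => rfl
  have κ_coe : ∀ A : GL I₃ F, (κ A : Matrix I₉ I₉ F) = (1 : Matrix I₃ I₃ F) ⊗ₖ (A : Matrix I₃ I₃ F) :=
    fun A => rfl
  let M : Subgroup (GL I₃ F) := G.comap φ
  let LR : Subgroup (GL I₃ F) := G.comap κ
  let A₀ : GL I₃ F := dgu fun l => if l = 0 then -1 else 1
  have hA₀ : A₀ ∈ M := by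
    show φ A₀ ∈ G
    have hS' : blk (Pi.mulSingle 0 σ) ∈ G := hS
    convert hS' using 1
    refine Units.ext ?_
    ext ⟨i, k⟩ ⟨j, m⟩
    rw [φ_coe, blk_apply, Matrix.add_apply, kroneckerMap_apply, kroneckerMap_apply, dgu_coe, Matrix.sub_apply]
    dsimp only
    by_cases hkm : k = m
    · subst hkm
      rw [if_pos rfl, diagonal_apply_eq, Matrix.one_apply_eq, mul_one]
      by_cases hk : k = 0
      · subst hk
        rw [Pi.mulSingle_eq_same, if_pos rfl, Units.val_neg, Units.val_one]
        show _ = sigM F i j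
        rw [evenP, Matrix.smul_apply, Matrix.sub_apply, smul_eq_mul]
        field_simp
        ring
      · simp [Pi.mulSingle_eq_of_ne hk, hk]
    · rw [if_neg hkm, diagonal_apply_ne _ hkm, Matrix.one_apply_ne hkm, mul_zero, mul_zero, add_zero]
  have hLsc : ∀ c, sc c ∈ LR := fun c => by
    refine hG.scal ((Cfsg.Geo.mem_scalars_iff _).2 ⟨c, ?_⟩)
    rw [κ_coe, sc_coe, kronecker_smul, one_kronecker_one]
  have hLe : ∀ e, eu hw e ∈ LR := fun e => by
    show κ _ ∈ G
    convert hG.tu_mem (0, e) using 1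
    refine Units.ext ?_
    rw [κ_coe, tu_coe, tm, em_zero, eu_coe]
  have hL0 : h0u hw ∈ LR := by
    obtain ⟨u, hu, he⟩ := hG.b0
    show κ _ ∈ G
    convert hu using 1
    exact Units.ext (by rw [κ_coe, he, h0u_coe])
  have hL1 : h1u hw h3 ∈ LR := by
    obtain ⟨u, hu, he⟩ := hG.b1
    show κ _ ∈ G
    convert hu using 1
    exact Units.ext (by rw [κ_coe, he, h1u_coe])
  have hA₀N : ¬ MemN3 w (A₀ : Matrix I₃ I₃ F) := by
    intro hh
    obtain ⟨c, e', he⟩ := hh (1, 0)
    have v := fun j => congrFun (congrFun he (j + 1)) j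
    simp only [A₀, dgu_coe, Matrix.diagonal_mul, Matrix.mul_diagonal, Matrix.smul_apply, em_apply, zero_mul,
      ch_zero, if_true, mul_one, smul_eq_mul, add_right_inj] at v
    have he1 : 1 = e'.1 := by
      by_contra hne
      have := v 0
      simp [hne] at this
    have v0 := v 0
    have v1 := v 1
    have v2 := v 2
    simp (config := { decide := true }) [he1.symm, ch_zero] at v0 v1 v2
    have hc : c = -1 := by linear_combination v0
    rw [hc] at v1
    have hch : ch w e'.2 = -1 := by linear_combination v1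
    have := ch_pow_three hw e'.2
    rw [hch] at this
    exact h2 (by linear_combination -this)
  let L : Subgroup (GL I₃ F) := LR ⊔ M
  have hnormal : L ≤ Subgroup.normalizer (M : Set (GL I₃ F)) := by
    refine sup_le (fun B hB => ?_) Subgroup.le_normalizer
    rw [Subgroup.mem_normalizer_iff]
    have key : ∀ X, φ (B * X * B⁻¹) = κ B * φ X * (κ B)⁻¹ := by
      intro X
      refine Units.ext ?_
      rw [← map_inv, Units.val_mul, Units.val_mul, φ_coe, φ_coe, κ_coe, κ_coe, mul_add, add_mul,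
        ← mul_kronecker_mul, ← mul_kronecker_mul, ← mul_kronecker_mul, ← mul_kronecker_mul, Matrix.one_mul,
        Matrix.one_mul, Matrix.mul_one, Matrix.mul_one, Matrix.mul_one, Units.mul_inv, Units.val_mul, Units.val_mul]
    intro X
    show φ X ∈ G ↔ φ (B * X * B⁻¹) ∈ G
    rw [key]
    exact ((Subgroup.mul_mem_cancel_right _ (G.inv_mem hB)).trans (Subgroup.mul_mem_cancel_left _ hB)).symm
  have htop := hbase L (fun c => le_sup_left (α := Subgroup (GL I₃ F)) (hLsc c))
    (fun e => le_sup_left (α := Subgroup (GL I₃ F)) (hLe e)) (le_sup_left (α := Subgroup (GL I₃ F)) hL0)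
    (le_sup_left (α := Subgroup (GL I₃ F)) hL1) ⟨A₀, le_sup_right (α := Subgroup (GL I₃ F)) hA₀, hA₀N⟩
  have hA₀sc : ¬ IsSc A₀ := by
    rintro ⟨c, hc⟩
    have e0 := congrArg (fun X : GL I₃ F => (X : Matrix I₃ I₃ F) 0 0) hc
    have e1 := congrArg (fun X : GL I₃ F => (X : Matrix I₃ I₃ F) 1 1) hc
    simp [A₀, dgu_coe, sc_coe] at e0 e1
    exact h2 (by linear_combination e1 - e0)
  have hE := sl_le_of_normalised M (fun t k hk => (Subgroup.mem_normalizer_iff.1 (hnormal (htop t)) k).1 hk)
    ⟨A₀, hA₀, hA₀sc⟩ (SpecialLinearGroup.transvection (show (0 : I₃) ≠ 2 by decide) 1)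
  -- the space of first factors
  set E02 : Matrix I₃ I₃ F := Matrix.single 0 2 1 with hE02
  have hE2 : E02 * E02 = 0 := by
    rw [hE02, Matrix.single_mul_single_of_ne _ _ _ _ (by decide)]
  let S : Set (Matrix I₃ I₃ F) := {B | ∃ u ∈ G, (u : Matrix I₉ I₉ F) = 1 + B ⊗ₖ E02}
  have hSadd : ∀ B C, B ∈ S → C ∈ S → B + C ∈ S := by
    rintro B C ⟨u, hu, hue⟩ ⟨v, hv, hve⟩
    refine ⟨u * v, G.mul_mem hu hv, ?_⟩
    rw [Units.val_mul, hue, hve, mul_add, add_mul, add_mul, one_mul, one_mul, mul_one, ← mul_kronecker_mul, hE2,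
      kronecker_zero, add_zero, add_kronecker, add_assoc]
  have hSzero : (0 : Matrix I₃ I₃ F) ∈ S := ⟨1, G.one_mem, by rw [zero_kronecker, add_zero]; rfl⟩
  have hbij : Function.Bijective (ZMod.castHom dvd_rfl F : ZMod p →+* F) :=
    (Fintype.bijective_iff_injective_and_card _).2 ⟨ZMod.castHom_injective _, by rw [ZMod.card, hp]⟩
  have hSsmul : ∀ (c : F) B, B ∈ S → c • B ∈ S := by
    intro c B hB
    obtain ⟨z, rfl⟩ := hbij.2 c
    rw [show (ZMod.castHom dvd_rfl F : ZMod p →+* F) z = (z.val : F) by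
      rw [← map_natCast (ZMod.castHom dvd_rfl F : ZMod p →+* F), ZMod.natCast_zmod_val]]
    induction z.val with
    | zero => simpa using hSzero
    | succ m ih => rw [Nat.cast_succ, add_smul, one_smul]; exact hSadd _ _ ih hB
  have hSconj : ∀ e B, B ∈ S → (eu hw e : Matrix I₃ I₃ F) * B * ((eu hw e)⁻¹ : GL I₃ F).val ∈ S := by
    rintro e B ⟨u, hu, hue⟩
    refine ⟨blk (fun _ => eu hw e) * u * (blk (fun _ => eu hw e))⁻¹,
      G.mul_mem (G.mul_mem (blocks_em hG e) hu) (G.inv_mem (blocks_em hG e)), ?_⟩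
    rw [← map_inv, Units.val_mul, Units.val_mul, hue, blk_coe, blk_coe]
    simp only [Pi.inv_apply]
    rw [← kron_one_eq, ← kron_one_eq, mul_add, add_mul, mul_one, ← mul_kronecker_mul, ← mul_kronecker_mul,
      ← mul_kronecker_mul, Units.mul_inv, Matrix.one_mul, Matrix.one_mul, Matrix.mul_one, one_kronecker_one]
  have hP : evenP F ∈ S := by
    refine ⟨φ _, hE, ?_⟩
    rw [φ_coe]
    show evenP F ⊗ₖ Matrix.transvection 0 2 1 + _ = _
    rw [Matrix.transvection, kronecker_add, add_right_comm, ← add_kronecker, add_sub_cancel, one_kronecker_one]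
  have hdiag : ∀ (B : Matrix I₃ I₃ F) (c : ZMod 3) (i j : I₃),
      ((eu hw (0, c) : Matrix I₃ I₃ F) * B * ((eu hw (0, c))⁻¹ : GL I₃ F).val) i j =
        ch w (c * (i - j)) * B i j := by
    intro B c i j
    have hi : (eu hw (0, c))⁻¹ = eu hw (0, -c) := inv_eq_of_mul_eq_one_right (Units.ext (by
      rw [Units.val_mul, eu_coe, eu_coe, em_mul hw, mul_zero, ch_zero, one_smul, Prod.mk_add_mk, zero_add,
        add_neg_cancel, Prod.mk_zero_zero, em_zero]; rfl))
    rw [hi, eu_coe, eu_coe, em_diag, em_diag, Matrix.mul_diagonal, Matrix.diagonal_mul, mul_right_comm,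
      ← ch_add hw]
    congr 2
    ring
  let d : F → F → F → Matrix I₃ I₃ F := fun x y z =>
    diagonal fun i => if i = 0 then x else if i = 1 then y else z
  have hD1 : d 3 (3 / 2) (3 / 2) ∈ S := by
    convert hSadd _ _ (hSadd _ _ hP (hSconj (0, 1) _ hP)) (hSconj (0, 2) _ hP) using 1
    ext i j
    rw [Matrix.add_apply, Matrix.add_apply, hdiag, hdiag]
    obtain ⟨p2, p3, p4⟩ := w_pows hw
    rcases (by decide : ∀ m : I₃, m = 0 ∨ m = 1 ∨ m = 2) i with rfl | rfl | rfl <;>
      rcases (by decide : ∀ m : I₃, m = 0 ∨ m = 1 ∨ m = 2) j with rfl | rfl | rfl <;>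
      simp (config := { decide := true }) [d, evenP, sigM_apply, diagonal_apply, Matrix.one_apply, ch_zero] <;>
      (try simp only [show (-1 : ZMod 3) = 2 by decide, show (-2 : ZMod 3) = 1 by decide, show ch w 1 = w from ch_one,
        show ch w 2 = w ^ 2 from rfl]) <;>
      field_simp <;> ring_nf <;>
      (try rw [show (-1 : ZMod 3) = 2 by decide]) <;> (try rw [show (-2 : ZMod 3) = 1 by decide]) <;>
      (try rw [show ch w 1 = w from ch_one]) <;> (try rw [show ch w 2 = w ^ 2 from rfl]) <;>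
      (try simp only [p4, p3, p2]) <;> (try ring1)
  have hshift : ∀ x y z, d x y z ∈ S → d z x y ∈ S := by
    intro x y z hd
    convert hSconj (1, 0) _ hd using 1
    rw [eq_comm]
    have : (eu hw (1, 0) : Matrix I₃ I₃ F) * d x y z = d z x y * (eu hw (1, 0) : Matrix I₃ I₃ F) := by
      ext i j
      simp only [d, eu_coe, Matrix.mul_diagonal, Matrix.diagonal_mul, em_apply, zero_mul, ch_zero]
      rcases (by decide : ∀ m : I₃, m = 0 ∨ m = 1 ∨ m = 2) i with rfl | rfl | rfl <;>
        rcases (by decide : ∀ m : I₃, m = 0 ∨ m = 1 ∨ m = 2) j with rfl | rfl | rfl <;>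
        simp (config := { decide := true })
    rw [this, Matrix.mul_assoc, Units.mul_inv, Matrix.mul_one]
  have hD2 := hshift _ _ _ hD1
  have hD3 := hshift _ _ _ hD2
  have h6 : d 6 0 0 ∈ S := by
    convert hSadd _ _ (hSsmul 3 _ hD1) (hSsmul (-1) _ (hSadd _ _ hD2 hD3)) using 1
    ext i j
    rcases (by decide : ∀ m : I₃, m = 0 ∨ m = 1 ∨ m = 2) i with rfl | rfl | rfl <;>
      rcases (by decide : ∀ m : I₃, m = 0 ∨ m = 1 ∨ m = 2) j with rfl | rfl | rfl <;>
      simp (config := { decide := true }) [d, diagonal_apply] <;> (try field_simp) <;> ring1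
  obtain ⟨u, hu, hue⟩ := h6
  refine ⟨(0, 0), (0, 2), 6, by decide, ?_, u, hu, ?_⟩
  · rw [show (6 : F) = 2 * 3 by norm_num]
    exact mul_ne_zero h2 h3
  · rw [hue, Matrix.transvection]
    congr 1
    ext ⟨i, k⟩ ⟨j, m⟩
    rw [kroneckerMap_apply, hE02, Matrix.single_apply, Matrix.single_apply]
    simp only [d, diagonal_apply, Prod.ext_iff]
    rcases (by decide : ∀ m : I₃, m = 0 ∨ m = 1 ∨ m = 2) i with rfl | rfl | rfl <;>
      rcases (by decide : ∀ m : I₃, m = 0 ∨ m = 1 ∨ m = 2) j with rfl | rfl | rfl <;>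
      simp (config := { decide := true })

end Cfsg.Agent.Lib.ExtraNine17
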