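import Cfsg.Agent.Lib.ExtraNine17.CaseA
import Cfsg.Agent.Lib.ExtraNine17.CaseB
import Cfsg.Agent.Lib.ExtraNine17.SingleRoot
import Cfsg.Agent.Lib.ExtraNine17.Base

/-!
Centralisers of lifts of points in a group without transvections.
-/

set_option autoImplicit false
set_option linter.unusedSectionVars false

namespace Cfsg.Agent.Lib.ExtraNine17

open Matrix

variable {F : Type*} [Field F] [Fintype F] {w : F} {p : ℕ}

theorem baseHyp (hw : IsPrimitiveRoot w 3) (hp : p.Prime) (hF : Fintype.card F = p) (h7 : 7 ≤ p)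
    (h3 : (3 : F) ≠ 0) : BaseHyp hw h3 := by
  intro L hsc hE h0 h1 hout
  have hb := base hw p hp hF h7 L (fun g hg => by
    obtain ⟨c, hc⟩ := (Cfsg.Geo.mem_scalars_iff _).1 hg
    rw [show g = sc c from Units.ext (by rw [hc, sc_coe])]
    exact hsc c) hE ⟨_, h0, h0u_coe hw⟩ ⟨_, h1, h1u_coe hw h3⟩ hout
  intro t
  refine LinGroup.SL_transvection_induction (fun t => up t ∈ L) (by rw [map_one]; exact L.one_mem)
    (fun i j hij c => ?_) (fun A B hA hB => by rw [map_mul]; exact L.mul_mem hA hB) t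
  obtain ⟨u, hu, hue⟩ := hb i j hij c
  have e : up (SpecialLinearGroup.transvection hij c) = u :=
    Units.ext (by rw [up_coe, hue, LinGroup.coe_transvection hij c])
  rwa [e]

variable [Fact p.Prime] [CharP F p] {hw : IsPrimitiveRoot w 3} {G : Subgroup (GL I₉ F)}

/-- Without transvections the centraliser of every lift normalises the standard group. -/
theorem centralizer_le_nrm (hF : Fintype.card F = p) (h7 : 7 ≤ p) (h3 : (3 : F) ≠ 0) (hG : Over hw G)
    (hno : ¬ OneRoot G) (v : Pt) (hv : v ≠ 0) (g : GL I₉ F) (hg : g ∈ G)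
    (hc : ∃ c : F, (g : Matrix I₉ I₉ F) * tm w v = c • (tm w v * g)) : g ∈ nrm w := by
  have hb := baseHyp hw (Fact.out) hF h7 h3
  have hN : ∀ f ∈ blocks G, ∀ k, MemN3 w ((f k : GL I₃ F) : Matrix I₃ I₃ F) := fun f hf k => by
    by_contra hk
    exact hno (caseA hG hb hF h7 hf hk)
  have hblk : ∀ f ∈ blocks G, blk f ∈ nrm w := fun f hf =>
    (single_or_nrm hG h3 hN hf).resolve_left fun hU => hno (oneRoot_of_translation hF h7 hG hb hU)
  obtain ⟨c, hc⟩ := hc
  obtain ⟨n, hn, σ, hσ, hσv⟩ := exists_acts h3 hG hv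
  have hσpx : σ px = v := hσv
  have hnn : n ∈ nrm w := ⟨σ, hσ⟩
  obtain ⟨d, hd⟩ := hσ px
  rw [hσpx] at hd
  have hd0 : d ≠ 0 := by
    intro h0
    rw [h0, zero_smul, ← tu_coe hw, ← Units.val_mul] at hd
    exact (n * tu hw px).ne_zero hd
  set g' := n⁻¹ * g * n with hg'
  have hni : ((n⁻¹ : GL I₉ F) : Matrix I₉ I₉ F) * tm w v = d⁻¹ • (tm w px * (n⁻¹ : GL I₉ F)) := by
    rw [eq_inv_smul_iff₀ hd0]
    have := congrArg (fun X => ((n⁻¹ : GL I₉ F) : Matrix I₉ I₉ F) * X * ((n⁻¹ : GL I₉ F) : Matrix I₉ I₉ F)) hd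
    simp only [Matrix.mul_smul, Matrix.smul_mul, ← Matrix.mul_assoc, Units.inv_mul, Matrix.one_mul] at this
    simp only [Matrix.mul_assoc, Units.mul_inv, Matrix.mul_one] at this
    exact this.symm
  have hc' : (g' : Matrix I₉ I₉ F) * tm w px = c • (tm w px * g') := by
    rw [hg', Units.val_mul, Units.val_mul, Matrix.mul_assoc, Matrix.mul_assoc, hd, Matrix.mul_smul,
      Matrix.mul_smul, ← Matrix.mul_assoc (g : Matrix I₉ I₉ F), hc, Matrix.smul_mul, Matrix.mul_smul, smul_smul,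
      ← Matrix.mul_assoc ((n⁻¹ : GL I₉ F) : Matrix I₉ I₉ F), ← Matrix.mul_assoc ((n⁻¹ : GL I₉ F) : Matrix I₉ I₉ F),
      hni, Matrix.smul_mul, Matrix.smul_mul, smul_smul, mul_comm d c, mul_assoc, mul_inv_cancel₀ hd0, mul_one]
    simp only [Matrix.mul_assoc]
  obtain ⟨a, rfl⟩ : ∃ a, c = ch w a := by
    refine exists_ch hw ?_
    have hx3 : tm w px * tm w px * tm w px = 1 := by
      rw [tm_mul hw, Matrix.smul_mul, tm_mul hw, smul_smul, ← ch_add hw,
        show cocy px px + cocy (px + px) px = 0 by decide, show px + px + px = 0 by decide, tm_zero, ch_zero,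
        one_smul]
    have h4 : (g' : Matrix I₉ I₉ F) * (tm w px * tm w px * tm w px) =
        (c * c * c) • (tm w px * tm w px * tm w px * g') := by
      simp only [Matrix.mul_assoc]
      rw [← Matrix.mul_assoc (g' : Matrix I₉ I₉ F), hc', Matrix.smul_mul, Matrix.mul_assoc,
        ← Matrix.mul_assoc (g' : Matrix I₉ I₉ F), hc', Matrix.smul_mul, Matrix.mul_assoc, hc']
      simp only [Matrix.mul_smul, smul_smul, Matrix.mul_assoc, mul_assoc]
    rw [hx3, Matrix.mul_one, Matrix.one_mul] at h4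
    have h5 : (c * c * c) • (g' : Matrix I₉ I₉ F) = (1 : F) • (g' : Matrix I₉ I₉ F) := by rw [← h4, one_smul]
    rw [pow_succ, pow_two]
    exact smul_left_injective F g'.ne_zero h5
  set y : Pt := ((0, 0), (a, 0)) with hy
  have hgy : ((tu hw y * g' : GL I₉ F) : Matrix I₉ I₉ F) * tm w px = tm w px * (tu hw y * g' : GL I₉ F) := by
    rw [Units.val_mul, tu_coe, Matrix.mul_assoc, hc', Matrix.mul_smul, ← Matrix.mul_assoc, ← Matrix.mul_assoc,
      tm_mul hw, tm_mul hw, Matrix.smul_mul, Matrix.smul_mul, smul_smul, ← ch_add hw, add_comm y px]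
    congr 2
    simp [cocy, hy, px]
  obtain ⟨f, hf⟩ := exists_blk hw hgy
  have hg'G : g' ∈ G := G.mul_mem (G.mul_mem (G.inv_mem hn) hg) hn
  have hfG : f ∈ blocks G := by
    show blk f ∈ G
    rw [hf]
    exact G.mul_mem (hG.tu_mem y) hg'G
  have h1 := hblk f hfG
  rw [hf] at h1
  have h2 : g' ∈ nrm w := (Subgroup.mul_mem_cancel_left _ (norm9_tu hw y)).1 h1
  have h5 : n * g' * n⁻¹ ∈ nrm w := (nrm w).mul_mem ((nrm w).mul_mem hnn h2) ((nrm w).inv_mem hnn)
  rwa [hg', show n * (n⁻¹ * g * n) * n⁻¹ = g by group] at h5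

end Cfsg.Agent.Lib.ExtraNine17
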