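import Mathlib
import Cfsg.Prelude.Def_GeometricClasses

/-!
The standard group of order `3 ^ 5` and exponent `3` in nine variables, as a Kronecker square of the
group of order `27` in three variables.
-/

set_option autoImplicit false
set_option linter.unusedSectionVars false

namespace Cfsg.Agent.Lib.ExtraNine17

open Matrix
open scoped Kronecker

variable {F : Type*} [Field F] {w : F}

/-- The indices of three variables. -/
abbrev I₃ : Type := ZMod 3

/-- The indices of nine variables. -/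
abbrev I₉ : Type := ZMod 3 × ZMod 3

/-- The character with base `w`. -/
def ch (w : F) (a : ZMod 3) : F := w ^ a.val

theorem ch_zero : ch w 0 = 1 := by simp [ch]

theorem ch_one : ch w 1 = w := by
  show w ^ (1 : ZMod 3).val = w
  rw [show (1 : ZMod 3).val = 1 from rfl, pow_one]

theorem ch_add (hw : IsPrimitiveRoot w 3) (a b : ZMod 3) : ch w (a + b) = ch w a * ch w b := by
  rw [ch, ch, ch, ← pow_add]
  exact pow_eq_pow_of_modEq (ZMod.val_add a b ▸ Nat.mod_modEq _ _) hw.pow_eq_one

theorem ch_mul_neg (hw : IsPrimitiveRoot w 3) (a : ZMod 3) : ch w a * ch w (-a) = 1 := by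
  rw [← ch_add hw, add_neg_cancel, ch_zero]

theorem ch_ne_zero (hw : IsPrimitiveRoot w 3) (a : ZMod 3) : ch w a ≠ 0 :=
  pow_ne_zero _ (hw.ne_zero (by norm_num))

/-- `X ^ a * Z ^ b`. -/
def em (w : F) (e : ZMod 3 × ZMod 3) : Matrix I₃ I₃ F :=
  Matrix.of fun i j => if i = j + e.1 then ch w (e.2 * j) else 0

theorem em_apply (e : ZMod 3 × ZMod 3) (i j : I₃) :
    em w e i j = if i = j + e.1 then ch w (e.2 * j) else 0 := rfl

theorem em_zero : em w 0 = 1 := by
  ext i j
  simp [em_apply, Matrix.one_apply, ch_zero]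

theorem em_mul (hw : IsPrimitiveRoot w 3) (e f : ZMod 3 × ZMod 3) :
    em w e * em w f = ch w (e.2 * f.1) • em w (e + f) := by
  ext i j
  rw [Matrix.mul_apply, Finset.sum_eq_single (j + f.1), Matrix.smul_apply, smul_eq_mul, em_apply, em_apply,
    em_apply, if_pos rfl, Prod.fst_add, Prod.snd_add, show j + (e.1 + f.1) = j + f.1 + e.1 by abel]
  · by_cases h : i = j + f.1 + e.1
    · rw [if_pos h, if_pos h, ← ch_add hw, ← ch_add hw]
      congr 1
      ring
    · rw [if_neg h, if_neg h, zero_mul, mul_zero]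
  · intro m _ hm
    rw [em_apply (j := j), if_neg hm, mul_zero]
  · intro h
    exact absurd (Finset.mem_univ _) h

/-- `X ^ a * Z ^ b` as a unit. -/
def eu (hw : IsPrimitiveRoot w 3) (e : ZMod 3 × ZMod 3) : GL I₃ F :=
  ⟨em w e, ch w (e.2 * e.1) • em w (-e),
    by rw [Matrix.mul_smul, em_mul hw, smul_smul, add_neg_cancel, em_zero, Prod.fst_neg, mul_neg,
      ch_mul_neg hw, one_smul],
    by rw [Matrix.smul_mul, em_mul hw, smul_smul, neg_add_cancel, em_zero, Prod.snd_neg, neg_mul,
      ch_mul_neg hw, one_smul]⟩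

theorem eu_coe (hw : IsPrimitiveRoot w 3) (e : ZMod 3 × ZMod 3) : (eu hw e : Matrix I₃ I₃ F) = em w e := rfl

/-- The homology fixing the second and third coordinates. -/
def hom0 (w : F) : Matrix I₃ I₃ F := diagonal fun i => if i = 0 then w else 1

/-- The homology with centre `(1, 1, 1)` commuting with the shift. -/
def hom1 (w : F) : Matrix I₃ I₃ F :=
  1 + ((w - 1) / 3) • Matrix.of fun _ _ => (1 : F)

/-- `g` normalises the group of order `27` modulo scalars. -/
def MemN3 (w : F) (g : Matrix I₃ I₃ F) : Prop :=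
  ∀ e : ZMod 3 × ZMod 3, ∃ (c : F) (e' : ZMod 3 × ZMod 3), g * em w e = c • (em w e' * g)

/-- The points of the symplectic space of dimension four. -/
abbrev Pt : Type := (ZMod 3 × ZMod 3) × (ZMod 3 × ZMod 3)

/-- The lift of a point. -/
def tm (w : F) (v : Pt) : Matrix I₉ I₉ F := em w v.1 ⊗ₖ em w v.2

theorem tm_zero : tm w 0 = 1 := by
  rw [tm, Prod.fst_zero, Prod.snd_zero, em_zero, one_kronecker_one]

/-- The twisting of the product of two lifts. -/
def cocy (v u : Pt) : ZMod 3 := v.1.2 * u.1.1 + v.2.2 * u.2.1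

theorem tm_mul (hw : IsPrimitiveRoot w 3) (v u : Pt) :
    tm w v * tm w u = ch w (cocy v u) • tm w (v + u) := by
  rw [tm, tm, ← mul_kronecker_mul, em_mul hw, em_mul hw, smul_kronecker, kronecker_smul, smul_smul,
    ← ch_add hw]
  rfl

/-- The lift of a point as a unit. -/
def tu (hw : IsPrimitiveRoot w 3) (v : Pt) : GL I₉ F :=
  ⟨tm w v, ch w (cocy v v) • tm w (-v),
    by rw [Matrix.mul_smul, tm_mul hw, smul_smul, add_neg_cancel, tm_zero, ← ch_add hw,
      show cocy v v + cocy v (-v) = 0 by simp [cocy]; ring, ch_zero, one_smul],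
    by rw [Matrix.smul_mul, tm_mul hw, smul_smul, neg_add_cancel, tm_zero, ← ch_add hw,
      show cocy v v + cocy (-v) v = 0 by simp [cocy]; ring, ch_zero, one_smul]⟩

theorem tu_coe (hw : IsPrimitiveRoot w 3) (v : Pt) : (tu hw v : Matrix I₉ I₉ F) = tm w v := rfl

/-- The standard group of order `3 ^ 5`. -/
def rstd (hw : IsPrimitiveRoot w 3) : Subgroup (GL I₉ F) where
  carrier := {g | ∃ (a : ZMod 3) (v : Pt), (g : Matrix I₉ I₉ F) = ch w a • tm w v}
  one_mem' := ⟨0, 0, by rw [ch_zero, tm_zero, one_smul]; rfl⟩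
  mul_mem' := by
    rintro g h ⟨a, v, hg⟩ ⟨b, u, hh⟩
    refine ⟨a + b + cocy v u, v + u, ?_⟩
    rw [Units.val_mul, hg, hh, Matrix.smul_mul, Matrix.mul_smul, tm_mul hw, smul_smul, smul_smul,
      ch_add hw, ch_add hw]
  inv_mem' := by
    rintro g ⟨a, v, hg⟩
    refine ⟨-a + cocy v v, -v, ?_⟩
    refine Units.inv_eq_of_mul_eq_one_right ?_
    rw [hg, Matrix.smul_mul, Matrix.mul_smul, tm_mul hw, smul_smul, smul_smul, add_neg_cancel, tm_zero,
      ← ch_add hw, ← ch_add hw, show a + (-a + cocy v v) + cocy v (-v) = 0 by simp [cocy]; ring,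
      ch_zero, one_smul]

theorem mem_rstd {hw : IsPrimitiveRoot w 3} {g : GL I₉ F} :
    g ∈ rstd hw ↔ ∃ (a : ZMod 3) (v : Pt), (g : Matrix I₉ I₉ F) = ch w a • tm w v := Iff.rfl

end Cfsg.Agent.Lib.ExtraNine17
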