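import Cfsg.Agent.Lib.ExtraNine17.Rep
import Cfsg.Agent.Lib.MaxClass.Degree

/-!
Two pairs of twisted matrices of order three give a representation of the points; the twisting of a group of
symplectic type of exponent three.
-/

set_option autoImplicit false
set_option linter.unusedSectionVars false

namespace Cfsg.Agent.Lib.ExtraNine17

open Matrix

variable {F : Type*} [Field F] {w : F} {ι : Type} [Fintype ι] [DecidableEq ι]

/-- `A ^ a * B ^ b`. -/
def pp (A B : Matrix ι ι F) (e : ZMod 3 × ZMod 3) : Matrix ι ι F := A ^ e.1.val * B ^ e.2.val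

theorem pow_val_add {A : Matrix ι ι F} (hA : A ^ 3 = 1) (i j : ZMod 3) :
    A ^ (i + j).val = A ^ i.val * A ^ j.val := by
  rw [ZMod.val_add, ← pow_add, ← pow_eq_pow_mod _ hA]

theorem pow_swap {A B : Matrix ι ι F} (h : B * A = w • (A * B)) (j i : ℕ) :
    B ^ j * A ^ i = w ^ (j * i) • (A ^ i * B ^ j) := by
  have hone : ∀ i : ℕ, B * A ^ i = w ^ i • (A ^ i * B) := by
    intro i
    induction i with
    | zero => simp
    | succ i ih =>
      rw [pow_succ, ← mul_assoc, ih, Matrix.smul_mul, mul_assoc, h, Matrix.mul_smul, smul_smul, ← mul_assoc,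
        pow_succ]
  induction j with
  | zero => simp
  | succ j ih =>
    rw [pow_succ, mul_assoc, hone, Matrix.mul_smul, ← mul_assoc, ih, Matrix.smul_mul, smul_smul, mul_assoc,
      ← pow_add, ← pow_succ, show i + j * i = (j + 1) * i by ring]

theorem pp_mul (hw : IsPrimitiveRoot w 3) {A B : Matrix ι ι F} (hA : A ^ 3 = 1) (hB : B ^ 3 = 1)
    (h : B * A = w • (A * B)) (e f : ZMod 3 × ZMod 3) :
    pp A B e * pp A B f = ch w (e.2 * f.1) • pp A B (e + f) := by
  rw [pp, pp, pp, Prod.fst_add, Prod.snd_add, pow_val_add hA, pow_val_add hB, ch_mul_val hw, mul_assoc,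
    ← mul_assoc (B ^ e.2.val), pow_swap h, Matrix.smul_mul, Matrix.mul_smul]
  simp only [mul_assoc]

theorem isRep_pp (hw : IsPrimitiveRoot w 3) {A B C D : Matrix ι ι F} (hA : A ^ 3 = 1) (hB : B ^ 3 = 1)
    (hC : C ^ 3 = 1) (hD : D ^ 3 = 1) (hBA : B * A = w • (A * B)) (hDC : D * C = w • (C * D))
    (hCA : Commute C A) (hCB : Commute C B) (hDA : Commute D A) (hDB : Commute D B) :
    IsRep w fun v : Pt => pp A B v.1 * pp C D v.2 := by
  refine ⟨by simp [pp], fun v u => ?_⟩
  have hc : Commute (pp C D v.2) (pp A B u.1) :=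
    ((hCA.pow_pow _ _).mul_right (hCB.pow_pow _ _)).mul_left ((hDA.pow_pow _ _).mul_right (hDB.pow_pow _ _))
  simp only [Prod.fst_add, Prod.snd_add, cocy]
  rw [mul_assoc, ← mul_assoc (pp C D v.2), hc.eq, mul_assoc, ← mul_assoc, pp_mul hw hA hB hBA,
    pp_mul hw hC hD hDC, Matrix.smul_mul, Matrix.mul_smul, smul_smul, ← ch_add hw]

/-- The matrix of an element of the group. -/
def mat (R : Subgroup (GL ι F)) : R →* Matrix ι ι F :=
  (Units.coeHom (Matrix ι ι F)).comp R.subtype

theorem mat_apply {R : Subgroup (GL ι F)} (x : R) : mat R x = ((x : GL ι F) : Matrix ι ι F) := rfl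

theorem mat_injective (R : Subgroup (GL ι F)) : Function.Injective (mat R) :=
  fun _ _ h => Subtype.ext (Units.ext h)

/-- A group with commutators powers of the scalar `w`, together with those scalars, in exponent three. -/
structure Twisted (w : F) (R : Subgroup (GL ι F)) (B : R → R → ZMod 3) : Prop where
  prim : IsPrimitiveRoot w 3
  cube : ∀ x : R, x ^ 3 = 1
  swap : ∀ x y : R, mat R x * mat R y = ch w (B x y) • (mat R y * mat R x)
  scal : ∃ z : R, mat R z = w • (1 : Matrix ι ι F)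
  central : ∀ x : R, (∀ y, B x y = 0) → ∃ t : ZMod 3, mat R x = ch w t • (1 : Matrix ι ι F)

namespace Twisted

variable [Nonempty ι] {R : Subgroup (GL ι F)} {B : R → R → ZMod 3}

theorem uniq (hB : Twisted w R B) {x y : R} {t : ZMod 3}
    (h : mat R x * mat R y = ch w t • (mat R y * mat R x)) : B x y = t := by
  have hne : mat R y * mat R x ≠ 0 := by
    rw [← map_mul]
    exact ((y * x : R) : GL ι F).ne_zero
  exact ch_inj_rep hB.prim (smul_left_injective F hne ((hB.swap x y).symm.trans h))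

theorem self (hB : Twisted w R B) (x : R) : B x x = 0 :=
  hB.uniq (by rw [ch_zero, one_smul])

theorem swap' (hB : Twisted w R B) (x y : R) : B y x = -B x y :=
  hB.uniq (by rw [hB.swap x y, smul_smul, mul_comm, ch_mul_neg hB.prim, one_smul])

theorem mul_left (hB : Twisted w R B) (x x' y : R) : B (x * x') y = B x y + B x' y :=
  hB.uniq (by
    rw [map_mul, mul_assoc, hB.swap x' y, Matrix.mul_smul, ← mul_assoc, hB.swap x y, Matrix.smul_mul, smul_smul,
      ← ch_add hB.prim, mul_assoc, add_comm])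

theorem one_left (hB : Twisted w R B) (y : R) : B 1 y = 0 :=
  hB.uniq (by rw [map_one, ch_zero, one_smul, one_mul, mul_one])

theorem pow_left (hB : Twisted w R B) (x y : R) (n : ℕ) : B (x ^ n) y = n * B x y := by
  induction n with
  | zero => simp [hB.one_left]
  | succ n ih => rw [pow_succ, hB.mul_left, ih]; push_cast; ring

theorem pow_val_left (hB : Twisted w R B) (x y : R) (s : ZMod 3) : B (x ^ s.val) y = s * B x y := by
  rw [hB.pow_left, ZMod.natCast_zmod_val]

theorem commute (hB : Twisted w R B) {x y : R} (h : B x y = 0) : Commute (mat R x) (mat R y) := by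
  have := hB.swap x y
  rwa [h, ch_zero, one_smul] at this

/-- The part of `x` commuting with a pair. -/
def adj (B : R → R → ZMod 3) (a b x : R) : R := x * a ^ (B x b).val * b ^ (-B x a).val

theorem adj_left (hB : Twisted w R B) {a b : R} (x y : R) :
    B (adj B a b x) y = B x y + B x b * B a y - B x a * B b y := by
  rw [adj, hB.mul_left, hB.mul_left, hB.pow_val_left, hB.pow_val_left]
  ring

theorem adj_fst (hB : Twisted w R B) {a b : R} (hba : B b a = 1) (x : R) : B (adj B a b x) a = 0 := by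
  rw [hB.adj_left, hB.self, hba]
  ring

theorem adj_snd (hB : Twisted w R B) {a b : R} (hba : B b a = 1) (x : R) : B (adj B a b x) b = 0 := by
  rw [hB.adj_left, hB.self, hB.swap' b a, hba]
  ring

theorem exists_pair (hB : Twisted w R B) {a : R} (ha : ∃ y, B a y ≠ 0) : ∃ b, B b a = 1 := by
  obtain ⟨y, hy⟩ := ha
  refine ⟨y ^ (B y a).val, ?_⟩
  rw [hB.pow_val_left]
  have : B y a ≠ 0 := by rw [hB.swap']; exact neg_ne_zero.2 hy
  revert this
  generalize B y a = t
  revert t
  decide

/-- Two commuting pairs of non-commuting elements. -/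
theorem exists_frame (hB : Twisted w R B) (hR : 27 < Nat.card R) :
    ∃ a b c d : R, B b a = 1 ∧ B d c = 1 ∧ B c a = 0 ∧ B c b = 0 ∧ B d a = 0 ∧ B d b = 0 := by
  classical
  obtain ⟨z, hz⟩ := hB.scal
  have hzt : ∀ t : ZMod 3, mat R (z ^ t.val) = ch w t • (1 : Matrix ι ι F) := fun t => by
    rw [map_pow, hz, smul_pow, one_pow]
    rfl
  have hcen : ∀ x : R, (∀ y, B x y = 0) → ∃ t : ZMod 3, x = z ^ t.val := fun x hx => by
    obtain ⟨t, ht⟩ := hB.central x hx
    exact ⟨t, mat_injective R (ht.trans (hzt t).symm)⟩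
  haveI : Finite R := Nat.finite_of_card_ne_zero (by omega)
  obtain ⟨a, ha⟩ : ∃ a : R, ∃ y, B a y ≠ 0 := by
    by_contra hno
    push Not at hno
    have hle := Nat.card_le_card_of_surjective (fun t : ZMod 3 => z ^ t.val) (fun x => by
      obtain ⟨t, ht⟩ := hcen x (hno x)
      exact ⟨t, ht.symm⟩)
    rw [Nat.card_zmod] at hle
    omega
  obtain ⟨b, hba⟩ := hB.exists_pair ha
  obtain ⟨c, hca, hcb, hc⟩ : ∃ c : R, B c a = 0 ∧ B c b = 0 ∧ ∃ y, B c y ≠ 0 := by
    by_contra hno
    push Not at hno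
    have hle := Nat.card_le_card_of_surjective
      (fun t : ZMod 3 × ZMod 3 × ZMod 3 => z ^ t.1.val * (b ^ t.2.2.val)⁻¹ * (a ^ t.2.1.val)⁻¹) (fun x => by
        obtain ⟨t, ht⟩ := hcen _ (hno (adj B a b x) (hB.adj_fst hba x) (hB.adj_snd hba x))
        refine ⟨(t, B x b, -B x a), ?_⟩
        show z ^ t.val * (b ^ (-B x a).val)⁻¹ * (a ^ (B x b).val)⁻¹ = x
        rw [← ht, adj, mul_inv_cancel_right, mul_inv_cancel_right])
    rw [Nat.card_prod, Nat.card_prod, Nat.card_zmod] at hle
    omega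
  obtain ⟨y, hyc⟩ := hB.exists_pair hc
  refine ⟨a, b, c, adj B a b y, hba, ?_, hca, hcb, hB.adj_fst hba y, hB.adj_snd hba y⟩
  rw [hB.adj_left, hB.swap' c a, hB.swap' c b, hca, hcb, hyc]
  ring

end Twisted

/-- The twisting of a group of symplectic type of exponent three in nine variables, and its order. -/
theorem exists_twisted [Fintype F] {p : ℕ} [CharP F p] (h3 : 3 ≠ p) (hι : Fintype.card ι = 9)
    {R : Subgroup (GL ι F)} (hS : Cfsg.Geo.IsSymplecticTypeGroup 3 R)
    (hirr : Cfsg.Geo.ActsAbsolutelyIrreducibly (Cfsg.Geo.matrixSet R))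
    (hZ : Nat.card (Subgroup.center R) = 3) {m : ℕ} (hcard : Nat.card R = 3 ^ (1 + 2 * m)) :
    ∃ (w : F) (B : R → R → ZMod 3), Twisted w R B ∧ Nat.card R = 243 := by
  classical
  haveI : Nonempty ι := Fintype.card_pos_iff.1 (by omega)
  haveI := Fact.mk (by norm_num : Nat.Prime 3)
  have hexp : Monoid.exponent R = 3 := by
    rw [hS.exponent_eq]
    norm_num
  have hdeg := MaxClass.symplecticType_degree h3 hS hirr hZ (hexp ▸ dvd_rfl) (m := m)
    (by rw [hcard, pow_add, pow_one])
  rw [hι] at hdeg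
  have hm : m = 2 := Nat.pow_right_injective (by norm_num) (show 3 ^ m = 3 ^ 2 by rw [← hdeg])
  have hclass := MaxClass.commutator_le_center_of_exponent hS.pGroup hS.cyclic_of_characteristic
    (by rw [hexp, hZ])
  have hcube : ∀ x : R, x ^ 3 = 1 := fun x =>
    (congrArg (fun n => x ^ n) hexp).symm.trans (Monoid.pow_exponent_eq_one x)
  obtain ⟨i₀⟩ := (inferInstance : Nonempty ι)
  have hsc : ∀ x : R, x ∈ Subgroup.center R → ∃ k : F, k ^ 3 = 1 ∧ mat R x = k • (1 : Matrix ι ι F) := by
    intro x hx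
    obtain ⟨k, hk⟩ := hirr.2 (mat R x) (by
      rintro _ ⟨g, hg, rfl⟩
      exact congrArg (mat R) ((Subgroup.mem_center_iff.1 hx ⟨g, hg⟩).symm))
    refine ⟨k, ?_, hk⟩
    have h := congrArg (mat R) (hcube x)
    rw [map_pow, hk, map_one, smul_pow, one_pow] at h
    simpa using congrFun (congrFun h i₀) i₀
  haveI : Nontrivial (Subgroup.center R) :=
    Finite.one_lt_card_iff_nontrivial.1 (by rw [hZ]; norm_num)
  obtain ⟨z, hz1⟩ := exists_ne (1 : Subgroup.center R)
  obtain ⟨w, hw3, hzw⟩ := hsc z.1 z.2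
  have hw1 : w ≠ 1 := fun h => hz1 (Subtype.ext (mat_injective R (by rw [hzw, h, one_smul]; exact (map_one _).symm)))
  have hw : IsPrimitiveRoot w 3 := by
    rw [← orderOf_eq_prime hw3 hw1]
    exact IsPrimitiveRoot.orderOf w
  have hcen : ∀ x : R, x ∈ Subgroup.center R → ∃ t : ZMod 3, mat R x = ch w t • (1 : Matrix ι ι F) := by
    intro x hx
    obtain ⟨k, hk3, hk⟩ := hsc x hx
    obtain ⟨i, hi, rfl⟩ := hw.eq_pow_of_pow_eq_one hk3
    exact ⟨(i : ZMod 3), by rw [hk, ch, ZMod.val_natCast, Nat.mod_eq_of_lt hi]⟩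
  choose B hB using fun x y : R => hcen (x * y * x⁻¹ * y⁻¹)
    (hclass (Subgroup.commutator_mem_commutator (Subgroup.mem_top x) (Subgroup.mem_top y)))
  have hswap : ∀ x y : R, mat R x * mat R y = ch w (B x y) • (mat R y * mat R x) := fun x y => by
    have h : x * y = x * y * x⁻¹ * y⁻¹ * (y * x) := by group
    rw [← map_mul, h, map_mul, hB, map_mul, Matrix.smul_mul, one_mul]
  refine ⟨w, B, ⟨hw, hcube, hswap, ⟨z.1, hzw⟩, fun x hx => hcen x ?_⟩, by rw [hcard, hm]; norm_num⟩
  refine Subgroup.mem_center_iff.2 fun y => mat_injective R ?_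
  have h := hswap x y
  rw [hx, ch_zero, one_smul] at h
  rw [map_mul, map_mul, h]

end Cfsg.Agent.Lib.ExtraNine17
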