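import Cfsg.Agent.Lib.ExtraNine17.Defs
import Cfsg.Agent.Lib.Aschbacher.Tensor

/-!
Projective representations of the points with the twisting `cocy` in nine variables: the lifts form a basis of the
matrix algebra, so any two of them differ by a change of basis.
-/

set_option autoImplicit false
set_option linter.unusedSectionVars false

namespace Cfsg.Agent.Lib.ExtraNine17

open Matrix
open Cfsg.Agent.Lib.Aschbacher (conjM conjM_apply)

variable {F : Type*} [Field F] {w : F} {ι : Type} [Fintype ι] [DecidableEq ι]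

/-- A family of matrices multiplying like the lifts of the points. -/
structure IsRep (w : F) (M : Pt → Matrix ι ι F) : Prop where
  map_zero : M 0 = 1
  map_mul : ∀ v u, M v * M u = ch w (cocy v u) • M (v + u)

theorem isRep_tm (hw : IsPrimitiveRoot w 3) : IsRep w (tm w) := ⟨tm_zero, tm_mul hw⟩

theorem ch_inj_rep (hw : IsPrimitiveRoot w 3) {a b : ZMod 3} (h : ch w a = ch w b) : a = b :=
  ZMod.val_injective 3 (hw.pow_inj (ZMod.val_lt a) (ZMod.val_lt b) h)

theorem ch_mul_val (hw : IsPrimitiveRoot w 3) (a b : ZMod 3) :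
    ch w (a * b) = w ^ (a.val * b.val) :=
  pow_eq_pow_of_modEq (ZMod.val_mul a b ▸ Nat.mod_modEq _ _) hw.pow_eq_one

/-- A point meeting a given one in a non-trivial commutator. -/
theorem exists_twist {v : Pt} (hv : v ≠ 0) : ∃ u : Pt, cocy u v - cocy v u ≠ 0 := by
  by_contra hno
  push Not at hno
  obtain ⟨⟨i, j⟩, k, l⟩ := v
  have h1 := hno ((1, 0), (0, 0))
  have h2 := hno ((0, 1), (0, 0))
  have h3 := hno ((0, 0), (1, 0))
  have h4 := hno ((0, 0), (0, 1))
  simp [cocy] at h1 h2 h3 h4
  exact hv (by rw [h1, h2, h3, h4]; rfl)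

namespace IsRep

variable {M : Pt → Matrix ι ι F}

theorem mul_neg (hw : IsPrimitiveRoot w 3) (hM : IsRep w M) (v : Pt) :
    M v * (ch w (cocy v v) • M (-v)) = 1 := by
  rw [Matrix.mul_smul, hM.map_mul, smul_smul, add_neg_cancel, hM.map_zero, ← ch_add hw,
    show cocy v v + cocy v (-v) = 0 by simp [cocy]; ring, ch_zero, one_smul]

theorem neg_mul (hw : IsPrimitiveRoot w 3) (hM : IsRep w M) (v : Pt) :
    (ch w (cocy v v) • M (-v)) * M v = 1 := by
  rw [Matrix.smul_mul, hM.map_mul, smul_smul, neg_add_cancel, hM.map_zero, ← ch_add hw,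
    show cocy v v + cocy (-v) v = 0 by simp [cocy]; ring, ch_zero, one_smul]

theorem mul_eq_swap (hw : IsPrimitiveRoot w 3) (hM : IsRep w M) (u v : Pt) :
    M u * M v = ch w (cocy u v - cocy v u) • (M v * M u) := by
  rw [hM.map_mul, hM.map_mul, smul_smul, ← ch_add hw, sub_add_cancel, add_comm u v]

theorem trace_eq_zero (hw : IsPrimitiveRoot w 3) (hM : IsRep w M) {v : Pt} (hv : v ≠ 0) :
    (M v).trace = 0 := by
  obtain ⟨u, hu⟩ := exists_twist hv
  have h1 : M u * M v * (ch w (cocy u u) • M (-u)) = ch w (cocy u v - cocy v u) • M v := by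
    rw [hM.mul_eq_swap hw, Matrix.smul_mul, mul_assoc, hM.mul_neg hw, mul_one]
  have h2 := congrArg Matrix.trace h1
  rw [Matrix.trace_mul_cycle, hM.neg_mul hw, one_mul, Matrix.trace_smul, smul_eq_mul] at h2
  by_contra h
  have h3 : ch w (cocy u v - cocy v u) = 1 := (mul_eq_right₀ h).1 h2.symm
  exact hu (ch_inj_rep hw (h3.trans ch_zero.symm))

theorem linearIndependent (hw : IsPrimitiveRoot w 3) (hM : IsRep w M) (hn : (Fintype.card ι : F) ≠ 0) :
    LinearIndependent F M := by
  rw [Fintype.linearIndependent_iff]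
  intro g hg v₀
  have h := congrArg (fun X => (X * (ch w (cocy v₀ v₀) • M (-v₀))).trace) hg
  simp only [Matrix.sum_mul, Matrix.smul_mul, Matrix.trace_sum, Matrix.zero_mul, Matrix.trace_zero,
    Matrix.trace_smul, smul_eq_mul] at h
  rw [Finset.sum_eq_single v₀] at h
  · rw [hM.mul_neg hw, Matrix.trace_one] at h
    exact (mul_eq_zero.1 h).resolve_right hn
  · intro v _ hv
    have hne : v + -v₀ ≠ 0 := fun e => hv (by rwa [← sub_eq_add_neg, sub_eq_zero] at e)
    rw [Matrix.mul_smul, hM.map_mul, smul_smul, Matrix.trace_smul, hM.trace_eq_zero hw hne, smul_zero,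
      mul_zero]
  · intro h'
    exact absurd (Finset.mem_univ _) h'

theorem card_pt_eq (hι : Fintype.card ι = 9) :
    Fintype.card Pt = Module.finrank F (Matrix ι ι F) := by
  rw [Module.finrank_matrix, Module.finrank_self, mul_one, hι]
  simp

/-- The lifts as a basis. -/
noncomputable def basis (hw : IsPrimitiveRoot w 3) (hM : IsRep w M) (hι : Fintype.card ι = 9)
    (hn : (Fintype.card ι : F) ≠ 0) : Module.Basis Pt F (Matrix ι ι F) :=
  basisOfLinearIndependentOfCardEqFinrank (hM.linearIndependent hw hn) (card_pt_eq hι)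

theorem basis_apply (hw : IsPrimitiveRoot w 3) (hM : IsRep w M) (hι : Fintype.card ι = 9)
    (hn : (Fintype.card ι : F) ≠ 0) (v : Pt) : hM.basis hw hι hn v = M v := by
  simp [basis]

/-- What commutes with all the lifts is scalar. -/
theorem scalar_of_commute (hw : IsPrimitiveRoot w 3) (hM : IsRep w M) (hι : Fintype.card ι = 9)
    (hn : (Fintype.card ι : F) ≠ 0) {X : Matrix ι ι F} (hX : ∀ v, X * M v = M v * X) :
    ∃ c : F, X = c • 1 := by
  have hall : ∀ Y : Matrix ι ι F, X * Y = Y * X := fun Y => by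
    rw [← (hM.basis hw hι hn).sum_repr Y]
    simp only [Matrix.mul_sum, Matrix.sum_mul, Matrix.mul_smul, Matrix.smul_mul, hM.basis_apply hw hι hn, hX]
  obtain ⟨c, hc⟩ := Matrix.mem_range_scalar_of_commute_single (M := X)
    (fun i j _ => (hall (Matrix.single i j 1)).symm)
  exact ⟨c, by rw [← hc]; simp [Matrix.smul_one_eq_diagonal]⟩

end IsRep

/-- A representation of the points in nine variables is a change of basis of the standard one. -/
theorem exists_frame (hw : IsPrimitiveRoot w 3) {M : Pt → Matrix (Fin 9) (Fin 9) F} (hM : IsRep w M)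
    (h9 : (9 : F) ≠ 0) (e : I₉ ≃ Fin 9) :
    ∃ C : GL (Fin 9) F, ∀ v, conjM C (Matrix.reindexAlgEquiv F F e (tm w v)) = M v := by
  classical
  have hn' : (Fintype.card (Fin 9) : F) ≠ 0 := by simpa using h9
  have hι : Fintype.card I₉ = 9 := by simp [I₉]
  have hn : (Fintype.card I₉ : F) ≠ 0 := by rw [hι]; simpa using h9
  let bN := (isRep_tm hw).basis hw hι hn
  let L : Matrix I₉ I₉ F →ₗ[F] Matrix (Fin 9) (Fin 9) F := bN.constr F M
  have hL : ∀ v, L (tm w v) = M v := fun v => by
    rw [← (isRep_tm hw).basis_apply hw hι hn v]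
    exact bN.constr_basis F M v
  have hL1 : L 1 = 1 := by rw [← tm_zero (w := w), hL, hM.map_zero]
  have hLmul : ∀ X Y, L (X * Y) = L X * L Y := by
    have key : (LinearMap.mul F (Matrix I₉ I₉ F)).compr₂ L =
        ((LinearMap.mul F (Matrix (Fin 9) (Fin 9) F)).comp L).compl₂ L := by
      refine bN.ext fun v => bN.ext fun u => ?_
      simp only [LinearMap.compr₂_apply, LinearMap.compl₂_apply, LinearMap.comp_apply,
        LinearMap.mul_apply', bN, IsRep.basis_apply]
      rw [tm_mul hw, map_smul, hL, hL, hL, hM.map_mul]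
    exact fun X Y => LinearMap.congr_fun (LinearMap.congr_fun key X) Y
  let α : Matrix (Fin 9) (Fin 9) F →ₐ[F] Matrix (Fin 9) (Fin 9) F :=
    (AlgHom.ofLinearMap L hL1 hLmul).comp (Matrix.reindexAlgEquiv F F e).symm.toAlgHom
  obtain ⟨C, hC⟩ := Aschbacher.exists_inner α
  refine ⟨C, fun v => ?_⟩
  rw [← hC]
  show L ((Matrix.reindexAlgEquiv F F e).symm (Matrix.reindexAlgEquiv F F e (tm w v))) = M v
  rw [AlgEquiv.symm_apply_apply, hL]

end Cfsg.Agent.Lib.ExtraNine17
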