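import Cfsg.Agent.Lib.ExtraNine17.Frame

/-!
A group of symplectic type of order `3 ^ 5` in `GL_9` over a prime field is a change of basis of the standard one.
-/

set_option autoImplicit false
set_option linter.unusedSectionVars false

namespace Cfsg.Agent.Lib.ExtraNine17

open Matrix
open Cfsg.Agent.Lib.Aschbacher (conjM conjM_apply conjM_coe)

variable {F : Type*} [Field F]

theorem exists_map_eq {w : F} (hw : IsPrimitiveRoot w 3) (h9 : (9 : F) ≠ 0) {R : Subgroup (GL (Fin 9) F)}
    {B : R → R → ZMod 3} (hB : Twisted w R B) (hcard : Nat.card R = 243) :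
    ∃ Φ : GL I₉ F ≃* GL (Fin 9) F,
      (∀ x, Matrix.GeneralLinearGroup.det (Φ x) = Matrix.GeneralLinearGroup.det x) ∧
      (rstd hw).map Φ.toMonoidHom = R := by
  classical
  obtain ⟨a, b, c, d, hba, hdc, hca, hcb, hda, hdb⟩ := hB.exists_frame (by omega)
  have hA : ∀ x : R, mat R x ^ 3 = 1 := fun x => by rw [← map_pow, hB.cube, map_one]
  have hba' : mat R b * mat R a = w • (mat R a * mat R b) := by rw [hB.swap b a, hba, ch_one]
  have hdc' : mat R d * mat R c = w • (mat R c * mat R d) := by rw [hB.swap d c, hdc, ch_one]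
  let M : Pt → Matrix (Fin 9) (Fin 9) F :=
    fun v => pp (mat R a) (mat R b) v.1 * pp (mat R c) (mat R d) v.2
  have hM : IsRep w M := isRep_pp hw (hA a) (hA b) (hA c) (hA d) hba' hdc' (hB.commute hca) (hB.commute hcb)
    (hB.commute hda) (hB.commute hdb)
  let e : I₉ ≃ Fin 9 := Fintype.equivFinOfCardEq (by simp [I₉])
  obtain ⟨C, hC⟩ := exists_frame hw hM h9 e
  let Φ : GL I₉ F ≃* GL (Fin 9) F := (Cfsg.Geo.glReindex e).trans (MulAut.conj C)
  have hΦ : ∀ g : GL I₉ F, ((Φ g : GL (Fin 9) F) : Matrix (Fin 9) (Fin 9) F) =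
      conjM C (Matrix.reindexAlgEquiv F F e (g : Matrix I₉ I₉ F)) := fun g => by
    rw [conjM_apply]
    rfl
  refine ⟨Φ, fun x => ?_, ?_⟩
  · show Matrix.GeneralLinearGroup.det (C * _ * C⁻¹) = _
    rw [map_mul, map_mul, map_inv, mul_right_comm, mul_inv_cancel, one_mul]
    apply Units.ext
    rw [Matrix.GeneralLinearGroup.val_det_apply, Matrix.GeneralLinearGroup.val_det_apply]
    exact Matrix.det_reindex_self e (x : Matrix I₉ I₉ F)
  obtain ⟨z, hz⟩ := hB.scal
  have hzt : ∀ t : ZMod 3, mat R (z ^ t.val) = ch w t • (1 : Matrix (Fin 9) (Fin 9) F) := fun t => by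
    rw [map_pow, hz, smul_pow, one_pow]
    rfl
  let u : Pt → R := fun v => a ^ v.1.1.val * b ^ v.1.2.val * (c ^ v.2.1.val * d ^ v.2.2.val)
  have hu : ∀ v, mat R (u v) = M v := fun v => by simp only [u, M, pp, map_mul, map_pow]
  apply le_antisymm
  · rintro _ ⟨g, hg, rfl⟩
    obtain ⟨t, v, hgv⟩ := hg
    have hval : ((Φ g : GL (Fin 9) F) : Matrix (Fin 9) (Fin 9) F) = mat R (z ^ t.val * u v) := by
      rw [hΦ, hgv, map_smul, map_smul, hC, map_mul, hzt, hu, Matrix.smul_mul, one_mul]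
    show Φ g ∈ R
    rw [show Φ g = ((z ^ t.val * u v : R) : GL (Fin 9) F) from Units.ext hval]
    exact (z ^ t.val * u v).2
  · set H := (rstd hw).map Φ.toMonoidHom with hH
    have hmem : ∀ (x : R) (t : ZMod 3) (v : Pt), mat R x = ch w t • M v → (x : GL (Fin 9) F) ∈ H := by
      intro x t v hx
      let g : GL I₉ F := Φ.symm (x : GL (Fin 9) F)
      refine ⟨g, ⟨t, v, ?_⟩, Φ.apply_symm_apply _⟩
      apply (Matrix.reindexAlgEquiv F F e).injective
      apply (conjM C).injective
      rw [← hΦ, Φ.apply_symm_apply, map_smul, map_smul, hC, ← mat_apply, hx]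
    intro x hx
    let y : R := Twisted.adj B c d (Twisted.adj B a b ⟨x, hx⟩)
    have hya : B y a = 0 := by
      rw [hB.adj_left, hB.adj_fst hba, hca, hda]
      ring
    have hyb : B y b = 0 := by
      rw [hB.adj_left, hB.adj_snd hba, hcb, hdb]
      ring
    have hyc : B y c = 0 := hB.adj_fst hdc _
    have hyd : B y d = 0 := hB.adj_snd hdc _
    have hycomm : ∀ v, mat R y * M v = M v * mat R y := fun v =>
      ((((hB.commute hya).pow_right _).mul_right ((hB.commute hyb).pow_right _)).mul_right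
        (((hB.commute hyc).pow_right _).mul_right ((hB.commute hyd).pow_right _))).eq
    have hn : (Fintype.card (Fin 9) : F) ≠ 0 := by simpa using h9
    obtain ⟨k, hk⟩ := hM.scalar_of_commute hw (Fintype.card_fin 9) hn hycomm
    obtain ⟨t, ht⟩ := hB.central y fun g => hB.uniq (by
      rw [hk, ch_zero, one_smul, Matrix.smul_mul, Matrix.mul_smul, one_mul, mul_one])
    have hyH : (y : GL (Fin 9) F) ∈ H := hmem y t 0 (by rw [ht, hM.map_zero])
    have hone : (1 : ZMod 3).val = 1 := rfl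
    have haH : (a : GL (Fin 9) F) ∈ H := hmem a 0 ((1, 0), (0, 0)) (by simp [ch_zero, M, pp, hone])
    have hbH : (b : GL (Fin 9) F) ∈ H := hmem b 0 ((0, 1), (0, 0)) (by simp [ch_zero, M, pp, hone])
    have hcH : (c : GL (Fin 9) F) ∈ H := hmem c 0 ((0, 0), (1, 0)) (by simp [ch_zero, M, pp, hone])
    have hdH : (d : GL (Fin 9) F) ∈ H := hmem d 0 ((0, 0), (0, 1)) (by simp [ch_zero, M, pp, hone])
    simp only [y, Twisted.adj, Subgroup.coe_mul, SubmonoidClass.coe_pow] at hyH
    rwa [H.mul_mem_cancel_right (pow_mem hdH _), H.mul_mem_cancel_right (pow_mem hcH _),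
      H.mul_mem_cancel_right (pow_mem hbH _), H.mul_mem_cancel_right (pow_mem haH _)] at hyH

/-- A group of symplectic type of exponent three in nine variables over a prime field is a standard one. -/
theorem exists_std {F : Type*} [Field F] [Fintype F] (p : ℕ) (hp : p.Prime) (hF : Fintype.card F = p)
    (h3 : p % 3 = 1) (R : Subgroup (GL (Fin 9) F)) (hR : Cfsg.Geo.IsLinearSymplecticTypeData 3 R) :
    ∃ (w : F) (hw : IsPrimitiveRoot w 3) (Φ : GL I₉ F ≃* GL (Fin 9) F),
      (∀ x, Matrix.GeneralLinearGroup.det (Φ x) = Matrix.GeneralLinearGroup.det x) ∧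
      (rstd hw).map Φ.toMonoidHom = R := by
  haveI := Fact.mk hp
  haveI : CharP F p := charP_of_card_eq_prime hF
  obtain ⟨q, k, -, -, hcases⟩ := hR.field
  obtain ⟨-, -, hZ, m, -, hm⟩ | ⟨h2, -⟩ | ⟨h2, -⟩ := hcases
  · have h3F : (3 : F) ≠ 0 := by
      intro h
      have h' : ((3 : ℕ) : F) = 0 := by exact_mod_cast h
      rw [CharP.cast_eq_zero_iff F p, Nat.prime_dvd_prime_iff_eq hp Nat.prime_three] at h'
      omega
    have h9 : (9 : F) ≠ 0 := by
      rw [show (9 : F) = 3 * 3 by norm_num]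
      exact mul_ne_zero h3F h3F
    obtain ⟨w, B, hB, hcard⟩ := exists_twisted (p := p) (by omega) (Fintype.card_fin 9) hR.symplecticType
      hR.absIrred hZ hm
    obtain ⟨Φ, hdet, hmap⟩ := exists_map_eq hB.prim h9 hB hcard
    exact ⟨w, hB.prim, Φ, hdet, hmap⟩
  · exact absurd h2 (by norm_num)
  · exact absurd h2 (by norm_num)

end Cfsg.Agent.Lib.ExtraNine17
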